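import Groth.Prelude.Def_SGA3x
import Groth.Agent.Sga3B.TorusBc
import Groth.Agent.Sga3B.AlgBc2

/-!
# Base change and fpqc descent of groups of multiplicative type
-/

set_option autoImplicit false
universe u
open CategoryTheory MonoidalCategory CartesianMonoidalCategory MonObj GrpObj AlgebraicGeometry

namespace K18.MTDesc

open Groth.Agent.Sga3B Groth.Agent.Sga3B.TorusAlgClosed Groth.Agent.Sga3B.TorusBc

variable {S S' : Scheme.{u}}

/-- Being of multiplicative type is invariant under isomorphisms. -/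
lemma isMultTypeFT_of_iso {T T' : Over S} [GrpObj T] [GrpObj T'] (e : Grp.mk T ≅ Grp.mk T')
    (h : SGA3x.IsMultTypeFT T) : SGA3x.IsMultTypeFT T' := by
  obtain ⟨S', f, hf, hs, hc, h⟩ := h
  refine ⟨S', f, hf, hs, hc, fun s' => ?_⟩
  obtain ⟨U, hU, M, _, hM, ⟨i⟩⟩ := h s'
  exact ⟨U, hU, M, inferInstance, hM, ⟨(BcIso.bcMapIso (U.ι ≫ f) e).symm ≪≫ i⟩⟩

/-- **Base change of groups of multiplicative type** along an arbitrary morphism. -/
theorem isMultTypeFT_bc (g : S' ⟶ S) {T : Over S} [GrpObj T] (h : SGA3x.IsMultTypeFT T) :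
    SGA3x.IsMultTypeFT (Red.bc g T) := by
  obtain ⟨X, p, hf, hs, hc, h⟩ := h
  refine ⟨Limits.pullback g p, Limits.pullback.fst g p, inferInstance, inferInstance, qc_cover_bc p g hc, fun x => ?_⟩
  obtain ⟨U, hU, M, _, hM, hr⟩ := h (Limits.pullback.snd g p x)
  refine ⟨(Limits.pullback.snd g p) ⁻¹ᵁ U, hU, M, inferInstance, hM, ?_⟩
  have e1 : ((Limits.pullback.snd g p) ⁻¹ᵁ U).ι ≫ Limits.pullback.fst g p ≫ g =
      ((Limits.pullback.snd g p) ∣_ U) ≫ U.ι ≫ p := by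
    rw [Limits.pullback.condition, morphismRestrict_ι_assoc]
  have e2 : Red.IsSplitTorusWith M _ := isSplitTorusWith_bc ((Limits.pullback.snd g p) ∣_ U) hr
  refine isSplitTorusWith_of_iso ?_ e2
  exact (BcIso.bcCompIso _ _ _).symm ≪≫ BcIso.bcCongrIso (by rw [← e1, Category.assoc]) T ≪≫ BcIso.bcCompIso _ _ _

/-- **Groups of multiplicative type descend** along fpqc covers. -/
theorem isMultTypeFT_of_bc (f : S' ⟶ S) [Flat f] [Surjective f]
    (hc : ∀ V : S.Opens, IsAffineOpen V → ∃ W : S'.Opens, IsCompact (W : Set S') ∧ f.base '' (W : Set S') = (V : Set S))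
    {T : Over S} [GrpObj T] (h : SGA3x.IsMultTypeFT (Red.bc f T)) : SGA3x.IsMultTypeFT T := by
  obtain ⟨X, p, hp, hs, hcp, h⟩ := h
  refine ⟨X, p ≫ f, inferInstance, inferInstance, fun V hV => ?_, fun x => ?_⟩
  · obtain ⟨W, hW, hWV⟩ := hc V hV
    obtain ⟨W', hW', hWW'⟩ := AlgBc.qc_cover_of_isCompact p hcp W hW
    refine ⟨W', hW', ?_⟩
    have e : (p ≫ f).base = f.base ∘ p.base := by ext x; simp
    rw [e, Set.image_comp, hWW', hWV]
  · obtain ⟨U, hU, M, _, hM, hr⟩ := h x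
    refine ⟨U, hU, M, inferInstance, hM, isSplitTorusWith_of_iso ?_ hr⟩
    exact (BcIso.bcCompIso (U.ι ≫ p) f T).symm ≪≫ BcIso.bcCongrIso (Category.assoc _ _ _) T

/-- A torus is of multiplicative type. -/
theorem isMultTypeFT_of_isTorus {T : Over S} [GrpObj T] (h : Red.IsTorus T) : SGA3x.IsMultTypeFT T := by
  obtain ⟨X, p, hp, hs, hcp, h⟩ := h
  refine ⟨X, p, hp, hs, hcp, fun x => ?_⟩
  obtain ⟨U, hU, r, hr⟩ := h x
  refine ⟨U, hU, Fin r → ℤ, inferInstance, ?_, hr⟩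
  rw [← Module.Finite.iff_addGroup_fg]
  infer_instance

end K18.MTDesc
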