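import Groth.Agent.Sga3B.MT.MemAt

/-!
# Points of base changes in terms of morphisms of schemes

`rawPt`: an `X`-point of `bc f G` (`X` over `S'`) is a morphism `X ⟶ G` of schemes over `S`.
-/

set_option autoImplicit false
universe u
open CategoryTheory MonoidalCategory CartesianMonoidalCategory MonObj GrpObj AlgebraicGeometry Limits

namespace K18.Raw

open Groth.Agent.Sga3B Groth.Agent.Sga3B.BcPts Groth.Agent.Sga3B.MT

variable {S S' X : Scheme.{u}} {f : S' ⟶ S} {G H : Over S} {T : Over S'}

/-- two points of a base change over `X` agree if their underlying points agree -/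
lemma bc_hom_ext {x : X ⟶ S} {Z : Over X} {u v : Z ⟶ Red.bc x G}
    (h : u.left ≫ pullback.fst G.hom x = v.left ≫ pullback.fst G.hom x) : u = v := by
  ext1
  refine pullback.hom_ext h ?_
  exact (Over.w u).trans (Over.w v).symm

lemma map_left_fst {x : X ⟶ S} (g : G ⟶ H) :
    ((Over.pullback x).map g).left ≫ pullback.fst H.hom x = pullback.fst G.hom x ≫ g.left := by
  simp only [Over.pullback_map_left]
  erw [pullback.lift_fst]

lemma bcEquiv_left_fst {x : X ⟶ S} {Z : Over X} (g : (Over.map x).obj Z ⟶ G) :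
    (bcEquiv x Z G g).left ≫ pullback.fst G.hom x = g.left := by
  simp only [bcEquiv, Adjunction.homEquiv_unit, Over.comp_left, Category.assoc, Over.pullback_map_left,
    Over.mapPullbackAdj_unit_app]
  erw [pullback.lift_fst, pullback.lift_fst_assoc]
  simp

lemma bcEquiv_symm_left {x : X ⟶ S} {Z : Over X} (g : Z ⟶ Red.bc x G) :
    ((bcEquiv x Z G).symm g).left = g.left ≫ pullback.fst G.hom x := by
  conv_rhs => rw [← (bcEquiv x Z G).apply_symm_apply g]
  rw [bcEquiv_left_fst]

/-- `MemAt` in terms of morphisms of schemes -/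
lemma memAt_iff_raw (t : T ⟶ Red.bc f G) {X : Over S} (a : X ⟶ Over.mk f) (g : X ⟶ G) :
    MemAt t a g ↔ ∃ τ : X.left ⟶ T.left, τ ≫ T.hom = a.left ∧
      τ ≫ t.left ≫ pullback.fst G.hom f = g.left := by
  rw [memAt_iff]
  have h0 : (bcPt a g).left ≫ pullback.fst G.hom f = g.left := by
    rw [bcPt, bcEquiv_left_fst, Over.comp_left, overIso_hom_left]
    exact Category.id_comp _
  constructor
  · rintro ⟨x, hx⟩
    refine ⟨x.left, Over.w x, ?_⟩
    rw [← Category.assoc, ← Over.comp_left, hx, h0]
  · rintro ⟨τ, h1, h2⟩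
    refine ⟨Over.homMk τ h1, bc_hom_ext ?_⟩
    rw [h0, Over.comp_left, Category.assoc]
    exact h2

end K18.Raw
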