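import Groth.Prelude.Def_SGA3x
import Groth.Agent.SGA3x.K18.Raw
import Groth.Agent.Sga7.H758.FieldHom
import Groth.Agent.Sga3.H799.FibCrit
import Groth.Agent.Sga3B.CentNorm900
import Groth.Agent.Sga3B.SmoothNear

/-!
# Kit: inverse images of subgroups, geometric fibres

* `surjective_of_geomPt`, `flat_of_geomPt`: a homomorphism of group schemes surjective on geometric fibres is
  surjective, and flat if the target is smooth;
* `exists_grpObj_pullback`; `smooth_of_geomFibre`; `central_bc'`.
-/

set_option autoImplicit false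
universe u
open CategoryTheory MonoidalCategory CartesianMonoidalCategory MonObj GrpObj AlgebraicGeometry Limits

namespace K18.PbKit

open Groth.Agent Groth.Agent.Sga3B Groth.Agent.Sga3.H799

variable {S : Scheme.{u}}

lemma geomPt_closedPoint (s : S) : Red.geomPt s (IsLocalRing.closedPoint _) = s := by
  have h : Red.geomPt s (IsLocalRing.closedPoint _) ∈ Set.range (S.fromSpecResidueField s) := ⟨_, rfl⟩
  rw [Scheme.range_fromSpecResidueField] at h
  exact h

/-- geometrically fibrewise surjective implies surjective -/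
theorem surjective_of_geomPt {X Y : Over S} (f : X ⟶ Y)
    (hf : ∀ s : S, Surjective ((Over.pullback (Red.geomPt s)).map f).left) : Surjective f.left := by
  constructor
  intro y
  let s := Y.hom y
  obtain ⟨y', hy', -⟩ := Scheme.Pullback.exists_preimage_pullback (f := Y.hom) (g := Red.geomPt s) y
    (IsLocalRing.closedPoint _) (by rw [geomPt_closedPoint])
  obtain ⟨x', hx'⟩ := (hf s).surj y'
  refine ⟨pullback.fst X.hom (Red.geomPt s) x', ?_⟩
  have h1 : ((Over.pullback (Red.geomPt s)).map f).left ≫ pullback.fst Y.hom (Red.geomPt s) =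
      pullback.fst X.hom (Red.geomPt s) ≫ f.left := Raw.map_left_fst f
  have h2 := congrArg (fun g => g x') h1
  simp only [Scheme.Hom.comp_apply] at h2
  rw [← h2, hx', hy']

/-- a homomorphism to a smooth group which is surjective on geometric fibres is flat -/
theorem flat_of_geomPt {G G' : Over S} [GrpObj G] [GrpObj G'] [Flat G.hom] [LocallyOfFinitePresentation G.hom]
    [QuasiCompact G.hom] [Smooth G'.hom] [IsSeparated G'.hom] (u : G ⟶ G') [IsMonHom u]
    (hu : ∀ s : S, Surjective ((Over.pullback (Red.geomPt s)).map u).left) : Flat u.left := by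
  refine FibCrit.flat_of_points u fun s => ⟨_, _, Red.geomPt s, geomPt_closedPoint s, ?_⟩
  have : Smooth (Red.bc (Red.geomPt s) G').hom := inferInstanceAs (Smooth (pullback.snd _ _))
  have : IsSeparated (Red.bc (Red.geomPt s) G').hom := inferInstanceAs (IsSeparated (pullback.snd _ _))
  have : QuasiCompact (Red.bc (Red.geomPt s) G).hom := inferInstanceAs (QuasiCompact (pullback.snd _ _))
  have : Surjective ((Over.pullback (Red.geomPt s)).map u).left := hu s
  have : QuasiCompact ((Over.pullback (Red.geomPt s)).map u).left := by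
    have h1 : QuasiCompact (((Over.pullback (Red.geomPt s)).map u).left ≫ (Red.bc (Red.geomPt s) G').hom) := by
      have := Over.w ((Over.pullback (Red.geomPt s)).map u)
      erw [this]
      infer_instance
    exact QuasiCompact.of_comp _ (Red.bc (Red.geomPt s) G').hom
  have : IsReduced (Red.bc (Red.geomPt s) G').left := Flat2B.SmoothGeom.isReduced_of_smooth (Red.bc (Red.geomPt s) G').hom
  have : IsLocallyNoetherian (Red.bc (Red.geomPt s) G').left :=
    LocallyOfFiniteType.isLocallyNoetherian (Red.bc (Red.geomPt s) G').hom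
  exact Sga7.H758.FieldHom.flat_of_surjective _ ((Over.pullback (Red.geomPt s)).map u)

/-- the pullback of a subgroup is a group -/
theorem exists_grpObj_pullback {G G' C C' : Over S} [GrpObj G] [GrpObj G'] [GrpObj C'] (u : G ⟶ G') [IsMonHom u]
    (c' : C' ⟶ G') [IsMonHom c'] [Mono c'] {c : C ⟶ G} {w : C ⟶ C'} (sq : IsPullback c w u c') :
    ∃ _ : GrpObj C, IsMonHom c ∧ IsMonHom w := by
  have hm : Mono c := MorphismProperty.of_isPullback (P := MorphismProperty.monomorphisms _) sq.flip
    (inferInstanceAs (Mono c'))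
  obtain ⟨_, h⟩ := CentNorm900.exists_grpObj c (fun X g => ∃ y : X ⟶ C', y ≫ c' = g ≫ u)
    (fun X g => ⟨fun ⟨z, hz⟩ => ⟨z ≫ w, by rw [Category.assoc, ← sq.w, ← Category.assoc, hz]⟩,
      fun ⟨y, hy⟩ => ⟨sq.lift g y hy.symm, sq.lift_fst _ _ _⟩⟩)
    (fun X g h ⟨y, hy⟩ ⟨z, hz⟩ => ⟨y * z, by rw [MonObj.mul_comp, MonObj.mul_comp, hy, hz]⟩)
    (fun X => ⟨1, by rw [MonObj.one_comp, MonObj.one_comp]⟩)
    (fun X g ⟨y, hy⟩ => ⟨y⁻¹, by rw [GrpObj.inv_comp, GrpObj.inv_comp, hy]⟩)
  refine ⟨inferInstance, h, ?_⟩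
  have : IsMonHom (w ≫ c') := by rw [← sq.w]; infer_instance
  exact Sga3C.SubGrp.isMonHom_of_comp_mono w c'

/-- a flat finitely presented group with smooth geometric fibres is smooth -/
theorem smooth_of_geomFibre {C : Over S} [GrpObj C] [LocallyOfFinitePresentation C.hom] [Flat C.hom]
    (h : ∀ s : S, Smooth (Red.geomFibre s C).hom) : Smooth C.hom := by
  choose V hV hs using fun s : S => SmoothNear.exists_opens_smooth C s (h s)
  refine (IsZariskiLocalAtTarget.iff_of_iSup_eq_top (P := @Smooth) V ?_).2 hs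
  rw [eq_top_iff]
  intro s _
  exact TopologicalSpace.Opens.mem_iSup.2 ⟨s, hV s⟩

section

variable {G G' : Over S} [GrpObj G] [GrpObj G'] (u : G ⟶ G')

/-- centrality of the kernel at a geometric point -/
theorem central_bc' (hker : ∀ (X : Over S) (z : X ⟶ G), z ≫ u = 1 → ∀ (X' : Over S) (x : X' ⟶ X) (g : X' ⟶ G),
      (x ≫ z) * g = g * (x ≫ z)) {S' : Scheme.{u}} (f : S' ⟶ S) (X : Over S') (z g : X ⟶ Red.bc f G)
      (hz : z ≫ (Over.pullback f).map u = 1) : z * g = g * z := by
  apply (BcPts.bcMulEquiv f X G).symm.injective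
  rw [map_mul, map_mul]
  have e : (BcPts.bcMulEquiv f X G).symm z ≫ u = 1 := by
    have h1 := congrArg (BcPts.bcMulEquiv f X G').symm hz
    rw [map_one] at h1
    rw [← h1]
    exact (BcPts.bcEquiv_symm_comp f z u).symm
  have h2 := hker _ _ e _ (𝟙 _) ((BcPts.bcMulEquiv f X G).symm g)
  rwa [Category.id_comp] at h2

/-- the hypothesis on the kernel -/
def KerCentral (u : G ⟶ G') : Prop :=
  ∀ (X : Over S) (z : X ⟶ G), z ≫ u = 1 → ∀ (X' : Over S) (x : X' ⟶ X) (g : X' ⟶ G),
      (x ≫ z) * g = g * (x ≫ z)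

end

end K18.PbKit
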