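import Groth.Prelude.Def_SGA3x
import Groth.Agent.SGA3x.K18.Raw
import Groth.Agent.SGA3x.K18.PbKit
import Groth.Agent.Sga3.H799.DescSub
import Groth.Agent.Desc.LqfQAff

/-!
# Subgroups containing the kernel descend along faithfully flat homomorphisms

`u : G ⟶ G'` a faithfully flat quasi-compact homomorphism, `b : B ⟶ G` a subgroup (monomorphism locally of finite type
and quasi-compact) through which every point of the kernel of `u` factors: there is a subgroup `b' : B' ⟶ G'` with
`B = G ×_{G'} B'`.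
-/

set_option autoImplicit false
universe u
open CategoryTheory MonoidalCategory CartesianMonoidalCategory MonObj GrpObj AlgebraicGeometry Limits

namespace K18.SubDesc

open Groth.Agent Groth.Agent.Sga3B Groth.Agent.Sga3B.BcPts Groth.Agent.Sga3B.MT Groth.Agent.Sga3.H799.DescSub

/-- fpqc descent of monomorphisms along a morphism of schemes `f : X ⟶ Y` -/
theorem exists_mono {X Y B : Scheme.{u}} (f : X ⟶ Y) [Flat f] [Surjective f] [QuasiCompact f] (b : B ⟶ X) [Mono b]
    (hb : Mor2.IsQuasiAffine b)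
    (hc : ∀ (Z : Scheme.{u}) (x y : Z ⟶ X), x ≫ f = y ≫ f → (∃ t : Z ⟶ B, t ≫ b = x) → ∃ t : Z ⟶ B, t ≫ b = y) :
    ∃ (B' : Scheme.{u}) (b' : B' ⟶ Y), Mono b' ∧ ∀ (Z : Scheme.{u}) (g : Z ⟶ Y),
      (∃ t : Z ⟶ B', t ≫ b' = g) ↔
        ∀ (Z' : Scheme.{u}) (h : Z' ⟶ Z) (x : Z' ⟶ X), x ≫ f = h ≫ g → ∃ t : Z' ⟶ B, t ≫ b = x := by
  let H : Over Y := Over.mk (𝟙 Y)
  let T : Over X := Over.mk b
  let t : T ⟶ Red.bc f H := Over.homMk (pullback.lift (b ≫ f) b (by change (b ≫ f) ≫ 𝟙 Y = _; rw [Category.comp_id]))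
    (pullback.lift_snd _ _ _)
  have htm : Mono t := by
    have h1 : Mono t.left := by
      have : Mono (t.left ≫ (Red.bc f H).hom) := by
        rw [Over.w]
        exact inferInstanceAs (Mono b)
      exact mono_of_mono t.left (Red.bc f H).hom
    exact (Over.forget X).mono_of_mono_map h1
  have hmem : ∀ {Z : Over Y} (a : Z ⟶ Over.mk f) (g : Z ⟶ H), MemAt t a g ↔ ∃ τ : Z.left ⟶ B, τ ≫ b = a.left := by
    intro Z a g
    rw [Raw.memAt_iff_raw]
    constructor
    · rintro ⟨τ, h1, -⟩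
      exact ⟨τ, h1⟩
    · rintro ⟨τ, h1⟩
      refine ⟨τ, h1, ?_⟩
      have h2 : t.left ≫ pullback.fst H.hom f = b ≫ f := pullback.lift_fst _ _ _
      rw [h2, ← Category.assoc, h1]
      have h3 : a.left ≫ f = Z.hom := Over.w a
      have h4 : g.left ≫ 𝟙 Y = Z.hom := Over.w g
      rw [h3, ← h4]
      exact Category.comp_id g.left
  have hcompat : Compat t := by
    intro Z a a' g h
    rw [hmem] at h ⊢
    have h3 : a.left ≫ f = Z.hom := Over.w a
    have h3' : a'.left ≫ f = Z.hom := Over.w a'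
    exact hc _ a.left a'.left (h3.trans h3'.symm) h
  obtain ⟨P, p, hp, hP⟩ := exists_sub (t := t) hcompat (fun V hV => ⟨f ⁻¹ᵁ V, by
    have := QuasiCompact.isCompact_preimage (f := f) V V.isOpen hV.isCompact
    exact this, by
    rw [Scheme.Hom.coe_preimage]
    exact Set.image_preimage_eq _ f.surjective⟩) hb
  have hpl : ∀ {Z : Over Y} (x : Z ⟶ P), x.left ≫ P.hom = Z.hom := fun x => Over.w x
  refine ⟨P.left, P.hom, ?_, fun Z g => ?_⟩
  · refine ⟨fun {Z} x y hxy => ?_⟩
    let x' : Over.mk (x ≫ P.hom) ⟶ P := Over.homMk x rfl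
    let y' : Over.mk (x ≫ P.hom) ⟶ P := Over.homMk y hxy.symm
    have : x' = y' := by
      rw [← cancel_mono p]
      exact Over.mkIdTerminal.hom_ext _ _
    exact congrArg (fun k => k.left) this
  · let g' : Over.mk g ⟶ H := Over.homMk g (Category.comp_id _)
    have h1 := hP (Over.mk g) g'
    constructor
    · rintro ⟨τ, hτ⟩ Z' h x hx
      have h2 : ∃ x : Over.mk g ⟶ P, x ≫ p = g' := ⟨Over.homMk τ hτ, Over.mkIdTerminal.hom_ext _ _⟩
      have h3 := h1.1 h2 (Over.mk (h ≫ g)) (Over.homMk h rfl) (Over.homMk x hx)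
      exact (hmem _ _).1 h3
    · intro hg
      obtain ⟨x, -⟩ := h1.2 (fun X' k a => (hmem _ _).2 (hg X'.left k.left a.left (by
        have e1 : a.left ≫ f = X'.hom := Over.w a
        have e2 : k.left ≫ g = X'.hom := Over.w k
        rw [e1, e2])))
      exact ⟨x.left, Over.w x⟩

variable {S : Scheme.{u}}

/-- factorizations through a monomorphism descend -/
lemma factor_of_cover {X' X B G : Over S} (b : B ⟶ G) [Mono b] (c : X' ⟶ X) [Flat c.left] [Surjective c.left]
    [QuasiCompact c.left] (g : X ⟶ G) (h : ∃ y : X' ⟶ B, y ≫ b = c ≫ g) : ∃ y : X ⟶ B, y ≫ b = g := by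
  obtain ⟨x, hx⟩ := h
  have hm : Mono b.left := inferInstance
  have hx' : x.left ≫ b.left = c.left ≫ g.left := by
    rw [← Over.comp_left, hx, Over.comp_left]
  have : Epi c.left := Flat.epi_of_flat_of_surjective c.left
  let y : X.left ⟶ B.left := EffectiveEpi.desc c.left x.left (by
    intro Z z₀ z₁ hz
    rw [← cancel_mono b.left, Category.assoc, Category.assoc, hx', ← Category.assoc, ← Category.assoc, hz])
  have hy : c.left ≫ y = x.left := EffectiveEpi.fac _ _ _
  have hy' : y ≫ b.left = g.left := by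
    rw [← cancel_epi c.left, ← Category.assoc, hy, hx']
  refine ⟨Over.homMk y ?_, ?_⟩
  · rw [← Over.w b, ← Category.assoc, hy', Over.w]
  · ext1
    exact hy'

/-- lifting of points after an fpqc covering -/
lemma exists_cover {T T' : Over S} (v : T ⟶ T') [Flat v.left] [Surjective v.left] [QuasiCompact v.left]
    {X : Over S} (t' : X ⟶ T') :
    ∃ (X' : Over S) (c : X' ⟶ X) (t : X' ⟶ T), Flat c.left ∧ Surjective c.left ∧ QuasiCompact c.left ∧
      t ≫ v = c ≫ t' := by
  let X' : Over S := Over.mk (pullback.fst t'.left v.left ≫ X.hom)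
  let c : X' ⟶ X := Over.homMk (pullback.fst t'.left v.left)
  refine ⟨X', c, Over.homMk (pullback.snd t'.left v.left) ?_,
    inferInstanceAs (Flat (pullback.fst t'.left v.left)),
    inferInstanceAs (Surjective (pullback.fst t'.left v.left)),
    inferInstanceAs (QuasiCompact (pullback.fst t'.left v.left)), ?_⟩
  · change pullback.snd t'.left v.left ≫ T.hom = pullback.fst t'.left v.left ≫ X.hom
    rw [← Over.w v, ← Over.w t', ← Category.assoc, ← pullback.condition, Category.assoc]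
  · ext1
    exact pullback.condition.symm

/-- **Subgroups containing the kernel descend.** -/
theorem exists_subgroup {G G' B : Over S} [GrpObj G] [GrpObj G'] [GrpObj B] (u : G ⟶ G') [IsMonHom u]
    [Flat u.left] [Surjective u.left] [QuasiCompact u.left] (b : B ⟶ G) [IsMonHom b] [Mono b]
    (hb : Mor2.IsQuasiAffine b.left)
    (hN : ∀ (X : Over S) (z : X ⟶ G), z ≫ u = 1 → ∃ y : X ⟶ B, y ≫ b = z) :
    ∃ (B' : Over S) (_ : GrpObj B') (b' : B' ⟶ G') (v : B ⟶ B'), IsMonHom b' ∧ Mono b' ∧ IsMonHom v ∧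
      IsPullback b v u b' := by
  have hm : Mono b.left := inferInstance
  have hsat : ∀ (X : Over S) (x y : X ⟶ G), x ≫ u = y ≫ u → (∃ t : X ⟶ B, t ≫ b = x) → ∃ t : X ⟶ B, t ≫ b = y := by
    rintro X x y hxy ⟨t, rfl⟩
    obtain ⟨n, hn⟩ := hN X ((t ≫ b)⁻¹ * y) (by
      rw [MonObj.mul_comp, GrpObj.inv_comp, hxy, inv_mul_cancel])
    exact ⟨t * n, by rw [MonObj.mul_comp, hn, mul_inv_cancel_left]⟩
  obtain ⟨P, p, hp, hP⟩ := exists_mono u.left b.left hb (by
    rintro Z x y hxy ⟨t, ht⟩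
    let Z' : Over S := Over.mk (x ≫ G.hom)
    have hy : y ≫ G.hom = x ≫ G.hom := by
      rw [← Over.w u, ← Category.assoc, ← hxy, Category.assoc]
    obtain ⟨s, hs⟩ := hsat Z' (Over.homMk x rfl) (Over.homMk y hy) (by
      ext1
      exact hxy) ⟨Over.homMk t (by
        change t ≫ B.hom = x ≫ G.hom
        rw [← ht, Category.assoc, Over.w]), by
        ext1
        exact ht⟩
    exact ⟨s.left, congrArg (fun k => k.left) hs⟩)
  let B' : Over S := Over.mk (p ≫ G'.hom)
  let b' : B' ⟶ G' := Over.homMk p rfl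
  have hbm : Mono b' := (Over.forget S).mono_of_mono_map (inferInstanceAs (Mono p))
  have hB' : ∀ (X : Over S) (g : X ⟶ G'), (∃ y : X ⟶ B', y ≫ b' = g) ↔
      ∀ (X' : Over S) (h : X' ⟶ X) (x : X' ⟶ G), x ≫ u = h ≫ g → ∃ y : X' ⟶ B, y ≫ b = x := by
    intro X g
    constructor
    · rintro ⟨y, hy⟩ X' h x hx
      obtain ⟨t, ht⟩ := (hP X.left g.left).1 ⟨y.left, congrArg (fun k => k.left) hy⟩ X'.left h.left x.left
        (congrArg (fun k => k.left) hx)
      exact ⟨Over.homMk t (by rw [← Over.w x, ← ht, Category.assoc, Over.w]), by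
        ext1
        exact ht⟩
    · intro h
      obtain ⟨t, ht⟩ := (hP X.left g.left).2 (fun Z' k x hx => by
        obtain ⟨y, hy⟩ := h (Over.mk (k ≫ X.hom)) (Over.homMk k rfl) (Over.homMk x (by
          change x ≫ G.hom = k ≫ X.hom
          rw [← Over.w u, ← Category.assoc, hx, Category.assoc, Over.w])) (by
          ext1
          exact hx)
        exact ⟨y.left, congrArg (fun k => k.left) hy⟩)
      exact ⟨Over.homMk t (by
        change t ≫ p ≫ G'.hom = _
        rw [← Category.assoc, ht, Over.w]), by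
        ext1
        exact ht⟩
  -- one lift is enough
  have hone : ∀ (X : Over S) (g : X ⟶ G') (x : X ⟶ G), x ≫ u = g → (∃ y : X ⟶ B, y ≫ b = x) → ∃ y : X ⟶ B', y ≫ b' = g := by
    rintro X g x hx ⟨y, hy⟩
    refine (hB' X g).2 fun X' h x' hx' => hsat X' (h ≫ x) x' (by rw [Category.assoc, hx, hx']) ⟨h ≫ y, by rw [Category.assoc, hy]⟩
  obtain ⟨v, hv⟩ := hone B (b ≫ u) b rfl ⟨𝟙 _, Category.id_comp _⟩
  have sq : IsPullback b v u b' := by
    refine ⟨⟨hv.symm⟩, ⟨PullbackCone.IsLimit.mk _ (fun s => ((hB' _ (s.fst ≫ u)).1 ⟨s.snd, s.condition.symm⟩ _ (𝟙 _) s.fst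
      (Category.id_comp _).symm).choose) (fun s => ((hB' _ (s.fst ≫ u)).1 ⟨s.snd, s.condition.symm⟩ _ (𝟙 _) s.fst
      (Category.id_comp _).symm).choose_spec) (fun s => ?_) (fun s m h1 h2 => ?_)⟩⟩
    · rw [← cancel_mono b', Category.assoc, hv, ← Category.assoc, ((hB' _ (s.fst ≫ u)).1 ⟨s.snd, s.condition.symm⟩ _ (𝟙 _) s.fst
        (Category.id_comp _).symm).choose_spec]
      exact s.condition
    · rw [← cancel_mono b, h1, ((hB' _ (s.fst ≫ u)).1 ⟨s.snd, s.condition.symm⟩ _ (𝟙 _) s.fst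
        (Category.id_comp _).symm).choose_spec]
  have sql : IsPullback b.left v.left u.left b'.left := sq.map (Over.forget _)
  have hvf : Flat v.left := MorphismProperty.of_isPullback (P := @Flat) sql inferInstance
  have hvs : Surjective v.left := MorphismProperty.of_isPullback (P := @Surjective) sql inferInstance
  have hvq : QuasiCompact v.left := MorphismProperty.of_isPullback (P := @QuasiCompact) sql inferInstance
  -- the group structure
  obtain ⟨_, hb'⟩ := CentNorm900.exists_grpObj b' (fun X g => ∃ y : X ⟶ B', y ≫ b' = g) (fun X g => Iff.rfl)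
    (fun X g h ⟨y, hy⟩ ⟨z, hz⟩ => by
      obtain ⟨X₁, c₁, t₁, f₁, s₁, q₁, e₁⟩ := exists_cover v y
      obtain ⟨X₂, c₂, t₂, f₂, s₂, q₂, e₂⟩ := exists_cover v (c₁ ≫ z)
      refine factor_of_cover b' c₁ _ (factor_of_cover b' c₂ _ ?_)
      refine ⟨((c₂ ≫ t₁) * t₂) ≫ v, ?_⟩
      rw [Category.assoc, hv, ← Category.assoc, MonObj.mul_comp, MonObj.mul_comp, MonObj.comp_mul, MonObj.comp_mul]
      congr 1
      · rw [Category.assoc, Category.assoc, ← hv, ← Category.assoc t₁, e₁, Category.assoc, hy]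
      · rw [Category.assoc, ← hv, ← Category.assoc, e₂, Category.assoc, Category.assoc, hz])
    (fun X => ⟨toUnit X ≫ η[B] ≫ v, by
      rw [Category.assoc, Category.assoc, hv, ← Category.assoc η[B], IsMonHom.one_hom, IsMonHom.one_hom]
      rfl⟩)
    (fun X g ⟨y, hy⟩ => by
      obtain ⟨X₁, c₁, t₁, f₁, s₁, q₁, e₁⟩ := exists_cover v y
      refine factor_of_cover b' c₁ _ ⟨t₁⁻¹ ≫ v, ?_⟩
      rw [Category.assoc, hv, ← Category.assoc, GrpObj.inv_comp, GrpObj.inv_comp, GrpObj.comp_inv, Category.assoc, ← hv,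
        ← Category.assoc, e₁, Category.assoc, hy])
  refine ⟨B', inferInstance, b', v, hb', hbm, ?_, sq⟩
  have : IsMonHom (v ≫ b') := by rw [hv]; infer_instance
  exact Sga3C.SubGrp.isMonHom_of_comp_mono v b'

end K18.SubDesc
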