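import Groth.Agent.SGA3x.K18.TorsGlob
import Groth.Agent.Sga3B.BorDesc613

/-!
# Extending homomorphisms from the torsion of a torus, over a nilpotent thickening

`exists_of_torsion`: `T` a torus over `S`, `i₀ : S₀ ⟶ S` a closed immersion with nilpotent ideal, `G` an `S`-group.  A coherent
family of homomorphisms `T[q ^ k] ⟶ G` and a compatible homomorphism `T₀ ⟶ G₀` over `S₀` come from a unique homomorphism
`T ⟶ G`.
-/

set_option autoImplicit false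
universe u
open CategoryTheory MonoidalCategory CartesianMonoidalCategory MonObj GrpObj AlgebraicGeometry Limits

namespace K18.TorsFam

open Groth.Agent.Sga3B Groth.Agent.Sga3B.BcPts Groth.Agent.Sga3B.IsoFam
open K9.Glue K18.TorsExt K18.TorsAlg K18.TorsGlob

variable {S S₀ : Scheme.{u}} (i₀ : S₀ ⟶ S)

/-- `t : L ⟶ H` is the `n`-torsion of `H`. -/
structure IsTor (n : ℕ) {L H : Over S} [GrpObj H] (t : L ⟶ H) : Prop where
  mono : Mono t
  pts : ∀ (X : Over S) (h : X ⟶ H), (∃ y : X ⟶ L, y ≫ t = h) ↔ h ^ n = 1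

lemma isTor_of_isKernel {n : ℕ} {L H : Over S} [GrpObj H] (t : L ⟶ H) (h : AlgGrp.IsKernel t ((𝟙 H : H ⟶ H) ^ n)) :
    IsTor n t := by
  have hη : Mono (η[H] : 𝟙_ (Over S) ⟶ H) := ⟨fun a b _ => toUnit_unique a b⟩
  refine ⟨MorphismProperty.of_isPullback (P := MorphismProperty.monomorphisms _) h.flip hη, fun X x => ⟨?_, fun hx => ?_⟩⟩
  · rintro ⟨y, rfl⟩
    have h1 := congrArg (fun k => y ≫ k) h.w
    simp only [MonObj.comp_pow, Category.comp_id] at h1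
    rw [h1, ← Category.assoc, toUnit_unique (y ≫ toUnit L) (toUnit X)]
    exact (Hom.one_def).symm
  · refine ⟨h.lift x (toUnit X) ?_, h.lift_fst _ _ _⟩
    rw [MonObj.comp_pow, Category.comp_id, hx]
    exact Hom.one_def

lemma isKernel_of_isTor {n : ℕ} {L H : Over S} [GrpObj H] {t : L ⟶ H} (h : IsTor n t) :
    AlgGrp.IsKernel t ((𝟙 H : H ⟶ H) ^ n) := by
  have := h.mono
  have hw : t ≫ ((𝟙 H : H ⟶ H) ^ n) = toUnit L ≫ η[H] := by
    rw [MonObj.comp_pow, Category.comp_id, (h.pts L t).1 ⟨𝟙 _, Category.id_comp _⟩]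
    exact Hom.one_def
  have key : ∀ s : PullbackCone ((𝟙 H : H ⟶ H) ^ n) η[H], ∃ y, y ≫ t = s.fst := by
    intro s
    refine (h.pts _ s.fst).2 ?_
    have h1 := s.condition
    rw [MonObj.comp_pow, Category.comp_id] at h1
    rw [h1, toUnit_unique s.snd (toUnit _)]
    exact (Hom.one_def).symm
  refine ⟨⟨hw⟩, ⟨PullbackCone.IsLimit.mk _ (fun s => (key s).choose) (fun s => (key s).choose_spec)
    (fun s => toUnit_unique _ _) (fun s m hm _ => ?_)⟩⟩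
  rw [← cancel_mono t, hm]
  exact ((key s).choose_spec).symm

variable {q : ℕ} {T G : Over S} [GrpObj T] [GrpObj G] {M : ℕ → Over S} [∀ k, GrpObj (M k)] {t : ∀ k, M k ⟶ T}
  {m : ∀ k, M k ⟶ G} {φ₀ : Red.bc i₀ T ⟶ Red.bc i₀ G}

lemma ev_eq (hφ : ∀ k, (Over.pullback i₀).map (t k) ≫ φ₀ = (Over.pullback i₀).map (m k)) {X : Over S} (k : ℕ) (y : X ⟶ M k)
    (p : X ⟶ Over.mk i₀) : ev φ₀ (y ≫ t k) p = y ≫ m k := by
  rw [← BorDesc613.ev_map (f := i₀) (m k) y p, ← hφ k, ← ev_comp, BorDesc613.ev_map]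

/-- the value at a point -/
def Rel (t : ∀ k, M k ⟶ T) (m : ∀ k, M k ⟶ G) (φ₀ : Red.bc i₀ T ⟶ Red.bc i₀ G) {X : Over S} (x : X ⟶ T)
    (z : X ⟶ G) : Prop :=
  (∀ k (y : X ⟶ M k), y ≫ t k = x → z = y ≫ m k) ∧ (∀ p : X ⟶ Over.mk i₀, z = ev φ₀ x p)

variable (ht : ∀ k, IsTor (q ^ k) (t k)) (hcoh : ∀ k l : ℕ, k ≤ l → ∃ f : M k ⟶ M l, f ≫ m l = m k ∧ f ≫ t l = t k)
  (hφ : ∀ k, (Over.pullback i₀).map (t k) ≫ φ₀ = (Over.pullback i₀).map (m k))

include ht hcoh in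
lemma val_eq {X : Over S} {k l : ℕ} (y : X ⟶ M k) (y' : X ⟶ M l) (h : y ≫ t k = y' ≫ t l) : y ≫ m k = y' ≫ m l := by
  obtain ⟨f, hf, hf'⟩ := hcoh k (max k l) (le_max_left _ _)
  obtain ⟨g, hg, hg'⟩ := hcoh l (max k l) (le_max_right _ _)
  have h1 := (ht (max k l)).mono
  have h2 : y ≫ f = y' ≫ g := by
    rw [← cancel_mono (t (max k l)), Category.assoc, Category.assoc, hf', hg', h]
  rw [← hf, ← hg, ← Category.assoc, ← Category.assoc, h2]

include ht hcoh hφ in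
lemma exists_rel [Mono i₀] {X : Over S} (x : X ⟶ T) (hx : Dom q (Over.mk i₀) T X x) : ∃ z, Rel i₀ t m φ₀ x z := by
  rcases hx with ⟨k, hk⟩ | ⟨⟨p⟩⟩
  · obtain ⟨y, rfl⟩ := ((ht k).pts X x).2 hk
    exact ⟨y ≫ m k, fun l y' hy' => val_eq ht hcoh _ _ hy'.symm, fun p => (ev_eq i₀ hφ k y p).symm⟩
  · refine ⟨ev φ₀ x p, fun l y' hy' => ?_, fun p' => ?_⟩
    · rw [← hy', ev_eq i₀ hφ]
    · have : p = p' := by
        ext1
        have h1 := Over.w p
        have h2 := Over.w p'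
        exact (cancel_mono i₀).mp (h1.trans h2.symm)
      rw [this]

/-- the partial homomorphism -/
noncomputable def pHom [Mono i₀] [IsMonHom φ₀] (htm : ∀ k, IsMonHom (t k)) (hmm : ∀ k, IsMonHom (m k)) :
    PHom T G (Dom q (Over.mk i₀) T) where
  u x hx := (exists_rel i₀ ht hcoh hφ x hx).choose
  nat {X X'} f x hx hx' := by
    obtain ⟨h1, h2⟩ := (exists_rel i₀ ht hcoh hφ x hx).choose_spec
    obtain ⟨h3, h4⟩ := (exists_rel i₀ ht hcoh hφ (f ≫ x) hx').choose_spec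
    rcases hx with ⟨k, hk⟩ | ⟨⟨p⟩⟩
    · obtain ⟨y, hy⟩ := ((ht k).pts X x).2 hk
      rw [h1 k y hy, h3 k (f ≫ y) (by rw [Category.assoc, hy]), Category.assoc]
    · rw [h2 p, h4 (f ≫ p), comp_ev]
  mul {X} x y hx hy hxy := by
    obtain ⟨h1, h2⟩ := (exists_rel i₀ ht hcoh hφ x hx).choose_spec
    obtain ⟨h3, h4⟩ := (exists_rel i₀ ht hcoh hφ y hy).choose_spec
    obtain ⟨h5, h6⟩ := (exists_rel i₀ ht hcoh hφ (x * y) hxy).choose_spec
    by_cases hp : Nonempty (X ⟶ Over.mk i₀)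
    · obtain ⟨p⟩ := hp
      rw [h2 p, h4 p, h6 p, ev_mul]
    · have e1 : ∃ k, x ^ (q ^ k) = 1 := hx.resolve_right hp
      have e2 : ∃ k, y ^ (q ^ k) = 1 := hy.resolve_right hp
      obtain ⟨k, hk⟩ := e1
      obtain ⟨l, hl⟩ := e2
      have e3 : x ^ (q ^ (k + l)) = 1 := by rw [pow_add, pow_mul, hk, one_pow]
      have e4 : y ^ (q ^ (k + l)) = 1 := by rw [pow_add, mul_comm, pow_mul, hl, one_pow]
      obtain ⟨a, ha⟩ := ((ht (k + l)).pts X x).2 e3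
      obtain ⟨b, hb⟩ := ((ht (k + l)).pts X y).2 e4
      have i1 := htm (k + l)
      have i2 := hmm (k + l)
      rw [h1 _ a ha, h3 _ b hb, h5 _ (a * b) (by rw [MonObj.mul_comp, ha, hb]), MonObj.mul_comp]

include ht hcoh hφ in
/-- **Extension of homomorphisms from the torsion.** -/
theorem exists_of_torsion [IsClosedImmersion i₀] (hn : IsNilpotent i₀.ker) (hq : 1 < q) (hT : Red.IsTorus T)
    [IsMonHom φ₀] (htm : ∀ k, IsMonHom (t k)) (hmm : ∀ k, IsMonHom (m k)) :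
    ∃ ψ : T ⟶ G, IsMonHom ψ ∧ (∀ k, t k ≫ ψ = m k) ∧ (Over.pullback i₀).map ψ = φ₀ := by
  let u := pHom i₀ ht hcoh hφ htm hmm
  obtain ⟨ψ, hψ, h⟩ := TorsGlob.exists_hom i₀ (covers_torus hq hT) hn u
  have hu : ∀ {X : Over S} (x : X ⟶ T) (hx : Dom q (Over.mk i₀) T X x), Rel i₀ t m φ₀ x (u.u x hx) :=
    fun x hx => (exists_rel i₀ ht hcoh hφ x hx).choose_spec
  refine ⟨ψ, hψ, fun k => ?_, ?_⟩
  · have h1 : Dom q (Over.mk i₀) T (M k) (t k) := Or.inl ⟨k, ((ht k).pts _ _).1 ⟨𝟙 _, Category.id_comp _⟩⟩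
    rw [h _ h1, (hu _ h1).1 k (𝟙 _) (Category.id_comp _), Category.id_comp]
  · refine BorDesc613.eq_of_ev fun X x p => ?_
    have h1 : Dom q (Over.mk i₀) T X x := Or.inr ⟨p⟩
    rw [BorDesc613.ev_map, h _ h1, (hu _ h1).2 p]

include ht in
/-- **Uniqueness.** -/
theorem eq_of_torsion [IsClosedImmersion i₀] (hn : IsNilpotent i₀.ker) (hq : 1 < q) (hT : Red.IsTorus T) {Y : Over S}
    {a b : T ⟶ Y} (h : ∀ k, t k ≫ a = t k ≫ b) (h₀ : (Over.pullback i₀).map a = (Over.pullback i₀).map b) : a = b := by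
  refine TorsGlob.hom_ext i₀ (covers_torus hq hT) hn fun X x hx => ?_
  rcases hx with ⟨k, hk⟩ | ⟨⟨p⟩⟩
  · obtain ⟨y, rfl⟩ := ((ht k).pts X x).2 hk
    rw [Category.assoc, Category.assoc, h]
  · rw [← BorDesc613.ev_map (f := i₀) a x p, h₀, BorDesc613.ev_map]

end K18.TorsFam
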