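import Groth.Agent.SGA3x.K18.TorRank
import Groth.Agent.SGA3x.K18.TorsFam
import Groth.Agent.SGA3x.K13.CentralEtale

/-!
# Torsion of groups of multiplicative type: finite type, geometric fibres, rank
-/

set_option autoImplicit false
universe u
open CategoryTheory MonoidalCategory CartesianMonoidalCategory MonObj GrpObj AlgebraicGeometry Limits

namespace K18.TorTors

open Groth.Agent Groth.Agent.Sga3B K13.NTorsion K18.TorsFam

variable {S S' : Scheme.{u}}

theorem isTors_of_isKernel {n : ℕ} {L H : Over S} [GrpObj L] [GrpObj H] {i : L ⟶ H} (hm : IsMonHom i)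
    (h : AlgGrp.IsKernel i ((𝟙 H : H ⟶ H) ^ n)) : IsTors n i :=
  ⟨hm, (isTor_of_isKernel i h).mono, (isTor_of_isKernel i h).pts⟩

theorem isKernel_of_isTors {n : ℕ} {L H : Over S} [GrpObj L] [GrpObj H] {i : L ⟶ H} (h : IsTors n i) :
    AlgGrp.IsKernel i ((𝟙 H : H ⟶ H) ^ n) := isKernel_of_isTor ⟨h.mono, h.pts⟩

/-- The `n`-torsion of a group of multiplicative type and of finite type. -/
theorem isMultTypeFT {n : ℕ} {L H : Over S} [GrpObj L] [GrpObj H] {ℓ : L ⟶ H} (h : IsTors n ℓ)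
    (hH : SGA3x.IsMultTypeFT H) : SGA3x.IsMultTypeFT L := by
  obtain ⟨S', f, hf1, hf2, hf3, hf⟩ := hH
  refine ⟨S', f, hf1, hf2, hf3, fun s' => ?_⟩
  obtain ⟨U, hU, M, _, hM, ⟨e⟩⟩ := hf s'
  exact ⟨U, hU, M ⧸ nM n M, inferInstance, inferInstance, ((h.bc (U.ι ≫ f)).comp_iso e).iso (isTors_DS _ n M)⟩

/-- The `n`-torsion of a split torus. -/
theorem iso_of_split {n r : ℕ} {L H : Over S} [GrpObj L] [GrpObj H] {ℓ : L ⟶ H} (h : IsTors n ℓ)
    (hH : Red.IsSplitTorusWith (Fin r → ℤ) H) : Nonempty (Grp.mk L ≅ Grp.mk (Red.DS S (Fin r → ZMod n))) := by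
  obtain ⟨e⟩ := hH
  obtain ⟨E⟩ := (h.comp_iso e).iso (isTors_DS _ n _)
  obtain ⟨ε⟩ := TorRank.exists_quot n r
  exact ⟨E ≪≫ PinTransport.dsIso ε.symm⟩

/-- The rank of a split torus is determined by its `n`-torsion. -/
theorem rank_eq {R : Type u} [CommRing R] [IsLocalRing R] {n a b : ℕ} (hn : 1 < n)
    {L T T' : Over (Spec (CommRingCat.of R))} [GrpObj L] [GrpObj T] [GrpObj T'] {l : L ⟶ T} {l' : L ⟶ T'}
    (h : IsTors n l) (h' : IsTors n l') (hT : Red.IsSplitTorusWith (Fin a → ℤ) T)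
    (hT' : Red.IsSplitTorusWith (Fin b → ℤ) T') : a = b := by
  obtain ⟨ε⟩ := Parab.TorRank156.nonempty_addEquiv (iso_of_split h hT) (iso_of_split h' hT')
  have : NeZero n := ⟨by omega⟩
  have h1 := Nat.card_congr ε.toEquiv
  simp only [Nat.card_eq_fintype_card, Fintype.card_fun, Fintype.card_fin, ZMod.card] at h1
  exact Nat.pow_right_injective hn h1

/-- Coherence: the transition maps between torsion subgroups are torsion subgroups. -/
theorem isTors_trans {m n : ℕ} {L L' H : Over S} [GrpObj L] [GrpObj L'] [GrpObj H] {l : L ⟶ H} {l' : L' ⟶ H}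
    (h : IsTors m l) (h' : IsTors n l') (f : L ⟶ L') (hf : f ≫ l' = l) : IsTors m f := by
  have i1 := h.mon
  have i2 := h.mono
  have i3 := h'.mon
  have i4 := h'.mono
  have i5 : Mono f := by
    have : Mono (f ≫ l') := by rw [hf]; exact i2
    exact mono_of_mono f l'
  refine ⟨K13.CentralEtale.isMonHom_of_comp_mono f l' (by rw [hf]; exact i1), i5, fun X x => ?_⟩
  have h1 : x ^ m = 1 ↔ (x ≫ l') ^ m = 1 := by
    rw [← K13.NTorsion.pow_comp]
    constructor
    · intro h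
      rw [h, MonObj.one_comp]
    · intro h
      rw [← cancel_mono l', h, MonObj.one_comp]
  rw [h1, ← h.pts]
  constructor
  · rintro ⟨y, rfl⟩
    exact ⟨y, by rw [Category.assoc, hf]⟩
  · rintro ⟨y, hy⟩
    exact ⟨y, by rw [← cancel_mono l', Category.assoc, hf, hy]⟩

end K18.TorTors
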