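import Mathlib
import Groth.Agent.Flat2C.AffineThickening
import Groth.Agent.Divis.IdealComap

/-!
# Infinitesimal neighbourhoods of an immersed affine scheme

`i : X₀ ⟶ Y` an immersion, `X₀` affine, `N ≥ 1`: the `N`-th infinitesimal neighbourhood of `X₀` in `Y` is an affine scheme
`Spec E`, immersed in `Y`, and it receives all the morphisms `h : Z ⟶ Y` whose restriction to a closed subscheme `Z₀` of `Z`
defined by an ideal of `N`-th power zero factors through `i`.

* `exists_hull`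
* `exists_close`: closure of a family of such morphisms
* `exists_close_map`: morphisms `Spec P ⟶ Y` factoring through an immersion `Spec R ⟶ Y` up to nilpotents.
-/

set_option autoImplicit false
universe u
open CategoryTheory CategoryTheory.Limits AlgebraicGeometry

namespace K18.NilHull

open Scheme.IdealSheafData

theorem comap_le_of_comp_eq {X₀ V Z₀ Z : Scheme.{u}} (j : X₀ ⟶ V) (z : Z₀ ⟶ Z) (h : Z ⟶ V) (a : Z₀ ⟶ X₀)
    (w : z ≫ h = a ≫ j) : j.ker.comap h ≤ z.ker := by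
  rw [← le_map_iff_comap_le]
  have h1 : z.ker.map h = (z ≫ h).ker := by
    rw [← map_bot z, ← map_bot (z ≫ h), map_comp]
  rw [h1, w]
  exact Scheme.Hom.le_ker_comp a j

theorem exists_hull {X₀ Y : Scheme.{u}} [IsAffine X₀] (i : X₀ ⟶ Y) [IsImmersion i] (N : ℕ) (hN : N ≠ 0) :
    ∃ (E : CommRingCat.{u}) (ι : Spec E ⟶ Y) (s : X₀ ⟶ Spec E), IsImmersion ι ∧ IsClosedImmersion s ∧ Surjective s ∧
      s ≫ ι = i ∧
      ∀ {Z₀ Z : Scheme.{u}} (z : Z₀ ⟶ Z) (h : Z ⟶ Y) (a : Z₀ ⟶ X₀), Surjective z → z.ker ^ N = ⊥ → z ≫ h = a ≫ i →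
        ∃ g : Z ⟶ Spec E, g ≫ ι = h := by
  let V := i.coborderRange
  let j : X₀ ⟶ V := i.liftCoborder
  have hj : j ≫ V.ι = i := i.liftCoborder_ι
  let I : Scheme.IdealSheafData V := j.ker
  let c := (I ^ N).subschemeι
  have hle : c.ker ≤ j.ker := by
    rw [ker_subschemeι]
    intro U
    rw [ideal_pow]
    exact Ideal.pow_le_self hN
  let s₀ : X₀ ⟶ (I ^ N).subscheme := IsClosedImmersion.lift c j hle
  have hs₀ : s₀ ≫ c = j := IsClosedImmersion.lift_fac c j hle
  have hs₁ : IsClosedImmersion s₀ := by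
    have : IsClosedImmersion (s₀ ≫ c) := by rw [hs₀]; infer_instance
    exact IsClosedImmersion.of_comp_isClosedImmersion s₀ c
  have hs₂ : Surjective s₀ := by
    refine ⟨fun y => ?_⟩
    have h1 : c y ∈ ((I ^ N).support : Set V) := by
      rw [← range_subschemeι]
      exact ⟨y, rfl⟩
    rw [support_pow I N hN, Scheme.Hom.support_ker] at h1
    have h2 : IsClosed (Set.range j) := j.isClosedEmbedding.isClosed_range
    have h3 : c y ∈ Set.range j := by
      have h4 := h1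
      change c y ∈ closure (Set.range j) at h4
      rwa [h2.closure_eq] at h4
    obtain ⟨x, hx⟩ := h3
    refine ⟨x, c.isClosedEmbedding.injective ?_⟩
    rw [← hx, ← hs₀]
    rfl
  have haff : IsAffine (I ^ N).subscheme := Groth.Agent.Flat2C.AffineThickening.isAffine_of_thickening (i := s₀)
  let e := (I ^ N).subscheme.isoSpec
  refine ⟨_, e.inv ≫ c ≫ V.ι, s₀ ≫ e.hom, inferInstance, inferInstance, inferInstance, ?_, ?_⟩
  · rw [Category.assoc, Iso.hom_inv_id_assoc, ← Category.assoc, hs₀, hj]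
  · intro Z₀ Z z h a hz hzN w
    have hr : Set.range h ⊆ Set.range V.ι := by
      rw [Scheme.Opens.range_ι]
      rintro _ ⟨x, rfl⟩
      obtain ⟨x₀, rfl⟩ := hz.surj x
      have h1 : h (z x₀) = i (a x₀) := by
        rw [← Scheme.Hom.comp_apply, w, Scheme.Hom.comp_apply]
      rw [h1, ← hj, Scheme.Hom.comp_apply]
      exact (j (a x₀)).2
    let h' := IsOpenImmersion.lift V.ι h hr
    have hh' : h' ≫ V.ι = h := IsOpenImmersion.lift_fac _ _ _
    have hw : z ≫ h' = a ≫ j := by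
      rw [← cancel_mono V.ι, Category.assoc, Category.assoc, hh', hj, w]
    have hk : c.ker ≤ h'.ker := by
      rw [ker_subschemeι, ← map_bot h', le_map_iff_comap_le, Groth.Agent.Divis.IdealComap.comap_pow, ← hzN]
      exact pow_le_pow_left' (comap_le_of_comp_eq j z h' a hw) N
    refine ⟨IsClosedImmersion.lift c h' hk ≫ e.hom, ?_⟩
    rw [Category.assoc, Iso.hom_inv_id_assoc, ← Category.assoc, IsClosedImmersion.lift_fac, hh']

theorem ker_pow_eq_bot {A B : CommRingCat.{u}} (q : A ⟶ B) (N : ℕ) (hN : RingHom.ker q.hom ^ N = ⊥) :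
    (Spec.map q).ker ^ N = ⊥ := by
  apply Scheme.IdealSheafData.ext_of_isAffine
  rw [ideal_pow, ideal_bot]
  simp only [Pi.pow_apply, Pi.bot_apply]
  rw [Scheme.Hom.ker_apply]
  let e := Scheme.ΓSpecIso A
  have hinj : Function.Injective e.hom.hom := (ConcreteCategory.bijective_of_isIso e.hom).1
  have h1 : (RingHom.ker ((Spec.map q).app ⊤).hom).map e.hom.hom ≤ RingHom.ker q.hom := by
    rw [Ideal.map_le_iff_le_comap]
    intro x hx
    rw [Ideal.mem_comap, RingHom.mem_ker]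
    have h2 := congr($(Scheme.ΓSpecIso_naturality q) x)
    change (Scheme.ΓSpecIso B).hom ((Spec.map q).appTop x) = q.hom (e.hom.hom x) at h2
    rw [← h2]
    have h3 : (Spec.map q).appTop x = 0 := hx
    rw [h3, map_zero]
  have h4 : ((RingHom.ker ((Spec.map q).app ⊤).hom) ^ N).map e.hom.hom ≤ ⊥ := by
    rw [Ideal.map_pow, ← hN]
    exact Ideal.pow_right_mono h1 N
  rw [eq_bot_iff]
  intro x hx
  have h5 : e.hom.hom x = 0 := by simpa using h4 (Ideal.mem_map_of_mem _ hx)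
  rw [Ideal.mem_bot]
  exact hinj (h5.trans (map_zero _).symm)

theorem surjective_of_isClosedImmersion {A B : CommRingCat.{u}} (f : A ⟶ B) [IsClosedImmersion (Spec.map f)] :
    Function.Surjective f := by
  have h1 := (IsClosedImmersion.isAffine_surjective_of_isAffine (Spec.map f)).2
  intro b
  obtain ⟨x, hx⟩ := h1 ((Scheme.ΓSpecIso B).inv b)
  refine ⟨(Scheme.ΓSpecIso A).hom x, ?_⟩
  have h2 := congr($(Scheme.ΓSpecIso_naturality f) x)
  change (Scheme.ΓSpecIso B).hom ((Spec.map f).appTop x) = f ((Scheme.ΓSpecIso A).hom x) at h2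
  rw [← h2, hx]
  simp

theorem surjective_specMap {A B : CommRingCat.{u}} (f : A ⟶ B) (hf : Function.Surjective f)
    (hk : ∀ x : A, f x = 0 → IsNilpotent x) : Surjective (Spec.map f) := by
  refine ⟨fun x => ?_⟩
  have h1 : x ∈ Set.range (PrimeSpectrum.comap f.hom) := by
    rw [range_comap_of_surjective _ _ hf]
    intro y hy
    obtain ⟨n, hn⟩ := hk y hy
    exact x.isPrime.mem_of_pow_mem n (by rw [hn]; exact Ideal.zero_mem _)
  obtain ⟨y, hy⟩ := h1
  exact ⟨y, hy⟩

/-- **Closure of a family of nilpotent extensions of an immersion.** -/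
theorem exists_close {Y : Scheme.{u}} {B₀ : CommRingCat.{u}} (j₀ : Spec B₀ ⟶ Y) [IsImmersion j₀] {κ : Type*}
    (B Q : κ → CommRingCat.{u}) (j : ∀ k, Spec (B k) ⟶ Y) (q : ∀ k, B k ⟶ Q k) (π : ∀ k, B₀ ⟶ Q k)
    (hq : ∀ k, Function.Surjective (q k)) (N : ℕ) (hN : ∀ k, RingHom.ker (q k).hom ^ N = ⊥)
    (w : ∀ k, Spec.map (q k) ≫ j k = Spec.map (π k) ≫ j₀) (hπ : ∀ b : B₀, (∀ k, π k b = 0) → b = 0) :
    ∃ (R : CommRingCat.{u}) (ι : Spec R ⟶ Y) (ρ₀ : R ⟶ B₀) (ρ : ∀ k, R ⟶ B k), IsImmersion ι ∧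
      Spec.map ρ₀ ≫ ι = j₀ ∧ (∀ k, Spec.map (ρ k) ≫ ι = j k) ∧ Function.Surjective ρ₀ ∧
      (∀ r : R, ρ₀ r = 0 → IsNilpotent r) ∧ (∀ r : R, (∀ k, ρ k r = 0) → r = 0) := by
  obtain ⟨E, ι, s, hι, hs1, hs2, hs3, H⟩ := exists_hull j₀ (N + 1) (Nat.succ_ne_zero N)
  have hz : ∀ k, ∃ g : Spec (B k) ⟶ Spec E, g ≫ ι = j k := by
    intro k
    have h0 : RingHom.ker (q k).hom ^ (N + 1) = ⊥ := by rw [pow_succ, hN k, Ideal.bot_mul]
    have hk : ∀ x ∈ RingHom.ker (q k).hom, IsNilpotent x := by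
      intro x hx
      refine ⟨N + 1, ?_⟩
      have := Ideal.pow_mem_pow hx (N + 1)
      rwa [h0, Ideal.mem_bot] at this
    exact H (Spec.map (q k)) (j k) (Spec.map (π k)) (surjective_specMap (q k) (hq k) hk)
      (ker_pow_eq_bot (q k) (N + 1) h0) (w k)
  choose g hg using hz
  let ε₀ : E ⟶ B₀ := Spec.preimage s
  have hε₀ : Spec.map ε₀ = s := Spec.map_preimage s
  let ε : ∀ k, E ⟶ B k := fun k => Spec.preimage (g k)
  have hε : ∀ k, Spec.map (ε k) = g k := fun k => Spec.map_preimage _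
  have hs1' : Function.Surjective ε₀ := by
    have : IsClosedImmersion (Spec.map ε₀) := by rw [hε₀]; exact hs1
    exact surjective_of_isClosedImmersion ε₀
  have hs2' : ∀ x : E, ε₀ x = 0 → IsNilpotent x := by
    intro x hx
    have h1 : Function.Surjective (PrimeSpectrum.comap ε₀.hom) := by
      intro y
      obtain ⟨z, hz⟩ := hs2.surj y
      rw [← hε₀] at hz
      exact ⟨z, hz⟩
    rw [← mem_nilradical, nilradical_eq_sInf, Ideal.mem_sInf]
    intro p hp
    obtain ⟨z, hz⟩ := h1 ⟨p, hp⟩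
    have h2 : x ∈ (PrimeSpectrum.comap ε₀.hom z).asIdeal := by
      rw [PrimeSpectrum.comap_asIdeal, Ideal.mem_comap]
      change ε₀ x ∈ _
      rw [hx]
      exact Ideal.zero_mem _
    rwa [hz] at h2
  have hcomp : ∀ k, ε k ≫ q k = ε₀ ≫ π k := by
    intro k
    apply Spec.map_injective
    rw [Spec.map_comp, Spec.map_comp, ← cancel_mono ι, Category.assoc, Category.assoc, hε, hε₀, hg, hs3, w]
  let K : Ideal E := ⨅ k, RingHom.ker (ε k).hom
  have hK : ∀ x ∈ K, ∀ k, ε k x = 0 := by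
    intro x hx k
    exact (Ideal.mem_iInf.mp hx) k
  have hK0 : ∀ x ∈ K, ε₀ x = 0 := by
    intro x hx
    apply hπ
    intro k
    have h1 := congr($(hcomp k) x)
    change q k (ε k x) = π k (ε₀ x) at h1
    rw [← h1, hK x hx k, map_zero]
  let mk : E ⟶ CommRingCat.of (E ⧸ K) := CommRingCat.ofHom (Ideal.Quotient.mk K)
  have hmk : IsClosedImmersion (Spec.map mk) := IsClosedImmersion.spec_of_surjective mk (Ideal.Quotient.mk_surjective (I := K))
  let ρ₀ : CommRingCat.of (E ⧸ K) ⟶ B₀ := CommRingCat.ofHom (Ideal.Quotient.lift K ε₀.hom hK0)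
  let ρ : ∀ k, CommRingCat.of (E ⧸ K) ⟶ B k := fun k =>
    CommRingCat.ofHom (Ideal.Quotient.lift K (ε k).hom (fun x hx => hK x hx k))
  have hρ₀ : mk ≫ ρ₀ = ε₀ := by
    ext x
    exact Ideal.Quotient.lift_mk K ε₀.hom hK0
  have hρ : ∀ k, mk ≫ ρ k = ε k := by
    intro k
    ext x
    exact Ideal.Quotient.lift_mk K (ε k).hom (fun x hx => hK x hx k)
  refine ⟨CommRingCat.of (E ⧸ K), Spec.map mk ≫ ι, ρ₀, ρ, inferInstance, ?_, ?_, ?_, ?_, ?_⟩
  · rw [← Category.assoc, ← Spec.map_comp, hρ₀, hε₀, hs3]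
  · intro k
    rw [← Category.assoc, ← Spec.map_comp, hρ, hε, hg]
  · intro b
    obtain ⟨x, hx⟩ := hs1' b
    exact ⟨mk x, by rw [← hx, ← hρ₀]; rfl⟩
  · intro r hr
    obtain ⟨x, rfl⟩ := Ideal.Quotient.mk_surjective (I := K) r
    have h1 : ε₀ x = 0 := by
      rw [← hρ₀]
      exact hr
    exact (hs2' x h1).map (Ideal.Quotient.mk K)
  · intro r hr
    obtain ⟨x, rfl⟩ := Ideal.Quotient.mk_surjective (I := K) r
    refine Ideal.Quotient.eq_zero_iff_mem.mpr (Ideal.mem_iInf.mpr fun k => ?_)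
    have h1 := hr k
    rw [RingHom.mem_ker, ← hρ k]
    exact h1

/-- **Maps `Spec P ⟶ Y` factoring up to nilpotents through an immersion `Spec R ⟶ Y`.** -/
theorem exists_close_map {Y : Scheme.{u}} {R P : CommRingCat.{u}} (ι : Spec R ⟶ Y) [IsImmersion ι] (κ : Spec P ⟶ Y)
    {Z : Scheme.{u}} (s : Z ⟶ Spec P) [Surjective s] (a : Z ⟶ Spec R) (w : s ≫ κ = a ≫ ι) (r : R) :
    ∃ z : P, ∀ (D : CommRingCat.{u}) (g : P ⟶ D) (b : R ⟶ D), Spec.map g ≫ κ = Spec.map b ≫ ι → g z = b r := by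
  let w₁ : pullback κ ι ⟶ Spec P := pullback.fst κ ι
  have h1 : Set.range w₁ = Set.univ := by
    rw [Set.eq_univ_iff_forall]
    intro x
    obtain ⟨y, rfl⟩ := s.surjective x
    exact ⟨pullback.lift s a w y, by rw [← Scheme.Hom.comp_apply, pullback.lift_fst]⟩
  have h2 : IsClosedImmersion w₁ := IsClosedImmersion.of_isPreimmersion _ (by rw [h1]; exact isClosed_univ)
  obtain ⟨I, e, he⟩ := IsClosedImmersion.Spec_iff.mp h2
  let θ : R ⟶ CommRingCat.of (P ⧸ I) := Spec.preimage (e.inv ≫ pullback.snd κ ι)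
  have hθ : Spec.map θ = e.inv ≫ pullback.snd κ ι := Spec.map_preimage _
  obtain ⟨z, hz⟩ := Ideal.Quotient.mk_surjective (I := I) (θ r)
  refine ⟨z, fun D g b hgb => ?_⟩
  let g' : CommRingCat.of (P ⧸ I) ⟶ D := Spec.preimage (pullback.lift (Spec.map g) (Spec.map b) hgb ≫ e.hom)
  have hg' : Spec.map g' = pullback.lift (Spec.map g) (Spec.map b) hgb ≫ e.hom := Spec.map_preimage _
  have h3 : CommRingCat.ofHom (Ideal.Quotient.mk I) ≫ g' = g := by
    apply Spec.map_injective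
    rw [Spec.map_comp, hg', Category.assoc, ← he, pullback.lift_fst]
  have h4 : θ ≫ g' = b := by
    apply Spec.map_injective
    rw [Spec.map_comp, hg', hθ, Category.assoc, Iso.hom_inv_id_assoc, pullback.lift_snd]
  rw [← h3, ← h4]
  change g' (Ideal.Quotient.mk I z) = g' (θ r)
  rw [hz]

/-- Two morphisms `Spec D ⟶ Y` agreeing up to nilpotents and on a separating family of affine schemes are equal. -/
theorem eq_of_jointly {Y : Scheme.{u}} {D : CommRingCat.{u}} (a b : Spec D ⟶ Y) {Z : Scheme.{u}} (s : Z ⟶ Spec D)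
    [Surjective s] (w : s ≫ a = s ≫ b) {κ : Type*} (E : κ → CommRingCat.{u}) (g : ∀ k, D ⟶ E k)
    (hg : ∀ k, Spec.map (g k) ≫ a = Spec.map (g k) ≫ b) (hinj : ∀ d : D, (∀ k, g k d = 0) → d = 0) : a = b := by
  let w₁ := equalizer.ι a b
  have h1 : Set.range w₁ = Set.univ := by
    rw [Set.eq_univ_iff_forall]
    intro x
    obtain ⟨y, rfl⟩ := s.surjective x
    exact ⟨equalizer.lift s w y, by rw [← Scheme.Hom.comp_apply, equalizer.lift_ι]⟩
  have h2 : IsClosedImmersion w₁ := IsClosedImmersion.of_isPreimmersion _ (by rw [h1]; exact isClosed_univ)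
  obtain ⟨I, e, he⟩ := IsClosedImmersion.Spec_iff.mp h2
  have hI : I = ⊥ := by
    rw [eq_bot_iff]
    intro d hd
    rw [Ideal.mem_bot]
    refine hinj d fun k => ?_
    let g' : CommRingCat.of (D ⧸ I) ⟶ E k := Spec.preimage (equalizer.lift (Spec.map (g k)) (hg k) ≫ e.hom)
    have h3 : CommRingCat.ofHom (Ideal.Quotient.mk I) ≫ g' = g k := by
      apply Spec.map_injective
      rw [Spec.map_comp, Spec.map_preimage, Category.assoc, ← he, equalizer.lift_ι]
    rw [← h3]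
    change g' (Ideal.Quotient.mk I d) = 0
    rw [Ideal.Quotient.eq_zero_iff_mem.mpr hd, map_zero]
  subst hI
  have h4 : IsIso (CommRingCat.ofHom (Ideal.Quotient.mk (⊥ : Ideal D))) := by
    rw [ConcreteCategory.isIso_iff_bijective]
    exact ⟨(injective_iff_map_eq_zero _).mpr fun x hx => by simpa [Ideal.Quotient.eq_zero_iff_mem] using hx,
      Ideal.Quotient.mk_surjective⟩
  have h5 : IsIso w₁ := by rw [he]; infer_instance
  rw [← cancel_epi w₁]
  exact equalizer.condition a b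

end K18.NilHull
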