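import Groth.Agent.SGA3x.K18.TorsAlg
import Groth.Agent.SGA3x.K18.NilHull
import Groth.Agent.SGA3x.K9.NilDS

/-!
# Homomorphisms out of a split torus over a nilpotent thickening

`C` a ring, `J` a nilpotent ideal, `M` a group with `⋂ q ^ k M = 0`, `G` any group scheme over `C`.  A homomorphism given on the
points of `D(M)` of order a power of `q` and on the points of `D(M)` with values in schemes over `C / J` extends uniquely
to a homomorphism `D(M) ⟶ G`.
-/

set_option autoImplicit false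
universe u
open CategoryTheory MonoidalCategory CartesianMonoidalCategory MonObj GrpObj AlgebraicGeometry Limits
open scoped TensorProduct

namespace K18.TorsExt

open Groth.Agent.Sga3B Groth.Agent.Sga3B.DSPts Groth.Agent.Sga3B.InfConj Groth.Agent.Sga3B.TorTransp K9.NilDS
open K18.TorsAlg

section general

variable {S : Scheme.{u}}

/-- A homomorphism from `T` to `G` defined on the points satisfying `D`. -/
structure PHom (T G : Over S) [GrpObj T] [GrpObj G] (D : ∀ X : Over S, (X ⟶ T) → Prop) where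
  /-- the values -/
  u : ∀ {X : Over S} (x : X ⟶ T), D X x → (X ⟶ G)
  nat : ∀ {X X' : Over S} (f : X' ⟶ X) (x : X ⟶ T) (hx : D X x) (hx' : D X' (f ≫ x)), f ≫ u x hx = u (f ≫ x) hx'
  mul : ∀ {X : Over S} (x y : X ⟶ T) (hx : D X x) (hy : D X y) (hxy : D X (x * y)), u (x * y) hxy = u x hx * u y hy

/-- The points of order a power of `q` and the points with values over `P`. -/
def Dom (q : ℕ) (P T : Over S) [GrpObj T] (X : Over S) (x : X ⟶ T) : Prop :=
  (∃ k : ℕ, x ^ (q ^ k) = 1) ∨ Nonempty (X ⟶ P)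

lemma comp_pow {T X X' : Over S} [GrpObj T] (f : X' ⟶ X) (x : X ⟶ T) (n : ℕ) : f ≫ x ^ n = (f ≫ x) ^ n := by
  induction n with
  | zero => rw [pow_zero, pow_zero, MonObj.comp_one]
  | succ n hn => rw [pow_succ, pow_succ, MonObj.comp_mul, hn]

lemma Dom.comp {q : ℕ} {P T : Over S} [GrpObj T] {X X' : Over S} (f : X' ⟶ X) {x : X ⟶ T} (h : Dom q P T X x) :
    Dom q P T X' (f ≫ x) := by
  rcases h with ⟨k, hk⟩ | ⟨⟨t⟩⟩
  · exact Or.inl ⟨k, by rw [← comp_pow, hk, MonObj.comp_one]⟩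
  · exact Or.inr ⟨f ≫ t⟩

lemma Dom.mul {q : ℕ} {P T : Over S} [GrpObj T] {X : Over S} {x y : X ⟶ T} (hc : Commute x y) (hx : Dom q P T X x)
    (hy : Dom q P T X y) : Dom q P T X (x * y) := by
  rcases hx with ⟨k, hk⟩ | h
  · rcases hy with ⟨l, hl⟩ | h
    · refine Or.inl ⟨k + l, ?_⟩
      rw [hc.mul_pow, pow_add, pow_mul, hk, mul_comm, pow_mul, hl, one_pow, one_pow, _root_.mul_one]
    · exact Or.inr h
  · exact Or.inr h

variable {T G : Over S} [GrpObj T] [GrpObj G] {D : ∀ X : Over S, (X ⟶ T) → Prop}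

lemma PHom.congr (u : PHom T G D) {X : Over S} {x y : X ⟶ T} (h : x = y) (hx : D X x) (hy : D X y) :
    u.u x hx = u.u y hy := by
  subst h
  rfl

end general

section affine

variable {C : Type u} [CommRing C] {M : Type} [AddCommGroup M]

lemma ptMap_injective {E E' : Type u} [CommRing E] [CommRing E'] [Algebra C E] [Algebra C E'] {φ ψ : E →ₐ[C] E'}
    (h : ptMap φ = ptMap ψ) : φ = ψ := by
  have h1 := Spec.map_injective (congrArg (fun f => f.left) h)
  ext x
  exact congr($h1 x)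

lemma mul_comm_pt {X : Over (Spec (CommRingCat.of C))} (x y : X ⟶ Red.DS (Spec (CommRingCat.of C)) M) :
    Commute x y := by
  apply (dsEquiv X M).symm.injective
  rw [map_mul, map_mul, mul_comm]

lemma charPt_one {E : Type u} [CommRing E] [Algebra C E] : charPt (C := C) (M := M) (1 : Multiplicative M →* E) = 1 := by
  rw [← ptCh_one (C := C) (N := M) (E := E), charPt_ptCh]

lemma charPt_pow {E : Type u} [CommRing E] [Algebra C E] (χ : Multiplicative M →* E) (n : ℕ) :
    charPt (C := C) (χ ^ n) = charPt χ ^ n := by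
  induction n with
  | zero => rw [pow_zero, pow_zero, charPt_one]
  | succ n hn => rw [pow_succ, pow_succ, charPt_mul, hn]

lemma charPt_eq {E : Type u} [CommRing E] [Algebra C E] (χ : Multiplicative M →* E) :
    charPt (C := C) χ = ptMap (MonoidAlgebra.lift C E (Multiplicative M) χ) ≫ univPt C M := by
  rw [univPt, ptMap_charPt]
  congr 1
  ext m
  simp

/-- the inverse of the universal point -/
lemma exists_inv_univPt : ∃ v : Red.DS (Spec (CommRingCat.of C)) M ⟶ pt C (MonoidAlgebra C (Multiplicative M)),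
    v ≫ univPt C M = 𝟙 _ := by
  obtain ⟨v, hv⟩ := exists_eq_comp_charPt (𝟙 (Red.DS (Spec (CommRingCat.of C)) M))
  exact ⟨v, hv.symm⟩

instance : IsIso (univPt C M) := by
  obtain ⟨v, hv⟩ := exists_inv_univPt (C := C) (M := M)
  refine ⟨v, ?_, hv⟩
  obtain ⟨φ, hφ⟩ : ∃ φ : MonoidAlgebra C (Multiplicative M) →ₐ[C] MonoidAlgebra C (Multiplicative M),
      ptMap φ = univPt C M ≫ v := by
    have h1 : Spec.map (Spec.preimage (univPt C M ≫ v).left) = (univPt C M ≫ v).left := Spec.map_preimage _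
    refine ⟨⟨(Spec.preimage (univPt C M ≫ v).left).hom, fun c => ?_⟩, ?_⟩
    · have h2 := Over.w (univPt C M ≫ v)
      rw [← h1] at h2
      change Spec.map _ ≫ Spec.map _ = Spec.map _ at h2
      rw [← Spec.map_comp] at h2
      have h3 := Spec.map_injective h2
      exact congr($h3 c)
    · ext1
      exact h1
  have h2 : ptMap φ ≫ univPt C M = univPt C M := by rw [hφ, Category.assoc, hv, Category.comp_id]
  have h3 : φ = AlgHom.id C _ := by
    rw [univPt, ptMap_charPt] at h2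
    have h4 := congrArg (ptCh (C := C)) h2
    rw [ptCh_charPt, ptCh_charPt] at h4
    exact (MonoidAlgebra.lift C _ (Multiplicative M)).symm.injective h4
  rw [← hφ, h3, ptMap_id]

/-- algebra homomorphisms from morphisms -/
lemma exists_algHom {E R : Type u} [CommRing E] [Algebra C E] [CommRing R] [Algebra C R]
    (f : CommRingCat.of R ⟶ CommRingCat.of E) (h : Spec.map f ≫ (pt C R).hom = (pt C E).hom) :
    ∃ φ : R →ₐ[C] E, (∀ r, φ r = f r) ∧ (ptMap φ).left = Spec.map f := by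
  refine ⟨⟨f.hom, fun c => ?_⟩, fun r => rfl, rfl⟩
  change Spec.map _ ≫ Spec.map _ = Spec.map _ at h
  rw [← Spec.map_comp] at h
  exact congr($(Spec.map_injective h) c)

variable (M) (q : ℕ)

/-- the tautological character of `C[M / q ^ k M]` -/
noncomputable def ofk (C : Type u) [CommRing C] (k : ℕ) :
    Multiplicative M →* MonoidAlgebra C (Multiplicative (Qt q M k)) :=
  (MonoidAlgebra.of C _).comp (pr q M k)

lemma ofk_pow (k : ℕ) : (ofk M q C k) ^ (q ^ k) = 1 := by
  refine MonoidHom.ext fun m => ?_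
  rw [MonoidHom.pow_apply, ofk, MonoidHom.comp_apply, ← map_pow, pr_pow, map_one, MonoidHom.one_apply]

/-- the `q ^ k`-torsion of `D(M)` -/
noncomputable def tk (C : Type u) [CommRing C] (k : ℕ) :
    pt C (MonoidAlgebra C (Multiplicative (Qt q M k))) ⟶ Red.DS (Spec (CommRingCat.of C)) M :=
  charPt (ofk M q C k)

lemma tk_pow (k : ℕ) : (tk M q C k) ^ (q ^ k) = 1 := by
  rw [tk, ← charPt_pow, ofk_pow, charPt_one]

/-- the part of `D(M)` over `C / J` -/
noncomputable def t0 (J : Ideal C) :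
    pt C (MonoidAlgebra (C ⧸ J) (Multiplicative M)) ⟶ Red.DS (Spec (CommRingCat.of C)) M :=
  charPt (MonoidAlgebra.of (C ⧸ J) (Multiplicative M))

/-- `C[M] ⟶ (C / J)[M]` -/
noncomputable abbrev redJ (J : Ideal C) :
    MonoidAlgebra C (Multiplicative M) →ₐ[C] MonoidAlgebra (C ⧸ J) (Multiplicative M) :=
  MonoidAlgebra.mapAlgHom (Multiplicative M) (Ideal.Quotient.mkₐ C J)

lemma tk_eq (k : ℕ) : tk M q C k = ptMap (red q M C k) ≫ univPt C M := by
  rw [tk, univPt, ptMap_charPt]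
  congr 1
  ext m
  simp [ofk, MonoidAlgebra.of]

lemma t0_eq (J : Ideal C) : t0 M J = ptMap (redJ M J) ≫ univPt C M := by
  rw [t0, univPt, ptMap_charPt]
  congr 1
  ext m
  simp [MonoidAlgebra.of]

lemma dom_tk (P : Over (Spec (CommRingCat.of C))) (k : ℕ) : Dom q P _ _ (tk M q C k) := Or.inl ⟨k, tk_pow M q k⟩

lemma dom_t0 (J : Ideal C) : Dom q (pt C (C ⧸ J)) _ _ (t0 M J) :=
  Or.inr ⟨ptMap (IsScalarTower.toAlgHom C (C ⧸ J) (MonoidAlgebra (C ⧸ J) (Multiplicative M)))⟩

variable {M q}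

/-- torsion points factor through the torsion subgroup -/
lemma exists_factor_tk {X : Over (Spec (CommRingCat.of C))} (x : X ⟶ Red.DS (Spec (CommRingCat.of C)) M) (k : ℕ)
    (hx : x ^ (q ^ k) = 1) : ∃ y, y ≫ tk M q C k = x := by
  have h1 : (dsChar x) ^ (q ^ k) = 1 := by
    have := congrArg (dsEquiv X M).symm hx
    rw [map_pow, map_one] at this
    exact this
  let φ : M →+ Additive Γ(X.left, ⊤) := MonoidHom.toAdditiveRight (dsChar x)
  have h2 : N q M k ≤ φ.ker := by
    rintro _ ⟨n, rfl⟩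
    rw [AddMonoidHom.mem_ker]
    change φ ((q ^ k) • n) = 0
    rw [map_nsmul]
    exact congr($h1 (Multiplicative.ofAdd n))
  let φ' : Qt q M k →+ Additive Γ(X.left, ⊤) := QuotientAddGroup.lift (N q M k) φ h2
  let χ : Multiplicative (Qt q M k) →* Γ(X.left, ⊤) := MonoidHom.toAdditiveRight.symm φ'
  obtain ⟨y, hy⟩ := exists_eq_comp_charPt (dsEquiv X (Qt q M k) χ)
  refine ⟨y, ?_⟩
  have h3 : tk M q C k = univPt C (Qt q M k) ≫ Red.DSmap _ (QuotientAddGroup.mk' (N q M k)) := by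
    rw [univPt, charPt, dsEquiv_DSmap]
    rfl
  rw [h3, ← Category.assoc, ← hy, dsEquiv_DSmap]
  conv_rhs => rw [← dsEquiv_dsChar x]
  congr 1

/-- points over `C / J` factor through the part over `C / J` -/
lemma exists_factor_t0 (J : Ideal C) {X : Over (Spec (CommRingCat.of C))}
    (x : X ⟶ Red.DS (Spec (CommRingCat.of C)) M) (t : X ⟶ pt C (C ⧸ J)) : ∃ y, y ≫ t0 M J = x := by
  obtain ⟨h, h1, h2⟩ := exists_pair (R := C) (M := M) t x
  exact ⟨h, h2⟩

lemma exists_factor {J : Ideal C} {X : Over (Spec (CommRingCat.of C))}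
    {x : X ⟶ Red.DS (Spec (CommRingCat.of C)) M} (hx : Dom q (pt C (C ⧸ J)) _ X x) :
    (∃ k y, y ≫ tk M q C k = x) ∨ (∃ y, y ≫ t0 M J = x) := by
  rcases hx with ⟨k, hk⟩ | ⟨⟨t⟩⟩
  · exact Or.inl ⟨k, exists_factor_tk x k hk⟩
  · exact Or.inr (exists_factor_t0 J x t)

lemma isNilpotent_of_coeff {A Γ : Type*} [CommRing A] [CommMonoid Γ] (x : MonoidAlgebra A Γ)
    (hx : ∀ g, IsNilpotent (x.coeff g)) : IsNilpotent x := by
  have h1 : x = x.coeff.sum (fun m r => algebraMap A (MonoidAlgebra A Γ) r * MonoidAlgebra.of A Γ m) := by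
    conv_lhs => rw [← MonoidAlgebra.sum_coeff_single x]
    refine Finsupp.sum_congr fun m _ => ?_
    simp [MonoidAlgebra.of]
  rw [h1]
  refine isNilpotent_sum fun m _ => ?_
  exact mem_nilradical.mp (Ideal.mul_mem_right _ _ (mem_nilradical.mpr ((hx m).map (algebraMap A (MonoidAlgebra A Γ)))))

lemma surjective_mk {J : Ideal C} (hJ : ∀ x ∈ J, IsNilpotent x) (Γ : Type) [CommMonoid Γ] :
    Surjective (Spec.map (CommRingCat.ofHom (MonoidAlgebra.mapRingHom Γ (Ideal.Quotient.mk J)))) := by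
  refine NilHull.surjective_specMap _ (MonoidAlgebra.map_surjective _ Ideal.Quotient.mk_surjective) fun x hx => ?_
  refine isNilpotent_of_coeff x fun g => hJ _ ?_
  rw [← Ideal.Quotient.eq_zero_iff_mem]
  have h1 := congrArg (fun y => y.coeff g) hx
  exact h1

/-- **Uniqueness**. -/
theorem hom_eq (hM : Sep q M) {J : Ideal C} (hJ : ∀ x ∈ J, IsNilpotent x) {Y : Over (Spec (CommRingCat.of C))}
    {a b : Red.DS (Spec (CommRingCat.of C)) M ⟶ Y}
    (h : ∀ (X : Over (Spec (CommRingCat.of C))) (x : X ⟶ Red.DS (Spec (CommRingCat.of C)) M),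
      Dom q (pt C (C ⧸ J)) _ X x → x ≫ a = x ≫ b) : a = b := by
  rw [← cancel_epi (univPt C M)]
  ext1
  have hs : Surjective (ptMap (redJ M J)).left := surjective_mk hJ (Multiplicative M)
  refine NilHull.eq_of_jointly (D := CommRingCat.of (MonoidAlgebra C (Multiplicative M))) _ _
    (ptMap (redJ M J)).left ?_ (fun k => CommRingCat.of (MonoidAlgebra C (Multiplicative (Qt q M k))))
    (fun k => CommRingCat.ofHom (red q M C k).toRingHom) (fun k => ?_) (fun d hd => eq_zero_of_red hM d hd)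
  · have h1 := h _ _ (dom_t0 M q J)
    rw [t0_eq, Category.assoc, Category.assoc] at h1
    exact congrArg (fun f => f.left) h1
  · have h1 := h _ _ (dom_tk M q _ k)
    rw [tk_eq, Category.assoc, Category.assoc] at h1
    exact congrArg (fun f => f.left) h1

lemma DSmap_mul {M' : Type} [AddCommGroup M'] (φ : M →+ M') {X : Over (Spec (CommRingCat.of C))}
    (x y : X ⟶ Red.DS (Spec (CommRingCat.of C)) M') :
    (x * y) ≫ Red.DSmap _ φ = (x ≫ Red.DSmap _ φ) * (y ≫ Red.DSmap _ φ) := by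
  obtain ⟨χ, rfl⟩ := (dsEquiv X M').surjective x
  obtain ⟨χ', rfl⟩ := (dsEquiv X M').surjective y
  rw [← map_mul, dsEquiv_DSmap, dsEquiv_DSmap, dsEquiv_DSmap, ← map_mul]
  rfl

lemma DSmap_one {M' : Type} [AddCommGroup M'] (φ : M →+ M') {X : Over (Spec (CommRingCat.of C))} :
    (1 : X ⟶ Red.DS (Spec (CommRingCat.of C)) M') ≫ Red.DSmap _ φ = 1 := by
  have h := DSmap_mul φ (1 : X ⟶ Red.DS (Spec (CommRingCat.of C)) M') 1
  rw [one_mul_one (Red.DS (Spec (CommRingCat.of C)) M')] at h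
  exact eq_one_of_eq_mul h

lemma DSmap_pow {M' : Type} [AddCommGroup M'] (φ : M →+ M') {X : Over (Spec (CommRingCat.of C))}
    (x : X ⟶ Red.DS (Spec (CommRingCat.of C)) M') (n : ℕ) : (x ^ n) ≫ Red.DSmap _ φ = (x ≫ Red.DSmap _ φ) ^ n := by
  induction n with
  | zero => rw [pow_zero, pow_zero, DSmap_one]
  | succ n hn => rw [pow_succ, pow_succ, DSmap_mul, hn]

lemma Dom.map {M' : Type} [AddCommGroup M'] (φ : M →+ M') {P X : Over (Spec (CommRingCat.of C))}
    {x : X ⟶ Red.DS (Spec (CommRingCat.of C)) M'} (h : Dom q P _ X x) : Dom q P _ X (x ≫ Red.DSmap _ φ) := by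
  rcases h with ⟨k, hk⟩ | h
  · exact Or.inl ⟨k, by rw [← DSmap_pow, hk, DSmap_one]⟩
  · exact Or.inr h

/-- **A morphism extending a partial homomorphism is a homomorphism.** -/
theorem mul_of_phom (hM : Sep q M) {J : Ideal C} (hJ : ∀ x ∈ J, IsNilpotent x) {G : Over (Spec (CommRingCat.of C))}
    [GrpObj G] (u : PHom (Red.DS (Spec (CommRingCat.of C)) M) G (Dom q (pt C (C ⧸ J)) _))
    (h : Red.DS (Spec (CommRingCat.of C)) M ⟶ G) (hu : ∀ {X} (x : X ⟶ _) hx, x ≫ h = u.u x hx)
    {X : Over (Spec (CommRingCat.of C))} (x y : X ⟶ Red.DS (Spec (CommRingCat.of C)) M) :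
    (x * y) ≫ h = (x ≫ h) * (y ≫ h) := by
  let p₁ : Red.DS (Spec (CommRingCat.of C)) (M × M) ⟶ Red.DS (Spec (CommRingCat.of C)) M :=
    Red.DSmap _ (AddMonoidHom.inl M M)
  let p₂ : Red.DS (Spec (CommRingCat.of C)) (M × M) ⟶ Red.DS (Spec (CommRingCat.of C)) M :=
    Red.DSmap _ (AddMonoidHom.inr M M)
  have key : (p₁ * p₂) ≫ h = (p₁ ≫ h) * (p₂ ≫ h) := by
    refine hom_eq (hM.prod hM) hJ fun Z z hz => ?_
    have e1 : Dom q (pt C (C ⧸ J)) _ Z (z ≫ p₁) := hz.map _
    have e2 : Dom q (pt C (C ⧸ J)) _ Z (z ≫ p₂) := hz.map _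
    have e3 : Dom q (pt C (C ⧸ J)) _ Z ((z ≫ p₁) * (z ≫ p₂)) := e1.mul (mul_comm_pt _ _) e2
    rw [← Category.assoc, MonObj.comp_mul, MonObj.comp_mul, hu _ e3, ← Category.assoc, ← Category.assoc, hu _ e1, hu _ e2,
      u.mul _ _ e1 e2]
  let z : X ⟶ Red.DS (Spec (CommRingCat.of C)) (M × M) :=
    dsEquiv X (M × M) (((dsChar x).comp (AddMonoidHom.toMultiplicative (AddMonoidHom.fst M M))) *
      ((dsChar y).comp (AddMonoidHom.toMultiplicative (AddMonoidHom.snd M M))))
  have hz1 : z ≫ p₁ = x := by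
    rw [dsEquiv_DSmap]
    conv_rhs => rw [← dsEquiv_dsChar x]
    congr 1
    refine MonoidHom.ext fun m => ?_
    change dsChar x m * dsChar y 1 = dsChar x m
    rw [map_one, _root_.mul_one]
  have hz2 : z ≫ p₂ = y := by
    rw [dsEquiv_DSmap]
    conv_rhs => rw [← dsEquiv_dsChar y]
    congr 1
    refine MonoidHom.ext fun m => ?_
    change dsChar x 1 * dsChar y m = dsChar y m
    rw [map_one, _root_.one_mul]
  have h1 := congrArg (fun f => z ≫ f) key
  simp only [MonObj.comp_mul] at h1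
  rw [← Category.assoc, MonObj.comp_mul, ← Category.assoc, ← Category.assoc, hz1, hz2] at h1
  exact h1

end affine

end K18.TorsExt
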