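import Groth.Agent.SGA3x.K211.TorsQ
import Groth.Agent.SGA3x.K18.TorsExt
import Groth.Agent.RedSub.K197.LocP
import Groth.Agent.Sga3B.TorusEtLoc920
import Groth.Agent.Sga3.H798.TorusClosed

/-!
# Subtori are determined by their `q`-power torsion

* `isIso_of_torsion`: a closed subscheme of `D(ℤ^r)` containing the `q`-power torsion is everything (any base ring);
* `factor`: `T₁` a torus over any base, `a : T₁ ⟶ G`, `b : T₂ ⟶ G` a closed immersion; if the `q`-power torsion of `T₁`
  factors through `b`, then so does `a`;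
* `exists_iso`: two subtori with the same `q`-power torsion are equal.
-/

set_option autoImplicit false
universe u
open CategoryTheory MonoidalCategory CartesianMonoidalCategory MonObj GrpObj AlgebraicGeometry Limits

namespace K18.TorU

open Groth.Agent Groth.Agent.Sga3B Groth.Agent.Sga3B.InfConj K211.TorsQ Groth.Agent.Sga3B.BcPts K18.TorsExt

lemma pow_post {S : Scheme.{u}} {A B X : Over S} [GrpObj A] [GrpObj B] {f : A ⟶ B} (hf : IsMonHom f) (x : X ⟶ A)
    (n : ℕ) : (x ^ n) ≫ f = (x ≫ f) ^ n := MonObj.pow_comp _ _ _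

section split

variable {C : Type u} [CommRing C] {r q : ℕ}

/-- A closed subscheme of `D(ℤ^r)` containing the `q`-power torsion is everything. -/
theorem isIso_of_torsion (hq : 1 < q) {W : Over (Spec (CommRingCat.of C))}
    (w : W ⟶ Red.DS (Spec (CommRingCat.of C)) (Fin r → ℤ)) (hw : IsClosedImmersion w.left)
    (h : ∀ k, ∃ y : Red.DS (Spec (CommRingCat.of C)) (Fin r → ZMod (q ^ k)) ⟶ W,
      y ≫ w = Red.DSmap _ (cz r (q ^ k))) : IsIso w := by
  let M := Fin r → ℤ
  let A := MonoidAlgebra C (Multiplicative M)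
  let U : pt C A ⟶ Red.DS (Spec (CommRingCat.of C)) M := univPt C M
  have hU : IsIso U := inferInstanceAs (IsIso (univPt C M))
  let f : W ⟶ pt C A := w ≫ inv U
  have hf : IsClosedImmersion f.left := by
    have : IsIso (inv U).left := inferInstanceAs (IsIso ((Over.forget _).map (inv U)))
    change IsClosedImmersion (w.left ≫ (inv U).left)
    infer_instance
  obtain ⟨I, e, he⟩ := IsClosedImmersion.Spec_iff.1 (show IsClosedImmersion (Y := Spec (CommRingCat.of A)) f.left from hf)
  have hI : ∀ a ∈ I, a = 0 := by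
    intro a ha
    refine eq_zero_of_cz r hq a fun k => ?_
    obtain ⟨y, hy⟩ := h k
    let B := MonoidAlgebra C (Multiplicative (Fin r → ZMod (q ^ k)))
    have h1 : (univPt C (Fin r → ZMod (q ^ k)) ≫ y) ≫ f = ptMap (qA C (cz r (q ^ k))) := by
      rw [← cancel_mono U]
      change ((_ ≫ y) ≫ w ≫ inv U) ≫ U = _
      rw [Category.assoc, Category.assoc, Category.assoc, IsIso.inv_hom_id, Category.comp_id, hy]
      exact univPt_DSmap _
    have h2 := congrArg (fun m => m.left) h1
    let s : Spec (CommRingCat.of B) ⟶ Spec (CommRingCat.of (A ⧸ I)) :=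
      (univPt C (Fin r → ZMod (q ^ k)) ≫ y).left ≫ e.hom
    obtain ⟨g, hg⟩ := Spec.map_surjective s
    have h3 : Spec.map (CommRingCat.ofHom (Ideal.Quotient.mk I) ≫ g) =
        Spec.map (CommRingCat.ofHom (qA C (cz r (q ^ k))).toRingHom) := by
      rw [Spec.map_comp, hg]
      change ((univPt C (Fin r → ZMod (q ^ k)) ≫ y).left ≫ e.hom) ≫ _ = _
      rw [Category.assoc]
      have h4 : e.hom ≫ Spec.map (CommRingCat.ofHom (Ideal.Quotient.mk I)) = f.left := he.symm
      rw [h4]
      exact h2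
    have h5 := Spec.map_injective h3
    have h6 : g (Ideal.Quotient.mk I a) = qA C (cz r (q ^ k)) a := congr($h5 a)
    rw [← h6, Ideal.Quotient.eq_zero_iff_mem.2 ha, map_zero]
  have hbij : Function.Bijective (Ideal.Quotient.mk I) := by
    refine ⟨?_, Ideal.Quotient.mk_surjective⟩
    rw [injective_iff_map_eq_zero]
    intro a ha
    exact hI a (Ideal.Quotient.eq_zero_iff_mem.1 ha)
  have h7 : IsIso (CommRingCat.ofHom (Ideal.Quotient.mk I)) := by
    have := (RingEquiv.ofBijective _ hbij).toCommRingCatIso.isIso_hom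
    exact this
  have h8 : IsIso f.left := by
    rw [he]
    infer_instance
  have h9 : IsIso f := by
    have : IsIso ((Over.forget _).map f) := h8
    exact isIso_of_reflects_iso f (Over.forget _)
  have h10 : w = f ≫ U := by
    change w = (w ≫ inv U) ≫ U
    rw [Category.assoc, IsIso.inv_hom_id, Category.comp_id]
  rw [h10]
  infer_instance

/-- Factorization through a closed immersion, split tori. -/
theorem factor_split (hq : 1 < q) {T G : Over (Spec (CommRingCat.of C))}
    (a : Red.DS (Spec (CommRingCat.of C)) (Fin r → ℤ) ⟶ G) (b : T ⟶ G) (hb : IsClosedImmersion b.left)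
    (h : ∀ k, ∃ y : Red.DS (Spec (CommRingCat.of C)) (Fin r → ZMod (q ^ k)) ⟶ T,
      y ≫ b = Red.DSmap _ (cz r (q ^ k)) ≫ a) : ∃ φ, φ ≫ b = a := by
  let W : Over (Spec (CommRingCat.of C)) := Over.mk (pullback.fst a.left b.left ≫ (Red.DS _ (Fin r → ℤ)).hom)
  let w : W ⟶ Red.DS _ (Fin r → ℤ) := Over.homMk (pullback.fst a.left b.left)
  let w' : W ⟶ T := Over.homMk (pullback.snd a.left b.left) (by
    change pullback.snd a.left b.left ≫ T.hom = pullback.fst a.left b.left ≫ (Red.DS _ (Fin r → ℤ)).hom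
    rw [← Over.w b, ← Over.w a, ← Category.assoc, ← Category.assoc, pullback.condition])
  have hw : IsClosedImmersion w.left := inferInstanceAs (IsClosedImmersion (pullback.fst a.left b.left))
  have hww : w ≫ a = w' ≫ b := by
    ext1
    exact pullback.condition
  have : IsIso w := by
    refine isIso_of_torsion hq w hw fun k => ?_
    obtain ⟨y, hy⟩ := h k
    let l : (Red.DS (Spec (CommRingCat.of C)) (Fin r → ZMod (q ^ k))).left ⟶ pullback a.left b.left :=
      pullback.lift (Red.DSmap _ (cz r (q ^ k))).left y.left (congrArg (fun m => m.left) hy.symm)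
    have hl : l ≫ pullback.fst a.left b.left = (Red.DSmap _ (cz r (q ^ k))).left := pullback.lift_fst _ _ _
    refine ⟨Over.homMk l ?_, ?_⟩
    · change l ≫ pullback.fst a.left b.left ≫ _ = _
      rw [← Category.assoc, hl]
      exact Over.w _
    · ext1
      exact hl
  exact ⟨inv w ≫ w', by rw [Category.assoc, ← hww, IsIso.inv_hom_id_assoc]⟩

end split

variable {S : Scheme.{u}} {q : ℕ}

/-- **Factorization of a torus through a closed immersion.** -/
theorem factor (hq : 1 < q) {T₁ T₂ G : Over S} [GrpObj T₁] (hT : Red.IsTorus T₁) (a : T₁ ⟶ G) (b : T₂ ⟶ G)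
    (hb : IsClosedImmersion b.left)
    (h : ∀ (X : Over S) (x : X ⟶ T₁) (k : ℕ), x ^ (q ^ k) = 1 → ∃ y : X ⟶ T₂, y ≫ b = x ≫ a) :
    ∃ φ : T₁ ⟶ T₂, φ ≫ b = a := by
  have hbm : Mono b := by
    have : Mono ((Over.forget S).map b) := inferInstanceAs (Mono b.left)
    exact (Over.forget S).mono_of_mono_map this
  refine K197.LocP.exists_fac b a fun s => ?_
  obtain ⟨B, _, v, r, hv, hs, ⟨e⟩⟩ := TorusEtLoc920.exists_etale_split T₁ hT s
  refine ⟨_, v, inferInstance, inferInstance, hs, ?_⟩
  let i : Red.DS (Spec (CommRingCat.of B)) (Fin r → ℤ) ⟶ Red.bc v T₁ := e.inv.hom.hom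
  let j : Red.bc v T₁ ⟶ Red.DS (Spec (CommRingCat.of B)) (Fin r → ℤ) := e.hom.hom.hom
  have hi : IsMonHom i := inferInstanceAs (IsMonHom e.inv.hom.hom)
  have hji : j ≫ i = 𝟙 _ := congrArg (fun k => k.hom.hom) e.hom_inv_id
  obtain ⟨φ, hφ⟩ := factor_split hq (i ≫ (Over.pullback v).map a) ((Over.pullback v).map b)
    (Sga3B.SplitBc264.isClosedImmersion_bc v b hb) (fun k => by
      let x : Red.DS (Spec (CommRingCat.of B)) (Fin r → ZMod (q ^ k)) ⟶ Red.bc v T₁ := Red.DSmap _ (cz r (q ^ k)) ≫ i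
      have hx : x ^ (q ^ k) = 1 := by
        change (Red.DSmap _ (cz r (q ^ k)) ≫ i) ^ (q ^ k) = 1
        rw [← pow_post hi, DSmap_cz_pow]
        exact MonObj.one_comp _
      obtain ⟨y, hy⟩ := h _ ((bcEquiv v _ T₁).symm x) k (by
        change ((bcMulEquiv v _ T₁).symm x) ^ (q ^ k) = 1
        rw [← map_pow, hx, map_one])
      refine ⟨bcEquiv v _ T₂ y, ?_⟩
      rw [← bcEquiv_comp, hy, bcEquiv_comp, Equiv.apply_symm_apply]
      exact Category.assoc _ _ _)
  refine ⟨j ≫ φ, ?_⟩
  rw [Category.assoc, hφ, ← Category.assoc, hji, Category.id_comp]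

/-- Two subtori with the same `q`-power torsion are equal. -/
theorem exists_iso (hq : 1 < q) {T₁ T₂ G : Over S} [GrpObj T₁] [GrpObj T₂] (h₁ : Red.IsTorus T₁) (h₂ : Red.IsTorus T₂)
    (a : T₁ ⟶ G) (b : T₂ ⟶ G) (ha : IsClosedImmersion a.left) (hb : IsClosedImmersion b.left)
    (hab : ∀ (X : Over S) (x : X ⟶ T₁) (k : ℕ), x ^ (q ^ k) = 1 → ∃ y : X ⟶ T₂, y ≫ b = x ≫ a)
    (hba : ∀ (X : Over S) (x : X ⟶ T₂) (k : ℕ), x ^ (q ^ k) = 1 → ∃ y : X ⟶ T₁, y ≫ a = x ≫ b) :
    ∃ e : T₁ ≅ T₂, e.hom ≫ b = a := by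
  obtain ⟨φ, hφ⟩ := factor hq h₁ a b hb hab
  obtain ⟨ψ, hψ⟩ := factor hq h₂ b a ha hba
  have ha' : Mono a := by
    have : Mono ((Over.forget S).map a) := inferInstanceAs (Mono a.left)
    exact (Over.forget S).mono_of_mono_map this
  have hb' : Mono b := by
    have : Mono ((Over.forget S).map b) := inferInstanceAs (Mono b.left)
    exact (Over.forget S).mono_of_mono_map this
  refine ⟨⟨φ, ψ, ?_, ?_⟩, hφ⟩
  · rw [← cancel_mono a, Category.assoc, hψ, hφ, Category.id_comp]
  · rw [← cancel_mono b, Category.assoc, hφ, hψ, Category.id_comp]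

end K18.TorU
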