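import Groth.Agent.SGA3x.K18.RC
import Groth.Agent.SGA3x.K18.TorU
import Groth.Agent.SGA3x.K18.TorTors
import Groth.Agent.SGA3x.K18.SubDesc
import Groth.Agent.SGA3x.K9.CentDesc
import Groth.Agent.SGA3x.K388.SubDescGrp
import Groth.Agent.Sga3.H786.TCAff

/-!
# fpqc descent of subtori with prescribed torsion

* `isTors_of_bc`: being the `n`-torsion can be tested after an fpqc covering;
* `exists_desc`: `π : S' ⟶ S` an fpqc covering, `m k : M k ⟶ G` subgroups over `S`, `T'` a subtorus of `G_{S'}` with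
  `q^k`-torsion `(M k)_{S'}` for all `k`. Then `T'` descends to a subtorus `T` of `G` with `q^k`-torsion `M k`.
-/

set_option autoImplicit false
universe u
open CategoryTheory MonoidalCategory CartesianMonoidalCategory MonObj GrpObj AlgebraicGeometry Limits

namespace K18.TorDesc

open Groth.Agent Groth.Agent.Sga3B Groth.Agent.Sga3B.BcPts Groth.Agent.Sga3B.RedIso Groth.Agent.Sga3B.BcNat
  K13.NTorsion Groth.Agent.Sga3.H786.TCAff

variable {S S' : Scheme.{u}} {q : ℕ}

/-- A point of `G` over `X` which factors through a subobject after an fpqc base change factors. -/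
theorem exists_fac_of_bc (π : S' ⟶ S) [Flat π] [Surjective π] [QuasiCompact π] {X L H : Over S} (l : L ⟶ H) [Mono l]
    (x : X ⟶ H) (h : ∃ y, y ≫ (Over.pullback π).map l = (Over.pullback π).map x) : ∃ y, y ≫ l = x := by
  obtain ⟨y, hy⟩ := h
  let X' : Over S := (Over.map π).obj ((Over.pullback π).obj X)
  let c : X' ⟶ X := Over.homMk (pullback.fst X.hom π) pullback.condition
  have h1 : Flat c.left := inferInstanceAs (Flat (pullback.fst X.hom π))
  have h2 : Surjective c.left := inferInstanceAs (Surjective (pullback.fst X.hom π))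
  have h3 : QuasiCompact c.left := inferInstanceAs (QuasiCompact (pullback.fst X.hom π))
  refine SubDesc.factor_of_cover l c x ⟨(bcEquiv π _ L).symm y, ?_⟩
  rw [← bcEquiv_symm_comp]
  change (bcEquiv π _ H).symm (y ≫ (Over.pullback π).map l) = _
  rw [hy]
  ext1
  rw [Raw.bcEquiv_symm_left, Raw.map_left_fst]
  rfl

lemma map_pow_bc (π : S' ⟶ S) {X H : Over S} [GrpObj H] (x : X ⟶ H) (n : ℕ) :
    (Over.pullback π).map (x ^ n) = ((Over.pullback π).map x) ^ n := by
  induction n with
  | zero => rw [pow_zero, pow_zero]; exact Functor.map_one _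
  | succ n ih => rw [pow_succ, pow_succ, Functor.map_mul, ih]

/-- being the `n`-torsion can be tested after an fpqc covering -/
theorem isTors_of_bc (π : S' ⟶ S) [Flat π] [Surjective π] [QuasiCompact π] {n : ℕ} {L H : Over S} [GrpObj L]
    [GrpObj H] (l : L ⟶ H) [IsMonHom l] [Mono l] (h : IsTors n ((Over.pullback π).map l)) : IsTors n l := by
  refine ⟨inferInstance, inferInstance, fun X x => ⟨?_, fun hx => ?_⟩⟩
  · rintro ⟨y, rfl⟩
    have h1 : l ^ n = 1 := by
      refine K9.CentDesc.hom_ext_of_cover π (qc_cover π) ?_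
      have h2 := (h.pts _ _).1 ⟨𝟙 _, Category.id_comp _⟩
      refine Eq.trans ?_ (h2.trans ?_)
      · exact map_pow_bc π l n
      · exact (Functor.map_one _).symm
    rw [← MonObj.comp_pow, h1, MonObj.comp_one]
  · refine exists_fac_of_bc π l x ((h.pts _ _).2 ?_)
    refine Eq.trans (map_pow_bc π x n).symm ?_
    rw [hx]
    exact Functor.map_one _

/-- Two pull-backs of a subtorus with prescribed torsion agree. -/
theorem compat (hq : 1 < q) (π : S' ⟶ S) {G : Over S} [GrpObj G] [IsSeparated G.hom] [LocallyOfFiniteType G.hom]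
    [QuasiCompact G.hom] (M : ℕ → Over S) (grp : ∀ k, GrpObj (M k)) (m : ∀ k, M k ⟶ G) {T' : Over S'} [GrpObj T']
    (hT : Red.IsTorus T') (j' : T' ⟶ Red.bc π G) [IsMonHom j'] [Mono j']
    (hz : ∀ k, ∃ z : Red.bc π (M k) ⟶ T', IsTors (q ^ k) z ∧ z ≫ j' = (Over.pullback π).map (m k)) :
    Groth.Agent.Sga3.H799.DescSub.Compat j' := by
  have c1 : IsSeparated (Red.bc π G).hom := inferInstanceAs (IsSeparated (pullback.snd G.hom π))
  have c2 : LocallyOfFiniteType (Red.bc π G).hom := inferInstanceAs (LocallyOfFiniteType (pullback.snd G.hom π))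
  have c3 : QuasiCompact (Red.bc π G).hom := inferInstanceAs (QuasiCompact (pullback.snd G.hom π))
  have hcl : IsClosedImmersion j'.left := Groth.Agent.Sga3.H798.TorusClosed.isClosedImmersion_of_torus j' hT
  intro X a b g hg
  have h := RC.left_comp_eq a b
  obtain ⟨w, hw⟩ := TorU.factor hq (TorusBc.isTorus_bc a.left hT)
    ((Over.pullback a.left).map j' ≫ (und (fibIso h G)).hom) ((Over.pullback b.left).map j')
    (SplitBc264.isClosedImmersion_bc b.left j' hcl) (fun Y x k hx => by
      obtain ⟨z, hz1, hz2⟩ := hz k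
      obtain ⟨y, rfl⟩ := ((hz1.bc a.left).pts Y x).2 hx
      refine ⟨y ≫ (und (fibIso h (M k))).hom ≫ (Over.pullback b.left).map z, ?_⟩
      rw [Category.assoc, Category.assoc, Category.assoc, ← Functor.map_comp, hz2, ← fib_nat h (m k),
        ← Category.assoc ((Over.pullback a.left).map z), ← Functor.map_comp, hz2])
  exact RC.memAt_of_factor j' a b h w hw g hg

/-- **fpqc descent of subtori with prescribed torsion.** -/
theorem exists_desc (hq : 1 < q) (π : S' ⟶ S) [Flat π] [Surjective π] [QuasiCompact π] {G : Over S} [GrpObj G]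
    [IsSeparated G.hom] [LocallyOfFiniteType G.hom] [QuasiCompact G.hom] (M : ℕ → Over S) (grp : ∀ k, GrpObj (M k))
    (m : ∀ k, M k ⟶ G) (hm : ∀ k, IsMonHom (m k) ∧ Mono (m k)) {T' : Over S'} [GrpObj T']
    (hT : Red.IsTorus T') (j' : T' ⟶ Red.bc π G) [IsMonHom j'] [Mono j']
    (hz : ∀ k, ∃ z : Red.bc π (M k) ⟶ T', IsTors (q ^ k) z ∧ z ≫ j' = (Over.pullback π).map (m k)) :
    ∃ (T : Over S) (_ : GrpObj T) (j : T ⟶ G), IsMonHom j ∧ Mono j ∧ Red.IsTorus T ∧
      ∀ k, ∃ g : M k ⟶ T, g ≫ j = m k ∧ IsTors (q ^ k) g := by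
  have i1 := fun k => (hm k).1
  have i2 := fun k => (hm k).2
  have i3 : IsAffineHom T'.hom := (Groth.Agent.Sga3.H798.TorusClosed.torus_props hT).1
  obtain ⟨P, _, p, hp, hpm, hP, e, he⟩ := Groth.Agent.Sga3.H799.DescSub.exists_subgroup (t := j')
    (compat hq π M grp m hT j' hz) (qc_cover π) (RC.isQuasiAffine_of_isAffineHom _)
  have he1 : IsMonHom (und e).hom := e.hom.hom.isMonHom_hom
  have he2 : Red.IsTorus (Red.bc π P) := TorusBc.isTorus_of_iso e hT
  refine ⟨P, inferInstance, p, hp, hpm, isTorus_of_bc π he2, fun k => ?_⟩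
  obtain ⟨z, hz1, hz2⟩ := hz k
  obtain ⟨g, hg⟩ := exists_fac_of_bc π p (m k) ⟨z ≫ (und e).hom, by rw [Category.assoc, he, hz2]⟩
  have hgm : IsMonHom g := K388.SubDescGrp.isMonHom_of_comp g p (by rw [hg]; exact i1 k)
  have hgo : Mono g := by
    have : Mono (g ≫ p) := by rw [hg]; exact i2 k
    exact mono_of_mono g p
  refine ⟨g, hg, isTors_of_bc π g ?_⟩
  have hgz : (Over.pullback π).map g = z ≫ (und e).hom := by
    rw [← cancel_mono ((Over.pullback π).map p), ← Functor.map_comp, hg, Category.assoc, he, hz2]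
  rw [hgz]
  exact hz1.comp_iso e

end K18.TorDesc
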