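import Groth.Agent.SGA3x.K18.StrSplit
import Groth.Agent.SGA3x.K18.TorU
import Groth.Agent.SGA3x.K211.Trait
import Groth.Agent.SGA3x.K13.NTorsion
import Groth.Agent.SGA3x.K10.MTKer
import Groth.Agent.SGA3x.K388.SubDescGrp

/-!
# Subtori with prescribed torsion over a strictly henselian discrete valuation ring

`V` a strictly henselian discrete valuation ring, `G` a `V`-group of finite type, `M k` a coherent family of subgroups of
multiplicative type and `φ` a split subtorus of the generic fibre with `q^k`-torsion `(M k)_K`. Then `φ` extends to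
`Φ : D(ℤ^r) ⟶ G` with `q^k`-torsion `M k`, and `Φ` is a monomorphism on the special fibre.
-/

set_option autoImplicit false
universe u
open CategoryTheory MonoidalCategory CartesianMonoidalCategory MonObj GrpObj AlgebraicGeometry Limits IsLocalRing

namespace K18.TorTrait

open Groth.Agent Groth.Agent.Sga3B K211.TorsQ K13.NTorsion K18.StrSplit K12.Central

section gen

variable {S : Scheme.{u}}

/-- `D((ℤ/n)^r) ⟶ D(ℤ^r)` is the `n`-torsion. -/
theorem isTors_cz (r n : ℕ) : IsTors n (Red.DSmap S (cz r n)) where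
  mon := K197.TorChart.isMonHom_DSmap S _
  mono := K7.DSProp.mono_DSmap S _ (cz_surjective r n)
  pts X x := by
    constructor
    · rintro ⟨y, rfl⟩
      rw [← MonObj.comp_pow, DSmap_cz_pow, MonObj.comp_one]
    · intro hx
      obtain ⟨y, hy⟩ := exists_fac x n hx
      exact ⟨y, hy.symm⟩

/-- Two `n`-torsion subgroups of the same group are isomorphic over the group. -/
theorem exists_iso_tors {n : ℕ} {L L' H : Over S} [GrpObj L] [GrpObj L'] [GrpObj H] {l : L ⟶ H} {l' : L' ⟶ H}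
    (h : IsTors n l) (h' : IsTors n l') : ∃ θ : L ≅ L', IsMonHom θ.hom ∧ IsMonHom θ.inv ∧ θ.hom ≫ l' = l ∧ θ.inv ≫ l = l' := by
  have i1 := h.mon
  have i2 := h'.mon
  have i3 := h.mono
  have i4 := h'.mono
  obtain ⟨a, ha⟩ := (h'.pts L l).2 ((h.pts L l).1 ⟨𝟙 _, Category.id_comp _⟩)
  obtain ⟨b, hb⟩ := (h.pts L' l').2 ((h'.pts L' l').1 ⟨𝟙 _, Category.id_comp _⟩)
  refine ⟨⟨a, b, ?_, ?_⟩, ?_, ?_, ha, hb⟩
  · rw [← cancel_mono l, Category.assoc, hb, ha, Category.id_comp]
  · rw [← cancel_mono l', Category.assoc, ha, hb, Category.id_comp]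
  · exact K388.SubDescGrp.isMonHom_of_comp a l' (by rw [ha]; exact i1)
  · exact K388.SubDescGrp.isMonHom_of_comp b l (by rw [hb]; exact i2)

theorem isTors_of_iso {n : ℕ} {L L' H : Over S} [GrpObj L] [GrpObj L'] [GrpObj H] {l : L ⟶ H} (h : IsTors n l)
    (θ : L' ≅ L) (hθ : IsMonHom θ.hom) : IsTors n (θ.hom ≫ l) := by
  have i1 := h.mon
  have i3 := h.mono
  refine ⟨inferInstance, inferInstance, fun X x => ?_⟩
  rw [← h.pts X x]
  constructor
  · rintro ⟨y, rfl⟩
    exact ⟨y ≫ θ.hom, Category.assoc _ _ _⟩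
  · rintro ⟨y, rfl⟩
    exact ⟨y ≫ θ.inv, by rw [Category.assoc, Iso.inv_hom_id_assoc]⟩

lemma isMonHom_one (T G : Over S) [GrpObj T] [GrpObj G] : IsMonHom (1 : T ⟶ G) :=
  K211.Graph.isMonHom_of_mul _ fun T x y => by
    rw [MonObj.comp_one, MonObj.comp_one, MonObj.comp_one, _root_.mul_one]

lemma DSmap_zero {M N : Type} [AddCommGroup M] [AddCommGroup N] : Red.DSmap S (0 : M →+ N) = 1 := by
  apply (DSPts.dsEquiv (Red.DS S N) M).symm.injective
  rw [map_one]
  change DSPts.dsChar _ = 1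
  rw [← Category.id_comp (Red.DSmap S 0), DSPts.dsChar_DSmap]
  refine MonoidHom.ext fun m => ?_
  exact map_one (DSPts.dsChar (𝟙 (Red.DS S N)))

/-- A homomorphism with trivial kernel is a monomorphism. -/
theorem mono_of_ker {T G : Over S} [GrpObj T] [GrpObj G] (f : T ⟶ G) [IsMonHom f]
    (h : ∀ (X : Over S) (x : X ⟶ T), x ≫ f = 1 → x = 1) : Mono f := by
  refine ⟨fun {X} x y hxy => ?_⟩
  have h1 : (x * y⁻¹) ≫ f = 1 := by
    rw [MonObj.mul_comp, GrpObj.inv_comp, hxy, mul_inv_cancel]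
  exact mul_inv_eq_one.1 (h X _ h1)

end gen

variable {V : Type u} [CommRing V] [IsDomain V] [IsDiscreteValuationRing V] {r q : ℕ}

/-- The kernel of a homomorphism from a group of multiplicative type over an algebraically closed field. -/
theorem exists_ker_split {K : Type u} [Field K] [IsAlgClosed K] {T G : Over (Spec (CommRingCat.of K))} [GrpObj T]
    [GrpObj G] (hT : SGA3x.IsMultTypeFT T) (f : T ⟶ G) [IsMonHom f] [LocallyOfFiniteType G.hom] :
    ∃ (N : Type) (_ : AddCommGroup N) (a : Red.DS (Spec (CommRingCat.of K)) N ⟶ T), AddGroup.FG N ∧ IsMonHom a ∧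
      a ≫ f = 1 ∧ ∀ (X : Over (Spec (CommRingCat.of K))) (x : X ⟶ T), x ≫ f = 1 → ∃ y, y ≫ a = x := by
  have hsep : IsSeparated G.hom := Localalg.GrpSchComp2.isSeparated_hom _
  obtain ⟨gK, hk⟩ := KerGrp.exists_grpObj f
  have hKm : SGA3x.IsMultTypeFT (KerGrp.kerObj f) := by
    refine K10.MTKer.isMultTypeFT_kernel hT f (KerGrp.kerι f) fun X x => ⟨?_, fun h => KerGrp.exists_lift f x h⟩
    rintro ⟨z, rfl⟩
    rw [Category.assoc, KerGrp.kerι_comp, MonObj.comp_one]
  obtain ⟨N, _, hN, ⟨e⟩⟩ := exists_split_field hKm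
  have he : IsMonHom e.inv.hom.hom := e.inv.hom.isMonHom_hom
  have he' : e.hom.hom.hom ≫ e.inv.hom.hom = 𝟙 _ := grp_hom_inv e
  refine ⟨N, inferInstance, e.inv.hom.hom ≫ KerGrp.kerι f, hN, inferInstance, ?_, fun X x hx => ?_⟩
  · rw [Category.assoc, KerGrp.kerι_comp, MonObj.comp_one]
  · obtain ⟨t, rfl⟩ := KerGrp.exists_lift f x hx
    exact ⟨t ≫ e.hom.hom.hom, by rw [Category.assoc, reassoc_of% he']⟩

/-- A homomorphism from a diagonalizable group over a local ring which is trivial on the special fibre is trivial. -/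
theorem eq_one_of_special {R : Type u} [CommRing R] [IsLocalRing R] [IsNoetherianRing R] {N : Type} [AddCommGroup N]
    (hN : AddGroup.FG N) {G : Over (Spec (CommRingCat.of R))} [GrpObj G] (a : Red.DS (Spec (CommRingCat.of R)) N ⟶ G)
    [IsMonHom a] (h : (Over.pullback (Spec.map (CommRingCat.ofHom (residue R)))).map a = 1) : a = 1 := by
  have h1m : IsMonHom (1 : Red.DS (Spec (CommRingCat.of R)) N ⟶ G) := isMonHom_one _ _
  refine K12.CentEq.eq_of_local _ _ ?_ ?_
  · rw [eqz_mk_iff]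
    exact h.trans (Functor.map_one _).symm
  · rw [cen_mk_iff]
    intro X g x
    rw [h, MonObj.comp_one, _root_.one_mul, _root_.mul_one]

theorem ker_trivial {N : Type} [AddCommGroup N] (hN : AddGroup.FG N) {G : Over (Spec (CommRingCat.of V))} [GrpObj G]
    (Φ : Red.DS (Spec (CommRingCat.of V)) (Fin r → ℤ) ⟶ G) [IsMonHom Φ]
    (hΦ : Mono ((Over.pullback (Neron.genPt V)).map Φ)) (ψ : (Fin r → ℤ) →+ N)
    (h : (Over.pullback (Spec.map (CommRingCat.ofHom (residue V)))).map (Red.DSmap (Spec (CommRingCat.of V)) ψ ≫ Φ) = 1) :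
    ψ = 0 := by
  have hψm : IsMonHom (Red.DSmap (Spec (CommRingCat.of V)) ψ) := K197.TorChart.isMonHom_DSmap _ ψ
  have h1 : Red.DSmap (Spec (CommRingCat.of V)) ψ ≫ Φ = 1 := eq_one_of_special hN _ h
  refine K197.TorChart.eq_of_map_eq _ _ (Neron.genPt V) ?_
  rw [← cancel_mono ((Over.pullback (Neron.genPt V)).map Φ), ← Functor.map_comp, ← Functor.map_comp, h1, DSmap_zero,
    MonObj.one_comp]

/-- The special fibre of a homomorphism from a split torus over a trait, which is a monomorphism generically. -/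
theorem mono_special [IsAlgClosed (ResidueField V)] {G : Over (Spec (CommRingCat.of V))} [GrpObj G]
    [LocallyOfFiniteType G.hom] (Φ : Red.DS (Spec (CommRingCat.of V)) (Fin r → ℤ) ⟶ G) [IsMonHom Φ]
    (hΦ : Mono ((Over.pullback (Neron.genPt V)).map Φ)) :
    Mono ((Over.pullback (Spec.map (CommRingCat.ofHom (residue V)))).map Φ) := by
  have hf : IsMonHom ((Over.pullback (Spec.map (CommRingCat.ofHom (residue V)))).map Φ) := inferInstance
  have hlft : LocallyOfFiniteType (Red.bc (Spec.map (CommRingCat.ofHom (residue V))) G).hom :=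
    inferInstanceAs (LocallyOfFiniteType (pullback.snd G.hom (Spec.map (CommRingCat.ofHom (residue V)))))
  have hDm : SGA3x.IsMultTypeFT (Red.bc (Spec.map (CommRingCat.ofHom (residue V)))
      (Red.DS (Spec (CommRingCat.of V)) (Fin r → ℤ))) :=
    K10.MTLoc.of_split (M := Fin r → ℤ) inferInstance ⟨TorusAlgClosed.dsBcIso _ _⟩
  obtain ⟨N, _, a, hN, ha, ha1, hker⟩ := exists_ker_split hDm
    ((Over.pullback (Spec.map (CommRingCat.ofHom (residue V)))).map Φ)
  let b : Red.bc (Spec.map (CommRingCat.ofHom (residue V))) (Red.DS (Spec (CommRingCat.of V)) N) ⟶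
    Red.DS (Spec (CommRingCat.of (ResidueField V))) N := (TorusAlgClosed.dsBcIso _ N).hom.hom.hom
  have hb : IsMonHom b := (TorusAlgClosed.dsBcIso _ N).hom.hom.isMonHom_hom
  have hb' : IsIso b := inferInstanceAs (IsIso ((Grp.forget _).map (TorusAlgClosed.dsBcIso _ N).hom))
  obtain ⟨ψ, hψ⟩ := exists_lift_DS _ (b ≫ a)
  have h3 : ψ = 0 := ker_trivial hN Φ hΦ ψ (by
    rw [Functor.map_comp, hψ, Category.assoc, ha1, MonObj.comp_one])
  have h4 : a = 1 := by
    rw [← cancel_epi b, ← hψ, h3, DSmap_zero, MonObj.comp_one]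
    exact Functor.map_one _
  refine mono_of_ker _ fun X x hx => ?_
  obtain ⟨y, rfl⟩ := hker X x hx
  rw [h4, MonObj.comp_one]

section lift

variable [HenselianLocalRing V] [IsAlgClosed (ResidueField V)]

/-- An isomorphism of the generic fibres of the torsion extends. -/
theorem exists_theta {n : ℕ} {L : Over (Spec (CommRingCat.of V))} [GrpObj L] (hL : SGA3x.IsMultTypeFT L)
    (g : Red.bc (Neron.genPt V) L ⟶ Red.bc (Neron.genPt V) (Red.DS (Spec (CommRingCat.of V)) (Fin r → ℤ)))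
    (hg : IsTors n g) : ∃ θ : Red.DS (Spec (CommRingCat.of V)) (Fin r → ZMod n) ≅ L, IsMonHom θ.hom ∧ IsMonHom θ.inv ∧
      (Over.pullback (Neron.genPt V)).map θ.hom ≫ g = (Over.pullback (Neron.genPt V)).map (Red.DSmap _ (cz r n)) := by
  obtain ⟨N, _, hN, ⟨e⟩⟩ := exists_split hL
  obtain ⟨t, h1, h2, h3, h4⟩ := exists_iso_tors ((isTors_cz (S := Spec (CommRingCat.of V)) r n).bc (Neron.genPt V)) hg
  have e0 : Grp.mk (Red.DS (Spec (CommRingCat.of V)) (Fin r → ZMod n)) ≅ Grp.mk (Red.DS (Spec (CommRingCat.of V)) (Fin r → ZMod n)) :=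
    Iso.refl _
  obtain ⟨a, ha, ha'⟩ := exists_lift (Neron.genPt V) e0 e t.hom
  obtain ⟨b, hb, hb'⟩ := exists_lift (Neron.genPt V) e e0 t.inv
  refine ⟨⟨a, b, ?_, ?_⟩, ha, hb, by rw [ha', h3]⟩
  · refine hom_ext (Neron.genPt V) e0 e0 _ _ ?_
    rw [Functor.map_comp, ha', hb', Iso.hom_inv_id]
    exact (CategoryTheory.Functor.map_id _ _).symm
  · refine hom_ext (Neron.genPt V) e e _ _ ?_
    rw [Functor.map_comp, ha', hb', Iso.inv_hom_id]
    exact (CategoryTheory.Functor.map_id _ _).symm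

/-- **Extension of subtori with prescribed torsion.** -/
theorem exists_hom {G : Over (Spec (CommRingCat.of V))} [GrpObj G] [LocallyOfFiniteType G.hom] [QuasiCompact G.hom]
    (hq : 1 < q) (hqu : IsUnit (q : V)) (M : ℕ → Over (Spec (CommRingCat.of V))) (grp : ∀ k, GrpObj (M k))
    (m : ∀ k, M k ⟶ G) (hm : ∀ k, IsMonHom (m k) ∧ Mono (m k) ∧ SGA3x.IsMultTypeFT (M k))
    (hcoh : ∀ j k : ℕ, j ≤ k → ∃ f : M j ⟶ M k, f ≫ m k = m j)
    (φ : Red.bc (Neron.genPt V) (Red.DS (Spec (CommRingCat.of V)) (Fin r → ℤ)) ⟶ Red.bc (Neron.genPt V) G) [IsMonHom φ]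
    (hφm : Mono φ) (hφ : ∀ k, ∃ g : Red.bc (Neron.genPt V) (M k) ⟶
      Red.bc (Neron.genPt V) (Red.DS (Spec (CommRingCat.of V)) (Fin r → ℤ)),
      IsTors (q ^ k) g ∧ g ≫ φ = (Over.pullback (Neron.genPt V)).map (m k)) :
    ∃ Φ : Red.DS (Spec (CommRingCat.of V)) (Fin r → ℤ) ⟶ G, IsMonHom Φ ∧ (Over.pullback (Neron.genPt V)).map Φ = φ ∧
      Mono ((Over.pullback (Spec.map (CommRingCat.ofHom (residue V)))).map Φ) ∧
      ∀ k, ∃ z : M k ⟶ Red.DS (Spec (CommRingCat.of V)) (Fin r → ℤ), IsTors (q ^ k) z ∧ z ≫ Φ = m k := by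
  have i1 := fun k => (hm k).1
  have i2 := fun k => (hm k).2.1
  choose g hg hgφ using hφ
  choose θ hθ hθ' hθg using fun k => exists_theta (hm k).2.2 (g k) (hg k)
  have hcoh' : ∀ j k (h : j ≤ k), Red.DSmap (Spec (CommRingCat.of V)) (tz r (pow_dvd_pow q h)) ≫ (θ k).hom ≫ m k =
      (θ j).hom ≫ m j := by
    intro j k h
    obtain ⟨f, hf⟩ := hcoh j k h
    have hfm : IsMonHom f := K388.SubDescGrp.isMonHom_of_comp f (m k) (by rw [hf]; exact i1 j)
    have hfg : (Over.pullback (Neron.genPt V)).map f ≫ g k = g j := by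
      rw [← cancel_mono φ, Category.assoc, hgφ, hgφ, ← Functor.map_comp, hf]
    obtain ⟨N, _, hN, ⟨e⟩⟩ := exists_split (hm k).2.2
    have e0 : Grp.mk (Red.DS (Spec (CommRingCat.of V)) (Fin r → ZMod (q ^ j))) ≅
        Grp.mk (Red.DS (Spec (CommRingCat.of V)) (Fin r → ZMod (q ^ j))) := Iso.refl _
    have htz : IsMonHom (Red.DSmap (Spec (CommRingCat.of V)) (tz r (pow_dvd_pow q h))) :=
      K197.TorChart.isMonHom_DSmap _ _
    have key : Red.DSmap (Spec (CommRingCat.of V)) (tz r (pow_dvd_pow q h)) ≫ (θ k).hom = (θ j).hom ≫ f := by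
      refine hom_ext (Neron.genPt V) e0 e _ _ ?_
      have i3 := (hg k).mono
      rw [← cancel_mono (g k), Functor.map_comp, Functor.map_comp, Category.assoc, Category.assoc, hθg, hfg, hθg,
        ← Functor.map_comp, K7.DSProp.DSmap_comp, tz_comp_cz]
    rw [← Category.assoc, key, Category.assoc, hf]
  obtain ⟨Φ, h1, h2, h3⟩ := K211.Trait.exists_hom hq hqu φ (fun k => (θ k).hom ≫ m k) (fun k => inferInstance) hcoh'
    (fun k => by rw [Functor.map_comp, ← hgφ k, ← Category.assoc, hθg])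
  refine ⟨Φ, h1, h2, mono_special Φ (by rw [h2]; exact hφm), fun k => ⟨(θ k).inv ≫ Red.DSmap _ (cz r (q ^ k)),
    isTors_of_iso (isTors_cz r (q ^ k)) (θ k).symm (hθ' k), ?_⟩⟩
  rw [Category.assoc, h3, Iso.inv_hom_id_assoc]

end lift

end K18.TorTrait
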