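import Groth.Agent.SGA3x.K18.StrDvr
import Groth.Agent.SGA3x.K18.TorTrait
import Groth.Agent.SGA3x.K18.TorDesc
import Groth.Agent.Sga3.H789.FieldHull1

/-!
# Subtori with prescribed torsion in the fibres specialize

`G` of finite type over a locally noetherian scheme, `m k : M k ⟶ G` a coherent family of subgroups of multiplicative type, `q`
invertible. If for a point `t` there is a subtorus of the fibre `G_t` with `q^k`-torsion `(M k)_t` for all `k`, then the
same holds at all specializations `s` of `t`.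
-/

set_option autoImplicit false
universe u
open CategoryTheory MonoidalCategory CartesianMonoidalCategory MonObj GrpObj AlgebraicGeometry Limits IsLocalRing

namespace K18.TorSpec

open Groth.Agent Groth.Agent.Sga3B Groth.Agent.Sga3B.BcPts Groth.Agent.Sga3B.RedIso Groth.Agent.Sga3B.BcNat
  K13.NTorsion Groth.Agent.Sga3.H786.TCAff K18.TorTrait

variable {S S' : Scheme.{u}} {q : ℕ}

/-- A subtorus over `S'` with prescribed torsion. -/
def Has (q : ℕ) {G : Over S} [GrpObj G] {M : ℕ → Over S} [∀ k, GrpObj (M k)] (m : ∀ k, M k ⟶ G)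
    (v : S' ⟶ S) : Prop :=
  ∃ (T : Over S') (_ : GrpObj T) (j : T ⟶ Red.bc v G), IsMonHom j ∧ Mono j ∧ Red.IsTorus T ∧
    ∀ k, ∃ g : Red.bc v (M k) ⟶ T, g ≫ j = (Over.pullback v).map (m k) ∧ IsTors (q ^ k) g

lemma isMonHom_und {G H : Over S} [GrpObj G] [GrpObj H] (e : Grp.mk G ≅ Grp.mk H) : IsMonHom (und e).hom :=
  e.hom.hom.isMonHom_hom

lemma isMonHom_und_inv {G H : Over S} [GrpObj G] [GrpObj H] (e : Grp.mk G ≅ Grp.mk H) : IsMonHom (und e).inv :=
  e.inv.hom.isMonHom_hom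

variable {G : Over S} [GrpObj G] {M : ℕ → Over S} [∀ k, GrpObj (M k)] {m : ∀ k, M k ⟶ G}

/-- Base change of the data along a commutative square. -/
theorem Has.square {T₁ T₂ T₃ : Scheme.{u}} {f : T₁ ⟶ S} {f' : T₂ ⟶ S} {w : T₃ ⟶ T₁} {w' : T₃ ⟶ T₂}
    (h : w' ≫ f' = w ≫ f) (hH : Has q m f) : Has q (fun k => (Over.pullback f').map (m k)) w' := by
  obtain ⟨T, _, j, h1, h2, h3, h4⟩ := hH
  have i1 := isMonHom_und (fibIso h G)
  refine ⟨Red.bc w T, inferInstance, (Over.pullback w).map j ≫ (und (fibIso h G)).hom, inferInstance,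
    inferInstance, TorusBc.isTorus_bc w h3, fun k => ?_⟩
  obtain ⟨g, hg, hg'⟩ := h4 k
  refine ⟨(und (fibIso h (M k))).inv ≫ (Over.pullback w).map g, ?_, ?_⟩
  · rw [Category.assoc, ← Category.assoc ((Over.pullback w).map g), ← Functor.map_comp, hg, fib_nat h (m k),
      Iso.inv_hom_id_assoc]
  · exact isTors_of_iso (hg'.bc w) (und (fibIso h (M k))).symm (isMonHom_und_inv _)

/-- Descent along a field extension. -/
theorem Has.descend (hq : 1 < q) {T₁ : Scheme.{u}} {f : T₁ ⟶ S} {w : S' ⟶ T₁} [Flat w] [Surjective w] [QuasiCompact w]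
    [IsSeparated (Red.bc f G).hom] [LocallyOfFiniteType G.hom] [QuasiCompact G.hom]
    (hm : ∀ k, IsMonHom (m k) ∧ Mono (m k)) (hH : Has q (fun k => (Over.pullback f).map (m k)) w) : Has q m f := by
  obtain ⟨T, _, j, h1, h2, h3, h4⟩ := hH
  have i1 := fun k => (hm k).1
  have i2 := fun k => (hm k).2
  have c2 : LocallyOfFiniteType (Red.bc f G).hom := inferInstanceAs (LocallyOfFiniteType (pullback.snd G.hom f))
  have c3 : QuasiCompact (Red.bc f G).hom := inferInstanceAs (QuasiCompact (pullback.snd G.hom f))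
  exact TorDesc.exists_desc hq w (fun k => Red.bc f (M k)) inferInstance (fun k => (Over.pullback f).map (m k))
    (fun k => ⟨inferInstance, inferInstance⟩) h3 j fun k => by
      obtain ⟨z, hz, hz'⟩ := h4 k
      exact ⟨z, hz', hz⟩

lemma isSeparated_fibre (s : S) (G : Over S) [GrpObj G] : IsSeparated (Red.bc (S.fromSpecResidueField s) G).hom :=
  Localalg.GrpSchComp2.isSeparated_hom (K := S.residueField s) _

lemma flat_fibre (s : S) {X : Scheme.{u}} (f : X ⟶ Spec (S.residueField s)) : Flat f :=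
  Groth.Agent.Sga3.H789.FieldHull1.flat_of_field (k := S.residueField s) f

lemma surjective_fibre (s : S) {X : Scheme.{u}} [Nonempty X] (f : X ⟶ Spec (S.residueField s)) : Surjective f := by
  have h : Subsingleton (PrimeSpectrum (S.residueField s)) := inferInstance
  exact ⟨fun y => ⟨Classical.arbitrary X, h.elim _ _⟩⟩

section trait

variable {V : Type u} [CommRing V] [IsDomain V] [IsDiscreteValuationRing V] [HenselianLocalRing V]
  [IsAlgClosed (ResidueField V)] {r : ℕ}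

/-- **Extension over a trait.** -/
theorem exists_trait_hom (hq : 1 < q) (hqu : IsUnit (q : V)) {G : Over (Spec (CommRingCat.of V))} [GrpObj G]
    [LocallyOfFiniteType G.hom] [QuasiCompact G.hom] {M : ℕ → Over (Spec (CommRingCat.of V))}
    [grp : ∀ k, GrpObj (M k)] {m : ∀ k, M k ⟶ G} (hm : ∀ k, IsMonHom (m k) ∧ Mono (m k) ∧ SGA3x.IsMultTypeFT (M k))
    (hcoh : ∀ j k : ℕ, j ≤ k → ∃ f : M j ⟶ M k, f ≫ m k = m j) {T : Over (Spec (CommRingCat.of (FractionRing V)))}
    [GrpObj T] (hT : Red.IsSplitTorusWith (Fin r → ℤ) T) (j : T ⟶ Red.bc (Neron.genPt V) G) [IsMonHom j] [Mono j]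
    (hg : ∀ k, ∃ g : Red.bc (Neron.genPt V) (M k) ⟶ T, g ≫ j = (Over.pullback (Neron.genPt V)).map (m k) ∧
      IsTors (q ^ k) g) :
    ∃ (Φ : Red.DS (Spec (CommRingCat.of V)) (Fin r → ℤ) ⟶ G)
      (E : Grp.mk T ≅ Grp.mk (Red.bc (Neron.genPt V) (Red.DS (Spec (CommRingCat.of V)) (Fin r → ℤ)))),
      IsMonHom Φ ∧ (und E).hom ≫ (Over.pullback (Neron.genPt V)).map Φ = j ∧
      Mono ((Over.pullback (Spec.map (CommRingCat.ofHom (residue V)))).map Φ) ∧
      ∀ k, ∃ z : M k ⟶ Red.DS (Spec (CommRingCat.of V)) (Fin r → ℤ), IsTors (q ^ k) z ∧ z ≫ Φ = m k := by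
  obtain ⟨e⟩ := hT
  obtain ⟨E⟩ : Nonempty (Grp.mk T ≅ Grp.mk (Red.bc (Neron.genPt V) (Red.DS (Spec (CommRingCat.of V)) (Fin r → ℤ)))) :=
    ⟨e ≪≫ (TorusAlgClosed.dsBcIso (Neron.genPt V) (Fin r → ℤ)).symm⟩
  have i1 := isMonHom_und E
  have i2 := isMonHom_und_inv E
  obtain ⟨Φ, h1, h2, h3, h4⟩ := exists_hom hq hqu M grp m hm hcoh ((und E).inv ≫ j) inferInstance (fun k => by
    obtain ⟨g, hg1, hg2⟩ := hg k
    exact ⟨g ≫ (und E).hom, hg2.comp_iso E, by rw [Category.assoc, Iso.hom_inv_id_assoc, hg1]⟩)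
  exact ⟨Φ, E, h1, by rw [h2, Iso.hom_inv_id_assoc], h3, h4⟩

end trait

lemma isUnit_of_hom {A B : Type u} [CommRing A] [CommRing B] {q : ℕ} (h : IsUnit (q : A))
    (g : Spec (CommRingCat.of B) ⟶ Spec (CommRingCat.of A)) : IsUnit (q : B) := by
  obtain ⟨φ, rfl⟩ := Spec.map_surjective g
  have := h.map φ.hom
  rwa [map_natCast] at this

/-- **Specialization of subtori with prescribed torsion.** -/
theorem specializes {A : Type u} [CommRing A] [IsNoetherianRing A] {G : Over (Spec (CommRingCat.of A))} [GrpObj G]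
    [QuasiCompact G.hom] [LocallyOfFiniteType G.hom] {q : ℕ} (hq : 1 < q) (hqu : IsUnit (q : A))
    (M : ℕ → Over (Spec (CommRingCat.of A))) (grp : ∀ k, GrpObj (M k)) (m : ∀ k, M k ⟶ G)
    (hm : ∀ k, IsMonHom (m k) ∧ Mono (m k) ∧ SGA3x.IsMultTypeFT (M k))
    (hcoh : ∀ j k : ℕ, j ≤ k → ∃ f : M j ⟶ M k, f ≫ m k = m j) {t s : ↥(Spec (CommRingCat.of A))} (hts : t ⤳ s)
    (h : Has q m ((Spec (CommRingCat.of A)).fromSpecResidueField t)) :
    Has q m ((Spec (CommRingCat.of A)).fromSpecResidueField s) := by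
  by_cases hne : s = t
  · subst hne
    exact h
  obtain ⟨T, _, j, h1, h2, h3, h4⟩ := h
  obtain ⟨V, _, _, _, _, _, g, h, c, r, hgen, hsp, hTs⟩ := StrDvr.exists_trait hts hne T h3
  have hqV : IsUnit (q : V) := isUnit_of_hom hqu g
  have i1 := fun k => (hm k).1
  have i2 := fun k => (hm k).2.1
  have c2 : LocallyOfFiniteType (Red.bc g G).hom := inferInstanceAs (LocallyOfFiniteType (pullback.snd G.hom g))
  have c3 : QuasiCompact (Red.bc g G).hom := inferInstanceAs (QuasiCompact (pullback.snd G.hom g))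
  have c4 := isMonHom_und (fibIso hgen.symm G)
  obtain ⟨Φ, E, p1, p2, p3, p4⟩ := exists_trait_hom hq hqV (G := Red.bc g G) (M := fun k => Red.bc g (M k))
    (m := fun k => (Over.pullback g).map (m k))
    (fun k => ⟨inferInstance, inferInstance, MTDesc.isMultTypeFT_bc g (hm k).2.2⟩)
    (fun a b hab => by
      obtain ⟨f, hf⟩ := hcoh a b hab
      exact ⟨(Over.pullback g).map f, by rw [← Functor.map_comp, hf]⟩) hTs
    ((Over.pullback h).map j ≫ (und (fibIso hgen.symm G)).hom) (fun k => by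
      obtain ⟨y, hy, hy'⟩ := h4 k
      refine ⟨(und (fibIso hgen.symm (M k))).inv ≫ (Over.pullback h).map y, ?_, ?_⟩
      · rw [Category.assoc, ← Category.assoc ((Over.pullback h).map y), ← Functor.map_comp, hy, fib_nat hgen.symm (m k),
          Iso.inv_hom_id_assoc]
      · exact isTors_of_iso (hy'.bc h) (und (fibIso hgen.symm (M k))).symm (isMonHom_und_inv _))
  have c5 := isSeparated_fibre s G
  have c6 := flat_fibre s c
  have c7 := surjective_fibre s c
  refine Has.descend (w := c) hq (fun k => ⟨(hm k).1, (hm k).2.1⟩) ?_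
  let i : Spec (CommRingCat.of (ResidueField V)) ⟶ Spec (CommRingCat.of V) := Spec.map (CommRingCat.ofHom (residue V))
  have c8 := isMonHom_und_inv (fibIso hsp.symm G)
  refine ⟨Red.bc i (Red.DS _ (Fin r → ℤ)), inferInstance, (Over.pullback i).map Φ ≫ (und (fibIso hsp.symm G)).inv,
    inferInstance, mono_comp' p3 inferInstance, TorusBc.isTorus_bc i (isTorus_of_isSplitTorusWith ⟨Iso.refl _⟩), fun k => ?_⟩
  obtain ⟨z, hz, hz'⟩ := p4 k
  refine ⟨(und (fibIso hsp.symm (M k))).hom ≫ (Over.pullback i).map z, ?_, ?_⟩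
  · rw [Category.assoc, ← Category.assoc ((Over.pullback i).map z), ← Functor.map_comp, hz', ← Category.assoc,
      ← fib_nat hsp.symm (m k), Category.assoc, Iso.hom_inv_id, Category.comp_id]
  · exact isTors_of_iso (hz.bc i) (und (fibIso hsp.symm (M k))) (isMonHom_und _)

/-- The data in terms of kernels. -/
theorem has_iff (hm : ∀ k, IsMonHom (m k)) (v : S' ⟶ S) : Has q m v ↔ ∃ (T : Over S') (_ : GrpObj T) (j : T ⟶ Red.bc v G), IsMonHom j ∧ Mono j ∧
    Red.IsTorus T ∧ ∀ k, ∃ g : Red.bc v (M k) ⟶ T, g ≫ j = (Over.pullback v).map (m k) ∧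
      AlgGrp.IsKernel g ((𝟙 T : T ⟶ T) ^ (q ^ k)) := by
  constructor
  · rintro ⟨T, iT, j, h1, h2, h3, h4⟩
    refine ⟨T, iT, j, h1, h2, h3, fun k => ?_⟩
    obtain ⟨g, hg, hg'⟩ := h4 k
    exact ⟨g, hg, TorTors.isKernel_of_isTors hg'⟩
  · rintro ⟨T, iT, j, h1, h2, h3, h4⟩
    refine ⟨T, iT, j, h1, h2, h3, fun k => ?_⟩
    obtain ⟨g, hg, hg'⟩ := h4 k
    have i1 := hm k
    refine ⟨g, hg, TorTors.isTors_of_isKernel ?_ hg'⟩
    exact K388.SubDescGrp.isMonHom_of_comp g j (by rw [hg]; infer_instance)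

/-- **Specialization of subtori with prescribed torsion**, in the form of S8438. -/
theorem main {A : Type u} [CommRing A] [IsNoetherianRing A] {G : Over (Spec (CommRingCat.of A))} [GrpObj G]
    [QuasiCompact G.hom] [LocallyOfFiniteType G.hom] {q : ℕ} (hq : 1 < q) (hqu : IsUnit (q : A))
    (M : ℕ → Over (Spec (CommRingCat.of A))) (grp : ∀ k, GrpObj (M k)) (m : ∀ k, M k ⟶ G)
    (hm : ∀ k, IsMonHom (m k) ∧ Mono (m k) ∧ SGA3x.IsMultTypeFT (M k))
    (hcoh : ∀ j k : ℕ, j ≤ k → ∃ f : M j ⟶ M k, f ≫ m k = m j) {t s : ↥(Spec (CommRingCat.of A))} (hts : t ⤳ s)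
    (h : ∃ (Ts : Over (Spec ((Spec (CommRingCat.of A)).residueField t))) (_ : GrpObj Ts)
      (js : Ts ⟶ Red.bc ((Spec (CommRingCat.of A)).fromSpecResidueField t) G), IsMonHom js ∧ Mono js ∧ Red.IsTorus Ts ∧
      ∀ k, ∃ g : Red.bc ((Spec (CommRingCat.of A)).fromSpecResidueField t) (M k) ⟶ Ts,
        g ≫ js = (Over.pullback ((Spec (CommRingCat.of A)).fromSpecResidueField t)).map (m k) ∧
        AlgGrp.IsKernel g ((𝟙 Ts : Ts ⟶ Ts) ^ (q ^ k))) :
    ∃ (Ts : Over (Spec ((Spec (CommRingCat.of A)).residueField s))) (_ : GrpObj Ts)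
      (js : Ts ⟶ Red.bc ((Spec (CommRingCat.of A)).fromSpecResidueField s) G), IsMonHom js ∧ Mono js ∧ Red.IsTorus Ts ∧
      ∀ k, ∃ g : Red.bc ((Spec (CommRingCat.of A)).fromSpecResidueField s) (M k) ⟶ Ts,
        g ≫ js = (Over.pullback ((Spec (CommRingCat.of A)).fromSpecResidueField s)).map (m k) ∧
        AlgGrp.IsKernel g ((𝟙 Ts : Ts ⟶ Ts) ^ (q ^ k)) :=
  (has_iff (hm := fun k => (hm k).1) _).1 (specializes hq hqu M grp m hm hcoh hts ((has_iff (hm := fun k => (hm k).1) _).2 h))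

end K18.TorSpec
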