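import Groth.Agent.SGA3x.K18.TorsFam
import Groth.Agent.SGA3x.K18.MTDesc
import Groth.Agent.SGA3x.K13.NTorsion
import Groth.Agent.SGA3x.K13.CentralEtale
import Groth.Agent.Sga3.H786.TCAff

/-!
# Lifting subtori along nilpotent thickenings from coherent lifts of their torsion
-/

set_option autoImplicit false
universe u
open CategoryTheory MonoidalCategory CartesianMonoidalCategory MonObj GrpObj AlgebraicGeometry Limits

namespace K18.SubtorLift

open Groth.Agent Groth.Agent.Sga3B Groth.Agent.Sga3B.BcPts K9.Glue K9.Rigid K13.MTLift K13.CentralEtale K13.NTorsion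
  K18.TorsFam

lemma isMT_of_FT {S : Scheme.{u}} {H : Over S} [GrpObj H] (h : SGA3x.IsMultTypeFT H) : K7.MTHaar.IsMT H := by
  obtain ⟨X, p, h1, h2, h3, h4⟩ := h
  refine ⟨X, p, h1, h2, h3, fun x => ?_⟩
  obtain ⟨U, hU, M, _, -, e⟩ := h4 x
  exact ⟨U, hU, M, inferInstance, e⟩

variable {A : Type u} [CommRing A] {J : Ideal A}

instance : IsClosedImmersion (cl J) := IsClosedImmersion.spec_of_surjective _ Ideal.Quotient.mk_surjective

lemma isNilpotent_ker (hJ : IsNilpotent J) : IsNilpotent (cl J).ker := by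
  obtain ⟨N, hN⟩ := hJ
  refine ⟨N, NilHull.ker_pow_eq_bot _ N ?_⟩
  rw [CommRingCat.hom_ofHom, Ideal.mk_ker, hN]
  rfl

section rigid

variable (hJ : ∀ x ∈ J, IsNilpotent x) {H H' : Over (Spec (CommRingCat.of A))} [GrpObj H] [GrpObj H']
  (hH : K7.MTHaar.IsMT H) (hH' : K7.MTHaar.IsMT H')

include hJ hH hH'

theorem map_injective {ψ ψ' : H ⟶ H'} [IsMonHom ψ] [IsMonHom ψ']
    (h : (Over.pullback (cl J)).map ψ = (Over.pullback (cl J)).map ψ') : ψ = ψ' := by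
  have := surjective_cl hJ
  refine K9.Rigid.hom_eq (cl J) (covers_split₂ hH hH') fun T x t => ?_
  rw [← BorDesc613.ev_map (f := cl J) ψ x t, h, BorDesc613.ev_map]

theorem exists_map (φ : Red.bc (cl J) H ⟶ Red.bc (cl J) H') [IsMonHom φ] :
    ∃ ψ : H ⟶ H', IsMonHom ψ ∧ (Over.pullback (cl J)).map ψ = φ := by
  have := surjective_cl hJ
  obtain ⟨ψ, h1, h2⟩ := K9.Rigid.exists_lift (cl J) (covers_split₂ hH hH') (IsoFam.isHomFamily_fam φ)
  refine ⟨ψ, h1, BorDesc613.eq_of_ev fun T x t => ?_⟩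
  rw [BorDesc613.ev_map, h2 x t, lift_fam]

theorem exists_iso (φ : Red.bc (cl J) H ≅ Red.bc (cl J) H') [IsMonHom φ.hom] :
    ∃ ψ : H ≅ H', IsMonHom ψ.hom ∧ (Over.pullback (cl J)).map ψ.hom = φ.hom := by
  have : IsMonHom φ.inv := inferInstance
  obtain ⟨a, h1, h2⟩ := exists_map hJ hH hH' φ.hom
  obtain ⟨b, h3, h4⟩ := exists_map hJ hH' hH φ.inv
  refine ⟨⟨a, b, map_injective hJ hH hH ?_, map_injective hJ hH' hH' ?_⟩, h1, h2⟩
  · rw [Functor.map_comp, h2, h4, φ.hom_inv_id, CategoryTheory.Functor.map_id]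
  · rw [Functor.map_comp, h2, h4, φ.inv_hom_id, CategoryTheory.Functor.map_id]

end rigid

theorem exists_torsion_lift (hJ : ∀ x ∈ J, IsNilpotent x) {T M : Over (Spec (CommRingCat.of A))} [GrpObj T] [GrpObj M]
    (hT : K7.MTHaar.IsMT T) (hM : K7.MTHaar.IsMT M) (n : ℕ) (g : Red.bc (cl J) M ⟶ Red.bc (cl J) T) [IsMonHom g]
    (hg : IsTor n g) : ∃ t : M ⟶ T, IsMonHom t ∧ IsTor n t ∧ (Over.pullback (cl J)).map t = g := by
  have haff := K7.MTHaar.isAffineHom hT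
  obtain ⟨L, _, ℓ, hℓ, -⟩ := K13.NTorsion.exists_tors n (K13.NTorsion.mul_comm_of_isMT hT)
  have hL := K13.NTorsion.isMT hℓ hT
  have hℓ0 := hℓ.bc (cl J)
  have i1 := hℓ.mon
  have i2 := hℓ.mono
  have i3 := hℓ0.mon
  have i4 := hℓ0.mono
  have i5 := hg.mono
  obtain ⟨a, ha⟩ := (hℓ0.pts _ g).2 ((hg.pts _ g).1 ⟨𝟙 _, Category.id_comp _⟩)
  obtain ⟨b, hb⟩ := (hg.pts _ ((Over.pullback (cl J)).map ℓ)).2 ((hℓ0.pts _ _).1 ⟨𝟙 _, Category.id_comp _⟩)
  have ham : IsMonHom a := isMonHom_of_comp_mono a ((Over.pullback (cl J)).map ℓ) (by rw [ha]; infer_instance)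
  let e : Red.bc (cl J) M ≅ Red.bc (cl J) L := ⟨a, b, by rw [← cancel_mono g, Category.assoc, hb, ha, Category.id_comp],
    by rw [← cancel_mono ((Over.pullback (cl J)).map ℓ), Category.assoc, ha, hb, Category.id_comp]⟩
  have hem : IsMonHom e.hom := ham
  obtain ⟨α, hα, hα'⟩ := exists_iso hJ hM hL e
  refine ⟨α.hom ≫ ℓ, inferInstance, ⟨mono_comp _ _, fun X h => ?_⟩, ?_⟩
  · rw [← hℓ.pts]
    constructor
    · rintro ⟨y, rfl⟩
      exact ⟨y ≫ α.hom, by rw [Category.assoc]⟩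
    · rintro ⟨y, rfl⟩
      exact ⟨y ≫ α.inv, by rw [Category.assoc, Iso.inv_hom_id_assoc]⟩
  · rw [Functor.map_comp, hα']
    exact ha

/-- A group of multiplicative type whose reduction is a torus is a torus. -/
theorem isTorus_of_reduction (hJ : ∀ x ∈ J, IsNilpotent x) {T : Over (Spec (CommRingCat.of A))} [GrpObj T]
    (hT : SGA3x.IsMultTypeFT T) {T₀ : Over (Spec (CommRingCat.of (A ⧸ J)))} [GrpObj T₀]
    (e₀ : Grp.mk (Red.bc (cl J) T) ≅ Grp.mk T₀) (h₀ : Red.IsTorus T₀) : Red.IsTorus T := by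
  have h1 := K7.MTHaar.isAffineHom (isMT_of_FT hT)
  have h2 := K7.MTHaar.flat (isMT_of_FT hT)
  have h3 : LocallyOfFinitePresentation T.hom := K10.MTLoc.locallyOfFinitePresentation hT
  refine Sga3.H786.TCAff.isTorus_of_isAffineHom T fun s => ?_
  obtain ⟨p, hp⟩ := exists_factor_field (K := AlgebraicClosure ((Spec (CommRingCat.of A)).residueField s)) hJ
    (Red.geomPt s)
  have h4 : Red.IsTorus (Red.bc p (Red.bc (cl J) T)) :=
    TorusBc.isTorus_of_iso (BcIso.bcMapIso p e₀.symm) (TorusBc.isTorus_bc p h₀)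
  exact TorusBc.isTorus_of_iso ((BcIso.bcCompIso p (cl J) T).symm ≪≫ BcIso.bcCongrIso hp T) h4

section main

variable (hJ : IsNilpotent J) {G : Over (Spec (CommRingCat.of A))} [GrpObj G]
  {T₀ : Over (Spec (CommRingCat.of (A ⧸ J)))} [GrpObj T₀] (j₀ : T₀ ⟶ Red.bc (cl J) G) [IsMonHom j₀] [Mono j₀]
  (q : ℕ) (hq : 1 < q) (M : ℕ → Over (Spec (CommRingCat.of A))) [∀ k, GrpObj (M k)] (m : ∀ k, M k ⟶ G)
  (hm : ∀ k, IsMonHom (m k) ∧ Mono (m k) ∧ K7.MTHaar.IsMT (M k))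

include hJ hq hm

/-- **Existence**. -/
theorem exists_subtorus (ht₀ : Red.IsTorus T₀)
    (hcoh : ∀ j k : ℕ, j ≤ k → ∃ f : M j ⟶ M k, f ≫ m k = m j)
    (hlift : ∀ k, ∃ g : Red.bc (cl J) (M k) ⟶ T₀, g ≫ j₀ = (Over.pullback (cl J)).map (m k) ∧ IsTor (q ^ k) g) :
    ∃ (T : Over (Spec (CommRingCat.of A))) (_ : GrpObj T) (j : T ⟶ G), IsMonHom j ∧ Mono j ∧ Red.IsTorus T ∧
      (∃ e : Red.bc (cl J) T ≅ T₀, e.hom ≫ j₀ = (Over.pullback (cl J)).map j) ∧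
      ∀ k, ∃ g : M k ⟶ T, g ≫ j = m k ∧ IsTor (q ^ k) g := by
  have hnil := K9.RigidIso.nil_of_isNilpotent hJ
  obtain ⟨T, _, hT, ⟨e₀⟩⟩ := K13.MTLift.exists_lift J hnil T₀ (K18.MTDesc.isMultTypeFT_of_isTorus ht₀)
  have hTt := isTorus_of_reduction hnil hT e₀ ht₀
  have hTm := isMT_of_FT hT
  let e : Red.bc (cl J) T ≅ T₀ := isoOf e₀
  have he : IsMonHom e.hom := inferInstanceAs (IsMonHom (isoOf e₀).hom)
  have he' : IsMonHom e.inv := inferInstanceAs (IsMonHom (isoOf e₀).inv)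
  choose g hg hgt using hlift
  have hgm : ∀ k, IsMonHom (g k) := fun k => by
    have := (hm k).1
    exact isMonHom_of_comp_mono (g k) j₀ (by rw [hg]; infer_instance)
  have hg' : ∀ k, IsTor (q ^ k) (g k ≫ e.inv) := fun k => by
    have := (hgt k).mono
    refine ⟨mono_comp _ _, fun X x => ?_⟩
    have h1 : x ^ (q ^ k) = 1 ↔ (x ≫ e.hom) ^ (q ^ k) = 1 := by
      rw [← K13.NTorsion.pow_comp]
      constructor
      · intro h
        rw [h, MonObj.one_comp]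
      · intro h
        have h2 := congrArg (fun y => y ≫ e.inv) h
        simp only [Category.assoc, e.hom_inv_id, Category.comp_id, MonObj.one_comp] at h2
        exact h2
    rw [h1, ← (hgt k).pts]
    constructor
    · rintro ⟨y, rfl⟩
      exact ⟨y, by rw [Category.assoc, Category.assoc, e.inv_hom_id, Category.comp_id]⟩
    · rintro ⟨y, hy⟩
      exact ⟨y, by rw [← Category.assoc, hy, Category.assoc, e.hom_inv_id, Category.comp_id]⟩
  choose t htm ht htg using fun k => by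
    have := hgm k
    exact exists_torsion_lift hnil hTm (hm k).2.2 (q ^ k) (g k ≫ e.inv) (hg' k)
  let φ₀ : Red.bc (cl J) T ⟶ Red.bc (cl J) G := e.hom ≫ j₀
  have hφm : IsMonHom φ₀ := inferInstanceAs (IsMonHom (e.hom ≫ j₀))
  have hφmono : Mono φ₀ := mono_comp _ _
  have hφ : ∀ k, (Over.pullback (cl J)).map (t k) ≫ φ₀ = (Over.pullback (cl J)).map (m k) := fun k => by
    rw [htg, Category.assoc, Iso.inv_hom_id_assoc, hg]
  have hcoh' : ∀ k l : ℕ, k ≤ l → ∃ f : M k ⟶ M l, f ≫ m l = m k ∧ f ≫ t l = t k := by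
    intro k l hkl
    obtain ⟨f, hf⟩ := hcoh k l hkl
    refine ⟨f, hf, ?_⟩
    have i1 := (hm k).1
    have i2 := (hm l).1
    have i3 := (hm l).2.1
    have i4 := htm k
    have i5 := htm l
    have i6 : IsMonHom f := isMonHom_of_comp_mono f (m l) (by rw [hf]; infer_instance)
    refine map_injective hnil (hm k).2.2 hTm ?_
    rw [← cancel_mono φ₀, Functor.map_comp, Category.assoc, hφ, hφ, ← Functor.map_comp, hf]
  obtain ⟨ψ, hψ, hψt, hψ₀⟩ := exists_of_torsion (cl J) ht hcoh' hφ (isNilpotent_ker hJ) hq hTt htm (fun k => (hm k).1)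
  refine ⟨T, inferInstance, ψ, hψ, ?_, hTt, ⟨e, hψ₀.symm⟩, fun k => ⟨t k, hψt k, ht k⟩⟩
  have hlft : LocallyOfFiniteType ψ.left := by
    have h1 : LocallyOfFiniteType (ψ.left ≫ G.hom) := by
      rw [Over.w ψ]
      have := K10.MTLoc.locallyOfFinitePresentation hT
      infer_instance
    exact locallyOfFiniteType_of_comp ψ.left G.hom
  have h2 : Mono ((Over.pullback (cl J)).map ψ).left := by
    rw [hψ₀]
    infer_instance
  have h3 := mono_of_reduction hnil ψ h2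
  exact Over.mono_of_mono_left ψ

/-- **Uniqueness**. -/
theorem exists_iso_subtorus {T₁ T₂ : Over (Spec (CommRingCat.of A))} [GrpObj T₁] [GrpObj T₂] (j₁ : T₁ ⟶ G) (j₂ : T₂ ⟶ G)
    [IsMonHom j₁] [IsMonHom j₂] [Mono j₁] [Mono j₂] (h₁ : Red.IsTorus T₁) (h₂ : Red.IsTorus T₂)
    (e₁ : Red.bc (cl J) T₁ ≅ T₀) (he₁ : e₁.hom ≫ j₀ = (Over.pullback (cl J)).map j₁)
    (e₂ : Red.bc (cl J) T₂ ≅ T₀) (he₂ : e₂.hom ≫ j₀ = (Over.pullback (cl J)).map j₂)
    (g₁ : ∀ k, M k ⟶ T₁) (hg₁ : ∀ k, g₁ k ≫ j₁ = m k) (ht₁ : ∀ k, IsTor (q ^ k) (g₁ k))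
    (g₂ : ∀ k, M k ⟶ T₂) (hg₂ : ∀ k, g₂ k ≫ j₂ = m k) : ∃ φ : T₁ ≅ T₂, φ.hom ≫ j₂ = j₁ := by
  have hnil := K9.RigidIso.nil_of_isNilpotent hJ
  have i1 : IsMonHom e₁.hom := isMonHom_of_comp_mono e₁.hom j₀ (by rw [he₁]; infer_instance)
  have i2 : IsMonHom e₂.hom := isMonHom_of_comp_mono e₂.hom j₀ (by rw [he₂]; infer_instance)
  have i3 : IsMonHom e₂.inv := inferInstance
  let θ₀ : Red.bc (cl J) T₁ ≅ Red.bc (cl J) T₂ := e₁ ≪≫ e₂.symm
  have i4 : IsMonHom θ₀.hom := inferInstanceAs (IsMonHom (e₁.hom ≫ e₂.inv))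
  have m1 := isMT_of_FT (K18.MTDesc.isMultTypeFT_of_isTorus h₁)
  have m2 := isMT_of_FT (K18.MTDesc.isMultTypeFT_of_isTorus h₂)
  obtain ⟨θ, hθ, hθ'⟩ := exists_iso hnil m1 m2 θ₀
  have hθ₀ : θ₀.hom ≫ (Over.pullback (cl J)).map j₂ = (Over.pullback (cl J)).map j₁ := by
    change (e₁.hom ≫ e₂.inv) ≫ _ = _
    rw [← he₂, Category.assoc, Iso.inv_hom_id_assoc, he₁]
  refine ⟨θ, eq_of_torsion (cl J) ht₁ (isNilpotent_ker hJ) hq h₁ (fun k => ?_) ?_⟩
  · have i5 := (hm k).1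
    have i6 : IsMonHom (g₁ k) := isMonHom_of_comp_mono (g₁ k) j₁ (by rw [hg₁]; infer_instance)
    have i7 : IsMonHom (g₂ k) := isMonHom_of_comp_mono (g₂ k) j₂ (by rw [hg₂]; infer_instance)
    have i8 : Mono ((Over.pullback (cl J)).map j₂) := inferInstance
    have h3 : g₁ k ≫ θ.hom = g₂ k := by
      refine map_injective hnil (hm k).2.2 m2 ?_
      rw [← cancel_mono ((Over.pullback (cl J)).map j₂), Functor.map_comp, hθ', Category.assoc, hθ₀, ← Functor.map_comp,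
        ← Functor.map_comp, hg₁, hg₂]
    rw [← Category.assoc, h3, hg₂, hg₁]
  · rw [Functor.map_comp, hθ', hθ₀]

end main

end K18.SubtorLift
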