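import Groth.Agent.SGA3x.K18.TorsFam
import Groth.Agent.SGA3x.K13.NTorsion
import Groth.Agent.SGA3x.K9.DenseTors

/-!
# Density of the torsion of a torus for morphisms to a separated scheme
-/

set_option autoImplicit false
universe u
open CategoryTheory MonoidalCategory CartesianMonoidalCategory MonObj GrpObj AlgebraicGeometry Limits

namespace K18.Dense

open Groth.Agent.Sga3B Groth.Agent.Sga3B.InfConj Groth.Agent.Sga3B.BcPts Groth.Agent.Sga3B.IsoFam
open K9.Glue K18.TorsExt K18.TorsAlg K18.TorsGlob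

variable {S : Scheme.{u}} {q : ℕ}

theorem split {C : Type u} [CommRing C] {M : Type} [AddCommGroup M] (hM : Sep q M)
    {G : Over (Spec (CommRingCat.of C))} [IsSeparated G.hom] {a b : Red.DS (Spec (CommRingCat.of C)) M ⟶ G}
    (h : ∀ (k : ℕ) (X : Over (Spec (CommRingCat.of C))) (x : X ⟶ Red.DS (Spec (CommRingCat.of C)) M), x ^ (q ^ k) = 1 →
      x ≫ a = x ≫ b) : a = b := by
  refine K9.DenseTors.ext_of_family (I := ℕ) (M := fun k => Qt q M k) (fun k => QuotientAddGroup.mk' (N q M k))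
    (fun F => ?_) a b fun k => h k _ _ ?_
  · obtain ⟨k, hk⟩ := exists_injOn hM (F.map Multiplicative.ofAdd.toEmbedding)
    refine ⟨k, fun x hx y hy hxy => ?_⟩
    have h1 : ∀ z : M, z ∈ (F : Set M) → Multiplicative.ofAdd z ∈
        ((F.map Multiplicative.ofAdd.toEmbedding : Finset (Multiplicative M)) : Set (Multiplicative M)) :=
      fun z hz => Finset.mem_coe.2 (Finset.mem_map.2 ⟨z, Finset.mem_coe.1 hz, rfl⟩)
    exact Multiplicative.ofAdd.injective (hk k le_rfl (h1 x hx) (h1 y hy) (congrArg Multiplicative.ofAdd hxy))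
  · exact ((K13.NTorsion.isTors_DS (Spec (CommRingCat.of C)) (q ^ k) M).pts _ _).1 ⟨𝟙 _, Category.id_comp _⟩

/-- **Density of the torsion.** -/
theorem hom_eq (hq : 1 < q) {T G : Over S} [GrpObj T] [IsSeparated G.hom] (hT : Red.IsTorus T) {a b : T ⟶ G}
    (h : ∀ (k : ℕ) (X : Over S) (x : X ⟶ T), x ^ (q ^ k) = 1 → x ≫ a = x ≫ b) : a = b := by
  refine (covers_torus hq hT).hom_ext fun T' t hT' => ?_
  obtain ⟨C, _, x, ⟨M, _, hM, ⟨e⟩⟩, ⟨v⟩⟩ := hT'
  have hsep : IsSeparated (Red.bc x G).hom := inferInstanceAs (IsSeparated (pullback.snd G.hom x))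
  have h5 : e.hom.hom.hom ≫ e.inv.hom.hom = 𝟙 _ := congrArg (fun k => k.hom.hom) e.hom_inv_id
  have key : e.inv.hom.hom ≫ (Over.pullback x).map a = e.inv.hom.hom ≫ (Over.pullback x).map b := by
    refine split hM fun k X y hy => ?_
    apply (bcEquiv x X G).symm.injective
    rw [← Category.assoc, ← Category.assoc, bcEquiv_symm_comp, bcEquiv_symm_comp]
    refine h k _ _ ?_
    have h1 : (bcEquiv x X T).symm (y ≫ e.inv.hom.hom) ^ (q ^ k) =
        (bcEquiv x X T).symm ((y ≫ e.inv.hom.hom) ^ (q ^ k)) :=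
      (map_pow (bcMulEquiv x X T).symm (y ≫ e.inv.hom.hom) (q ^ k)).symm
    rw [h1, ← pow_comp y (e.inv.hom.hom), hy]
    have h2 : (1 : X ⟶ Red.DS (Spec (CommRingCat.of C)) M) ≫ e.inv.hom.hom = 1 := MonObj.one_comp _
    rw [h2]
    exact map_one (bcMulEquiv x X T).symm
  have h6 : (Over.pullback x).map a = (Over.pullback x).map b := by
    have h7 := congrArg (fun y => e.hom.hom.hom ≫ y) key
    simp only [← Category.assoc] at h7
    rw [h5, Category.id_comp, Category.id_comp] at h7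
    exact h7
  rw [← BorDesc613.ev_map (f := x) a t v, h6, BorDesc613.ev_map]

end K18.Dense
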