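import Groth.Agent.SGA3x.K18.TorTors
import Groth.Agent.SGA3x.K18.Dense
import Groth.Agent.S5275
import Groth.Agent.S16611
import Groth.Agent.Localalg.GrpSchComp2

/-!
# Homomorphisms out of a torus from coherent families on its torsion

`Iface` is the statement of S8438; `exists_hom`, `hom_unique` give S12062.
-/

set_option autoImplicit false
universe u
open CategoryTheory MonoidalCategory CartesianMonoidalCategory MonObj GrpObj AlgebraicGeometry Limits

namespace K18.HomTor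

open Groth.Agent Groth.Agent.Sga3B Groth.Agent.Sga3B.BcPts K13.NTorsion K18.TorTors K18.TorsFam

set_option linter.unusedVariables false in
/-- The statement of S8438. -/
def Iface : Prop := ∀ (A : Type u) [CommRing A] [IsNoetherianRing A]
    [ConnectedSpace ↥(Spec (CommRingCat.of A))] (G : Over (Spec (CommRingCat.of A))) [GrpObj G] [QuasiCompact G.hom] [LocallyOfFiniteType G.hom]
    (q : ℕ) (hq : 1 < q) (hqu : IsUnit (q : A)) (r : ℕ)
    (M : ℕ → Over (Spec (CommRingCat.of A))) (grp : ∀ k, GrpObj (M k)) (m : ∀ k, M k ⟶ G)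
    (hm : ∀ k, IsMonHom (m k) ∧ Mono (m k) ∧ SGA3x.IsMultTypeFT (M k) ∧
      ∀ t : ↥(Spec (CommRingCat.of A)), Nonempty (Grp.mk (Red.geomFibre t (M k)) ≅
        Grp.mk (Red.DS (Spec (CommRingCat.of (AlgebraicClosure ((Spec (CommRingCat.of A)).residueField t)))) (Fin r → ZMod (q ^ k)))))
    (hcoh : ∀ j k : ℕ, j ≤ k → ∃ f : M j ⟶ M k, f ≫ m k = m j ∧ AlgGrp.IsKernel f ((𝟙 (M k) : M k ⟶ M k) ^ (q ^ j)))
    (hs : ∃ (s : ↥(Spec (CommRingCat.of A))) (Ts : Over (Spec ((Spec (CommRingCat.of A)).residueField s))) (_ : GrpObj Ts)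
      (js : Ts ⟶ Red.bc ((Spec (CommRingCat.of A)).fromSpecResidueField s) G), IsMonHom js ∧ Mono js ∧ Red.IsTorus Ts ∧
      ∀ k, ∃ g : Red.bc ((Spec (CommRingCat.of A)).fromSpecResidueField s) (M k) ⟶ Ts,
        g ≫ js = (Over.pullback ((Spec (CommRingCat.of A)).fromSpecResidueField s)).map (m k) ∧
        AlgGrp.IsKernel g ((𝟙 Ts : Ts ⟶ Ts) ^ (q ^ k)))
    (hc : ∀ t : ↥(Spec (CommRingCat.of A)), ∃ (F : Scheme.{u}) (f : F ⟶ (Red.geomFibre t G).left), IsClosedImmersion f ∧ IsAffine F ∧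
      ∀ k, ∃ g : (Red.geomFibre t (M k)).left ⟶ F, g ≫ f = ((Over.pullback (Red.geomPt t)).map (m k)).left),
    (∃ (T : Over (Spec (CommRingCat.of A))) (_ : GrpObj T) (j : T ⟶ G), IsMonHom j ∧ Mono j ∧ Red.IsTorus T ∧
      ∀ k, ∃ g : M k ⟶ T, g ≫ j = m k ∧ AlgGrp.IsKernel g ((𝟙 T : T ⟶ T) ^ (q ^ k))) ∧
    (∀ (T₁ T₂ : Over (Spec (CommRingCat.of A))) [GrpObj T₁] [GrpObj T₂] (j₁ : T₁ ⟶ G) (j₂ : T₂ ⟶ G) [IsMonHom j₁] [Mono j₁]
      [IsMonHom j₂] [Mono j₂], Red.IsTorus T₁ → Red.IsTorus T₂ →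
      (∀ k, ∃ g : M k ⟶ T₁, g ≫ j₁ = m k ∧ AlgGrp.IsKernel g ((𝟙 T₁ : T₁ ⟶ T₁) ^ (q ^ k))) →
      (∀ k, ∃ g : M k ⟶ T₂, g ≫ j₂ = m k ∧ AlgGrp.IsKernel g ((𝟙 T₂ : T₂ ⟶ T₂) ^ (q ^ k))) →
      ∃ φ : T₁ ≅ T₂, φ.hom ≫ j₂ = j₁)

section joint

variable {S S' : Scheme.{u}} (f : S' ⟶ S) {X : Over S'} {T G : Over S}

lemma hom_ext {a b : X ⟶ Red.bc f (T ⊗ G)}
    (h1 : a ≫ (Over.pullback f).map (fst T G) = b ≫ (Over.pullback f).map (fst T G))
    (h2 : a ≫ (Over.pullback f).map (snd T G) = b ≫ (Over.pullback f).map (snd T G)) : a = b := by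
  apply (bcEquiv f X (T ⊗ G)).symm.injective
  apply CartesianMonoidalCategory.hom_ext
  · rw [← bcEquiv_symm_comp, ← bcEquiv_symm_comp, h1]
  · rw [← bcEquiv_symm_comp, ← bcEquiv_symm_comp, h2]

/-- a point of a base change of a product -/
noncomputable def bcLift (a : X ⟶ Red.bc f T) (b : X ⟶ Red.bc f G) : X ⟶ Red.bc f (T ⊗ G) :=
  bcEquiv f X _ (lift ((bcEquiv f X _).symm a) ((bcEquiv f X _).symm b))

lemma bcLift_fst (a : X ⟶ Red.bc f T) (b : X ⟶ Red.bc f G) : bcLift f a b ≫ (Over.pullback f).map (fst T G) = a := by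
  rw [bcLift, ← bcEquiv_comp, lift_fst, Equiv.apply_symm_apply]

lemma bcLift_snd (a : X ⟶ Red.bc f T) (b : X ⟶ Red.bc f G) : bcLift f a b ≫ (Over.pullback f).map (snd T G) = b := by
  rw [bcLift, ← bcEquiv_comp, lift_snd, Equiv.apply_symm_apply]

lemma isMonHom_bcLift [GrpObj T] [GrpObj G] [GrpObj X] (a : X ⟶ Red.bc f T) (b : X ⟶ Red.bc f G) [IsMonHom a] [IsMonHom b] :
    IsMonHom (bcLift f a b) := IsoFam.isMonHom_of_mul _ fun Y x y => by
  refine hom_ext f ?_ ?_
  · rw [Category.assoc, bcLift_fst, MonObj.mul_comp, MonObj.mul_comp, Category.assoc, Category.assoc, bcLift_fst]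
  · rw [Category.assoc, bcLift_snd, MonObj.mul_comp, MonObj.mul_comp, Category.assoc, Category.assoc, bcLift_snd]

lemma isAffineHom_bc_snd [IsAffineHom T.hom] : IsAffineHom ((Over.pullback f).map (snd T G)).left := by
  have h1 : IsAffineHom (snd T G).left := MorphismProperty.pullback_snd (P := @IsAffineHom) T.hom G.hom ‹_›
  exact MorphismProperty.overPullbackMap (P := @IsAffineHom) f (snd T G) h1

end joint

/-- A homomorphism of tori over a field compatible with the whole `q`-power torsion is injective as soon as its graph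
is. -/
theorem mono_of_density {S : Scheme.{u}} {q : ℕ} (hq : 1 < q) {T' T G : Over S} [GrpObj T'] [GrpObj T] [GrpObj G]
    (hT' : Red.IsTorus T') {S' : Scheme.{u}} (f : S' ⟶ S) [IsSeparated (Red.bc f G).hom]
    (j : T' ⟶ T ⊗ G) [Mono j] (us : Red.bc f T ⟶ Red.bc f G) {N : ℕ → Over S} [∀ k, GrpObj (N k)]
    (g : ∀ k, N k ⟶ T') (hg : ∀ k, IsTors (q ^ k) (g k))
    (h : ∀ k, (Over.pullback f).map (g k ≫ j ≫ fst T G) ≫ us = (Over.pullback f).map (g k ≫ j ≫ snd T G)) :
    Mono ((Over.pullback f).map (j ≫ fst T G)) := by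
  have key : (Over.pullback f).map (j ≫ fst T G) ≫ us = (Over.pullback f).map (j ≫ snd T G) := by
    refine Dense.hom_eq hq (TorusBc.isTorus_bc f hT') fun k X x hx => ?_
    obtain ⟨y, rfl⟩ := (((hg k).bc f).pts X x).2 hx
    have h1 := congrArg (fun z => y ≫ z) (h k)
    simp only [Functor.map_comp, Category.assoc] at h1 ⊢
    exact h1
  have hmj : Mono ((Over.pullback f).map j) := inferInstance
  refine ⟨fun {X} a b hab => ?_⟩
  rw [← cancel_mono ((Over.pullback f).map j)]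
  refine hom_ext f ?_ ?_
  · rw [Category.assoc, Category.assoc, ← Functor.map_comp]
    exact hab
  · rw [Category.assoc, Category.assoc, ← Functor.map_comp, ← key, ← Category.assoc, hab, Category.assoc]

/-- A homomorphism of tori over a connected base, which is a monomorphism on one fibre, and such that both have the same
`n`-torsion, is an isomorphism. -/
theorem isIso_of_mono_fibre {S : Scheme.{u}} [ConnectedSpace S] {n : ℕ} (hn : 1 < n) {T' T L : Over S} [GrpObj T']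
    [GrpObj T] [GrpObj L] (hT' : Red.IsTorus T') (hT : Red.IsTorus T) (p : T' ⟶ T) [IsMonHom p] {l : L ⟶ T'}
    (hl : IsTors n l) (hl' : IsTors n (l ≫ p)) (s : S) (hs : Mono ((Over.pullback (S.fromSpecResidueField s)).map p)) :
    IsIso p := by
  obtain ⟨U, hU, h1, h2⟩ := S5275.result T' T (MTDesc.isMultTypeFT_of_isTorus hT') (MTDesc.isMultTypeFT_of_isTorus hT) p
  have hUt : U = ⊤ := by
    have h3 : s ∈ U := by
      rw [h1]
      have h4 : IsIso ((Over.pullback (S.fromSpecResidueField s)).map p) := by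
        refine S16611.result (TorusBc.isTorus_bc _ hT') (TorusBc.isTorus_bc _ hT) _ fun x => ?_
        obtain ⟨a, ha⟩ := TorusAlgClosed.exists_isSplitTorusWith
          (TorusBc.isTorus_bc (Red.geomPt x) (TorusBc.isTorus_bc (S.fromSpecResidueField s) hT'))
        obtain ⟨b, hb⟩ := TorusAlgClosed.exists_isSplitTorusWith
          (TorusBc.isTorus_bc (Red.geomPt x) (TorusBc.isTorus_bc (S.fromSpecResidueField s) hT))
        have hab : a = b := rank_eq hn ((hl.bc (S.fromSpecResidueField s)).bc (Red.geomPt x))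
          ((hl'.bc (S.fromSpecResidueField s)).bc (Red.geomPt x)) ha hb
        subst hab
        exact ⟨a, ha, hb⟩
      exact inferInstanceAs (IsIso ((Over.forget _).map ((Over.pullback (S.fromSpecResidueField s)).map p)))
    have h5 : (U : Set S) = Set.univ := IsClopen.eq_univ ⟨hU, U.isOpen⟩ ⟨s, h3⟩
    ext x
    simp [h5]
  subst hUt
  have hsq := K6.Basic.isPullback_map (⊤ : S.Opens).ι p
  have h9 : ∀ X : Over S, IsIso (pullback.fst X.hom (⊤ : S.Opens).ι) := fun X =>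
    MorphismProperty.pullback_fst (P := MorphismProperty.isomorphisms Scheme.{u}) X.hom (⊤ : S.Opens).ι
      ⟨_, S.ι_toIso_inv, S.toIso_inv_ι⟩
  have h6 : IsIso p.left := by
    have h10 := h9 T
    have h11 := h9 T'
    have h7 : IsIso (pullback.fst T'.hom (⊤ : S.Opens).ι ≫ p.left) := by
      rw [hsq.w]
      infer_instance
    exact IsIso.of_isIso_comp_left (pullback.fst T'.hom (⊤ : S.Opens).ι) p.left
  have h8 : IsIso ((Over.forget _).map p) := h6
  exact isIso_of_reflects_iso p (Over.forget _)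

/-- The affine closed subscheme of the geometric fibre of the product. -/
theorem exists_affine {S S' : Scheme.{u}} (f : S' ⟶ S) {T G : Over S} [IsAffineHom T.hom] {N : ℕ → Over S}
    (i : ∀ k, N k ⟶ T) (u : ∀ k, N k ⟶ G)
    (hc : ∃ (F : Scheme.{u}) (c : F ⟶ (Red.bc f G).left), IsClosedImmersion c ∧ IsAffine F ∧
      ∀ k, ∃ g : (Red.bc f (N k)).left ⟶ F, g ≫ c = ((Over.pullback f).map (u k)).left) :
    ∃ (F : Scheme.{u}) (c : F ⟶ (Red.bc f (T ⊗ G)).left), IsClosedImmersion c ∧ IsAffine F ∧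
      ∀ k, ∃ g : (Red.bc f (N k)).left ⟶ F, g ≫ c = ((Over.pullback f).map (lift (i k) (u k))).left := by
  obtain ⟨F, c, h1, h2, h3⟩ := hc
  let σ : (Red.bc f (T ⊗ G)).left ⟶ (Red.bc f G).left := ((Over.pullback f).map (snd T G)).left
  have hσ : IsAffineHom σ := isAffineHom_bc_snd f
  refine ⟨pullback c σ, pullback.snd c σ, inferInstance, ?_, fun k => ?_⟩
  · have h4 : IsAffineHom (pullback.fst c σ) := inferInstance
    exact isAffine_of_isAffineHom (pullback.fst c σ)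
  · obtain ⟨g, hg⟩ := h3 k
    refine ⟨pullback.lift g ((Over.pullback f).map (lift (i k) (u k))).left ?_, pullback.lift_snd _ _ _⟩
    rw [hg]
    have h5 : (Over.pullback f).map (lift (i k) (u k)) ≫ (Over.pullback f).map (snd T G) = (Over.pullback f).map (u k) := by
      rw [← Functor.map_comp, lift_snd]
    exact (congrArg (fun z => z.left) h5).symm

section main

variable {A : Type u} [CommRing A] [IsNoetherianRing A]
    [ConnectedSpace ↥(Spec (CommRingCat.of A))] {G : Over (Spec (CommRingCat.of A))} [GrpObj G] [QuasiCompact G.hom] [LocallyOfFiniteType G.hom]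
    {q : ℕ} (hq : 1 < q) (hqu : IsUnit (q : A))
    {T : Over (Spec (CommRingCat.of A))} [GrpObj T] (hT : Red.IsTorus T)
    {N : ℕ → Over (Spec (CommRingCat.of A))} [grp : ∀ k, GrpObj (N k)] {i : ∀ k, N k ⟶ T}
    (hi : ∀ k, IsMonHom (i k) ∧ AlgGrp.IsKernel (i k) ((𝟙 T : T ⟶ T) ^ (q ^ k)))
    {u : ∀ k, N k ⟶ G} (hu : ∀ k, IsMonHom (u k))
    (hcoh : ∀ j k : ℕ, j ≤ k → ∃ f : N j ⟶ N k, f ≫ i k = i j ∧ f ≫ u k = u j)
    (hs : ∃ (s : ↥(Spec (CommRingCat.of A))) (us : Red.bc ((Spec (CommRingCat.of A)).fromSpecResidueField s) T ⟶ Red.bc ((Spec (CommRingCat.of A)).fromSpecResidueField s) G),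
      IsMonHom us ∧ ∀ k, (Over.pullback ((Spec (CommRingCat.of A)).fromSpecResidueField s)).map (i k) ≫ us =
        (Over.pullback ((Spec (CommRingCat.of A)).fromSpecResidueField s)).map (u k))
    (hc : ∀ t : ↥(Spec (CommRingCat.of A)), ∃ (F : Scheme.{u}) (f : F ⟶ (Red.geomFibre t G).left), IsClosedImmersion f ∧ IsAffine F ∧
      ∀ k, ∃ g : (Red.geomFibre t (N k)).left ⟶ F, g ≫ f = ((Over.pullback (Red.geomPt t)).map (u k)).left)

include hq hqu hT hi hu hcoh hs hc

/-- The subtorus of `T × G` given by S8438, and the uniqueness statement. -/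
theorem exists_graph (H : Iface.{u}) : (∃ (T' : Over (Spec (CommRingCat.of A))) (_ : GrpObj T') (j : T' ⟶ T ⊗ G), IsMonHom j ∧
      Mono j ∧ Red.IsTorus T' ∧
      ∀ k, ∃ g : N k ⟶ T', g ≫ j = lift (i k) (u k) ∧ AlgGrp.IsKernel g ((𝟙 T' : T' ⟶ T') ^ (q ^ k))) ∧
    (∀ (T₁ T₂ : Over (Spec (CommRingCat.of A))) [GrpObj T₁] [GrpObj T₂] (j₁ : T₁ ⟶ T ⊗ G) (j₂ : T₂ ⟶ T ⊗ G) [IsMonHom j₁] [Mono j₁]
      [IsMonHom j₂] [Mono j₂], Red.IsTorus T₁ → Red.IsTorus T₂ →
      (∀ k, ∃ g : N k ⟶ T₁, g ≫ j₁ = lift (i k) (u k) ∧ AlgGrp.IsKernel g ((𝟙 T₁ : T₁ ⟶ T₁) ^ (q ^ k))) →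
      (∀ k, ∃ g : N k ⟶ T₂, g ≫ j₂ = lift (i k) (u k) ∧ AlgGrp.IsKernel g ((𝟙 T₂ : T₂ ⟶ T₂) ^ (q ^ k))) →
      ∃ φ : T₁ ≅ T₂, φ.hom ≫ j₂ = j₁) := by
  have hTF := MTDesc.isMultTypeFT_of_isTorus hT
  have haff := K10.MTLoc.isAffineHom hTF
  have hlfp := K10.MTLoc.locallyOfFinitePresentation hTF
  have hqc : QuasiCompact (T ⊗ G).hom := by
    have h1 : QuasiCompact (pullback.fst T.hom G.hom ≫ T.hom) := inferInstance
    exact h1
  have hlft : LocallyOfFiniteType (T ⊗ G).hom := by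
    have h1 : LocallyOfFiniteType (pullback.fst T.hom G.hom ≫ T.hom) := inferInstance
    exact h1
  have hit : ∀ k, IsTors (q ^ k) (i k) := fun k => isTors_of_isKernel (hi k).1 (hi k).2
  obtain ⟨r, hr⟩ := TorRank.exists_rank hT
  refine H A (T ⊗ G) q hq hqu r N grp (fun k => lift (i k) (u k)) (fun k => ?_) (fun j k hjk => ?_) ?_ fun t => ?_
  · have h1 := (hi k).1
    have h2 := hu k
    have h3 := (hit k).mono
    refine ⟨inferInstance, ?_, isMultTypeFT (hit k) hTF, fun t => ?_⟩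
    · have : Mono (lift (i k) (u k) ≫ fst T G) := by rw [lift_fst]; exact h3
      exact mono_of_mono _ (fst T G)
    · exact iso_of_split ((hit k).bc (Red.geomPt t)) (hr t)
  · obtain ⟨f, h1, h2⟩ := hcoh j k hjk
    exact ⟨f, by rw [comp_lift, h1, h2], isKernel_of_isTors (isTors_trans (hit j) (hit k) f h1)⟩
  · obtain ⟨s, us, h1, h2⟩ := hs
    refine ⟨s, Red.bc ((Spec (CommRingCat.of A)).fromSpecResidueField s) T, inferInstance,
      bcLift _ (𝟙 _) us, isMonHom_bcLift _ _ _, ?_, TorusBc.isTorus_bc _ hT, fun k =>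
      ⟨(Over.pullback ((Spec (CommRingCat.of A)).fromSpecResidueField s)).map (i k), ?_, isKernel_of_isTors ((hit k).bc _)⟩⟩
    · have : Mono (bcLift ((Spec (CommRingCat.of A)).fromSpecResidueField s) (𝟙 _) us ≫ (Over.pullback _).map (fst T G)) := by
        rw [bcLift_fst]; infer_instance
      exact mono_of_mono _ ((Over.pullback ((Spec (CommRingCat.of A)).fromSpecResidueField s)).map (fst T G))
    · refine hom_ext _ ?_ ?_
      · rw [Category.assoc, bcLift_fst, Category.comp_id, ← Functor.map_comp, lift_fst]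
      · rw [Category.assoc, bcLift_snd, h2, ← Functor.map_comp, lift_snd]
  · exact exists_affine (Red.geomPt t) i u (hc t)

/-- **Existence**. -/
theorem exists_hom (H : Iface.{u}) : ∃ v : T ⟶ G, IsMonHom v ∧ ∀ k, i k ≫ v = u k := by
  obtain ⟨⟨T', _, j, hj, hjm, hT', hg⟩, -⟩ := exists_graph hq hqu hT hi hu hcoh hs hc H
  choose g hg hgk using hg
  have hit : ∀ k, IsTors (q ^ k) (i k) := fun k => isTors_of_isKernel (hi k).1 (hi k).2
  have hgp : ∀ k, g k ≫ j ≫ fst T G = i k := fun k => by rw [← Category.assoc, hg, lift_fst]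
  have hgs : ∀ k, g k ≫ j ≫ snd T G = u k := fun k => by rw [← Category.assoc, hg, lift_snd]
  have hgm : ∀ k, IsMonHom (g k) := fun k => by
    have := (hi k).1
    have := hu k
    exact K13.CentralEtale.isMonHom_of_comp_mono (g k) j (by rw [hg]; infer_instance)
  have hgt : ∀ k, IsTors (q ^ k) (g k) := fun k => isTors_of_isKernel (hgm k) (hgk k)
  have hpm : IsMonHom (j ≫ fst T G) := inferInstance
  obtain ⟨s, us, h1, h2⟩ := hs
  have hsep : IsSeparated (Red.bc ((Spec (CommRingCat.of A)).fromSpecResidueField s) G).hom := by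
    let G₀ : Over (Spec (CommRingCat.of ((Spec (CommRingCat.of A)).residueField s))) :=
      Red.bc ((Spec (CommRingCat.of A)).fromSpecResidueField s) G
    have : GrpObj G₀ := inferInstanceAs (GrpObj (Red.bc ((Spec (CommRingCat.of A)).fromSpecResidueField s) G))
    exact Groth.Agent.Localalg.GrpSchComp2.isSeparated_hom G₀
  have hmono := mono_of_density hq hT' ((Spec (CommRingCat.of A)).fromSpecResidueField s) j us g hgt fun k => by
    rw [hgp, hgs, h2]
  have hiso : IsIso (j ≫ fst T G) := by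
    refine isIso_of_mono_fibre (n := q ^ 1) (by simpa using hq) hT' hT (j ≫ fst T G) (hgt 1) ?_ s hmono
    rw [hgp]
    exact hit 1
  refine ⟨inv (j ≫ fst T G) ≫ j ≫ snd T G, ?_, fun k => ?_⟩
  · have : IsMonHom (inv (j ≫ fst T G)) := by
      refine IsoFam.isMonHom_of_mul _ fun X x y => ?_
      rw [← cancel_mono (j ≫ fst T G), MonObj.mul_comp (x ≫ inv (j ≫ fst T G)), Category.assoc, Category.assoc,
        Category.assoc, IsIso.inv_hom_id, Category.comp_id, Category.comp_id, Category.comp_id]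
    infer_instance
  · have h3 : i k ≫ inv (j ≫ fst T G) = g k := by
      rw [IsIso.comp_inv_eq, hgp]
    rw [← Category.assoc, h3, hgs]

/-- **Uniqueness**. -/
theorem hom_unique (H : Iface.{u}) {v v' : T ⟶ G} [IsMonHom v] [IsMonHom v'] (hv : ∀ k, i k ≫ v = u k)
    (hv' : ∀ k, i k ≫ v' = u k) : v = v' := by
  obtain ⟨-, huniq⟩ := exists_graph hq hqu hT hi hu hcoh hs hc H
  have hm : ∀ w : T ⟶ G, Mono (lift (𝟙 T) w) := fun w => by
    have : Mono (lift (𝟙 T) w ≫ fst T G) := by rw [lift_fst]; infer_instance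
    exact mono_of_mono _ (fst T G)
  have := hm v
  have := hm v'
  obtain ⟨φ, hφ⟩ := huniq T T (lift (𝟙 T) v) (lift (𝟙 T) v') hT hT
    (fun k => ⟨i k, by rw [comp_lift, Category.comp_id, hv], (hi k).2⟩)
    (fun k => ⟨i k, by rw [comp_lift, Category.comp_id, hv'], (hi k).2⟩)
  have h1 := congrArg (fun z => z ≫ fst T G) hφ
  have h2 := congrArg (fun z => z ≫ snd T G) hφ
  simp only [Category.assoc, lift_fst, lift_snd, Category.comp_id] at h1 h2
  rw [← h2, h1, Category.id_comp]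

/-- S12062. -/
theorem main (H : Iface.{u}) : ∃! v : T ⟶ G, IsMonHom v ∧ ∀ k, i k ≫ v = u k := by
  obtain ⟨v, hv, hv'⟩ := exists_hom hq hqu hT hi hu hcoh hs hc H
  refine ⟨v, ⟨hv, hv'⟩, fun w hw => ?_⟩
  have := hw.1
  exact hom_unique hq hqu hT hi hu hcoh hs hc H hw.2 hv'

end main

end K18.HomTor
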