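import Groth.Agent.SGA3x.K18.HomTor
import Groth.Agent.SGA3x.K18.SubtorLift
import Groth.Agent.SGA3x.K13.AdicBc
import Groth.Agent.SGA3x.K10.MTTors

/-!
# Homomorphisms out of a torus over a complete local ring from admissible adic families

S12075 from S12062 (`K18.HomTor.main`).
-/

set_option autoImplicit false
universe u
open CategoryTheory MonoidalCategory CartesianMonoidalCategory MonObj GrpObj AlgebraicGeometry Limits

namespace K18.AdicTor

open Groth.Agent Groth.Agent.Sga3B Groth.Agent.Sga3B.BcPts Groth.Agent.Sga3B.IsoFam K13.NTorsion K13.MTLift K18.TorTors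
  K18.TorsFam IsLocalRing

section pull

variable {S S' S'' : Scheme.{u}} {X Y : Over S}

lemma ev_unfam {f : S' ⟶ S} (Φ : X ⊗ Over.mk f ⟶ Y) {Z : Over S} (x : Z ⟶ X) (v : Z ⟶ Over.mk f) :
    ev (f := f) (unfam (T := Over.mk f) Φ) x v = lift x v ≫ Φ := by
  have e1 := comp_unfam (T := Over.mk f) Φ (bcEquiv f (Over.mk v.left) X ((overIso v).hom ≫ x))
  have h3 : (st (T := Over.mk f) (Over.mk v.left)) = (overIso v).hom ≫ v := by
    ext1
    simp [st]
  unfold ev
  refine (congrArg (fun z => (overIso v).inv ≫ (bcEquiv f (Over.mk v.left) Y).symm z) e1).trans ?_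
  erw [Equiv.symm_apply_apply, Equiv.symm_apply_apply, h3]
  rw [← comp_lift, Category.assoc, Iso.inv_hom_id_assoc]

/-- Restriction of a morphism of base changes along `g = t ≫ f`. -/
noncomputable def pull (f : S' ⟶ S) {g : S'' ⟶ S} (t : S'' ⟶ S') (h : t ≫ f = g) (φ : Red.bc f X ⟶ Red.bc f Y) :
    Red.bc g X ⟶ Red.bc g Y :=
  unfam (T := Over.mk g) ((X ◁ (Over.homMk t h : Over.mk g ⟶ Over.mk f)) ≫ fam φ)

lemma ev_pull (f : S' ⟶ S) {g : S'' ⟶ S} (t : S'' ⟶ S') (h : t ≫ f = g) (φ : Red.bc f X ⟶ Red.bc f Y) {Z : Over S}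
    (x : Z ⟶ X) (v : Z ⟶ Over.mk g) : ev (f := g) (pull f t h φ) x v = ev φ x (v ≫ Over.homMk t h) := by
  rw [pull, ev_unfam, lift_whiskerLeft_assoc, lift_fam]

lemma isMonHom_pull [GrpObj X] [GrpObj Y] (f : S' ⟶ S) {g : S'' ⟶ S} (t : S'' ⟶ S') (h : t ≫ f = g)
    (φ : Red.bc f X ⟶ Red.bc f Y) [IsMonHom φ] : IsMonHom (pull f t h φ) :=
  isMonHom_unfam (T := Over.mk g) (isHomFamily_pull (isHomFamily_fam φ) _)

lemma map_comp_pull (f : S' ⟶ S) {g : S'' ⟶ S} (t : S'' ⟶ S') (h : t ≫ f = g) {Z : Over S} (i : Z ⟶ X) (u : Z ⟶ Y)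
    (φ : Red.bc f X ⟶ Red.bc f Y) (hi : (Over.pullback f).map i ≫ φ = (Over.pullback f).map u) :
    (Over.pullback g).map i ≫ pull f t h φ = (Over.pullback g).map u := by
  refine BorDesc613.eq_of_ev fun W x v => ?_
  rw [← ev_comp, BorDesc613.ev_map, ev_pull, BorDesc613.ev_map, ← BorDesc613.ev_map (f := f) i x (v ≫ Over.homMk t h),
    ev_comp, hi, BorDesc613.ev_map]

end pull

theorem connectedSpace_spec (B : Type u) [CommRing B] [IsLocalRing B] : ConnectedSpace (Spec (CommRingCat.of B)) := by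
  have key : ∀ O : Set (Spec (CommRingCat.of B)), IsOpen O →
      (closedPoint B : Spec (CommRingCat.of B)) ∈ O → O = Set.univ := by
    intro O hO h
    rw [Set.eq_univ_iff_forall]
    intro x
    exact (PrimeSpectrum.le_iff_specializes x (closedPoint B)).1 (IsLocalRing.le_maximalIdeal x.2.ne_top) |>.mem_open hO h
  have h : _root_.IsPreconnected (Set.univ : Set (Spec (CommRingCat.of B))) := by
    intro U V hU hV hUV hU' hV'
    rcases hUV (Set.mem_univ (closedPoint B : Spec (CommRingCat.of B))) with h2 | h2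
    · rw [key U hU h2]
      obtain ⟨x, -, hx⟩ := hV'
      exact ⟨x, trivial, trivial, hx⟩
    · rw [key V hV h2]
      obtain ⟨x, -, hx⟩ := hU'
      exact ⟨x, trivial, hx, trivial⟩
  have h3 : PreconnectedSpace (Spec (CommRingCat.of B)) := ⟨h⟩
  exact { h3 with toNonempty := ⟨closedPoint B⟩ }

/-- Homomorphisms out of a torus over a local Artinian-like base are determined by their restrictions to the torsion. -/
theorem eq_of_torsion {B : Type u} [CommRing B] [IsLocalRing B] (hnil : IsNilpotent (maximalIdeal B)) {q : ℕ}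
    (hq : 1 < q) {T G : Over (Spec (CommRingCat.of B))} [GrpObj T] [GrpObj G] (hT : Red.IsTorus T)
    {N : ℕ → Over (Spec (CommRingCat.of B))} [∀ k, GrpObj (N k)] {i : ∀ k, N k ⟶ T} (hi : ∀ k, IsTors (q ^ k) (i k))
    {a b : T ⟶ G} (h : ∀ k, i k ≫ a = i k ≫ b) : a = b := by
  refine TorsFam.eq_of_torsion (cl (maximalIdeal B)) (fun k => ⟨(hi k).mono, (hi k).pts⟩)
    (SubtorLift.isNilpotent_ker hnil) hq hT h ?_
  let _ : Field (B ⧸ maximalIdeal B) := Ideal.Quotient.field (maximalIdeal B)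
  have hsep : IsSeparated (Red.bc (cl (maximalIdeal B)) G).hom :=
    Groth.Agent.Localalg.GrpSchComp2.isSeparated_hom (K := B ⧸ maximalIdeal B) _
  refine Dense.hom_eq hq (TorusBc.isTorus_bc _ hT) fun k X x hx => ?_
  obtain ⟨y, rfl⟩ := (((hi k).bc (cl (maximalIdeal B))).pts X x).2 hx
  rw [Category.assoc, Category.assoc, ← Functor.map_comp, ← Functor.map_comp, h]

section main

variable {A : Type u} [CommRing A] [IsLocalRing A]

lemma isLocalRing_quot (n : ℕ) : IsLocalRing (A ⧸ maximalIdeal A ^ (n + 1)) := by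
  have h1 : maximalIdeal A ^ (n + 1) ≠ ⊤ := fun h =>
    (maximalIdeal.isMaximal A).ne_top (top_le_iff.mp (h ▸ Ideal.pow_le_self (Nat.succ_ne_zero n)))
  have : Nontrivial (A ⧸ maximalIdeal A ^ (n + 1)) := Ideal.Quotient.nontrivial_iff.mpr h1
  exact IsLocalRing.of_surjective' (Ideal.Quotient.mk _) Ideal.Quotient.mk_surjective

lemma isNilpotent_quot (n : ℕ) [IsLocalRing (A ⧸ maximalIdeal A ^ (n + 1))] :
    IsNilpotent (maximalIdeal (A ⧸ maximalIdeal A ^ (n + 1))) := by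
  refine ⟨n + 1, ?_⟩
  have h1 : maximalIdeal (A ⧸ maximalIdeal A ^ (n + 1)) ≤ (maximalIdeal A).map (Ideal.Quotient.mk (maximalIdeal A ^ (n + 1))) := by
    intro b hb
    obtain ⟨a, rfl⟩ := Ideal.Quotient.mk_surjective b
    refine Ideal.mem_map_of_mem _ ?_
    rw [mem_maximalIdeal, mem_nonunits_iff] at hb ⊢
    exact fun h => hb (h.map _)
  have h2 := Ideal.pow_right_mono h1 (n + 1)
  rw [← Ideal.map_pow, Ideal.map_quotient_self] at h2
  exact le_bot_iff.mp h2

lemma exists_factor_closed (n : ℕ) :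
    ∃ p : Spec ((Spec (CommRingCat.of A)).residueField (closedPoint A)) ⟶ Spec (CommRingCat.of (A ⧸ maximalIdeal A ^ (n + 1))),
      p ≫ cl (maximalIdeal A ^ (n + 1)) = (Spec (CommRingCat.of A)).fromSpecResidueField (closedPoint A) := by
  obtain ⟨φ, hφ⟩ := Spec.map_surjective ((Spec (CommRingCat.of A)).fromSpecResidueField (closedPoint A))
  have h1 : ∀ a ∈ maximalIdeal A, φ.hom a = 0 := by
    intro a ha
    let y : Spec ((Spec (CommRingCat.of A)).residueField (closedPoint A)) := ⟨⊥, Ideal.isPrime_bot⟩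
    have h2 : (Spec.map φ) y = closedPoint A := by
      rw [hφ]
      exact Scheme.fromSpecResidueField_apply _ _
    have h3 : (y.asIdeal).comap φ.hom = maximalIdeal A := congrArg PrimeSpectrum.asIdeal h2
    have h4 : a ∈ (y.asIdeal).comap φ.hom := by rw [h3]; exact ha
    exact h4
  have h5 : ∀ a ∈ maximalIdeal A ^ (n + 1), φ.hom a = 0 := fun a ha =>
    h1 a (Ideal.pow_le_self (Nat.succ_ne_zero n) ha)
  refine ⟨Spec.map (CommRingCat.ofHom (Ideal.Quotient.lift _ φ.hom h5)), ?_⟩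
  rw [← hφ, ← Spec.map_comp]
  congr 1

/-- The `n`-torsion of a torus is finite. -/
theorem isFinite_of_isKernel {S : Scheme.{u}} {T L : Over S} [GrpObj T] (hT : SGA3x.IsMultTypeFT T) {n : ℕ} (hn : n ≠ 0)
    {i : L ⟶ T} (h : AlgGrp.IsKernel i ((𝟙 T : T ⟶ T) ^ n)) : IsFinite L.hom := by
  let e : L ≅ K10.MTTors.tors T n := h.isoPullback
  have h1 := K10.MTTors.isFinite_tors hT n hn
  have h2 : IsIso e.hom.left := inferInstanceAs (IsIso ((Over.forget _).map e.hom))
  rw [← Over.w e.hom]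
  infer_instance

variable [IsNoetherianRing A] [IsAdicComplete (maximalIdeal A) A]
    {G : Over (Spec (CommRingCat.of A))} [GrpObj G] {q : ℕ} (hq : 1 < q)
    {T : Over (Spec (CommRingCat.of A))} [GrpObj T] (hT : Red.IsTorus T)
    {um : ∀ m : ℕ, Red.bc (cl (maximalIdeal A ^ (m + 1))) T ⟶ Red.bc (cl (maximalIdeal A ^ (m + 1))) G}
    {N : ℕ → Over (Spec (CommRingCat.of A))} [grp : ∀ k, GrpObj (N k)] {i : ∀ k, N k ⟶ T}
    (hi : ∀ k, IsMonHom (i k) ∧ AlgGrp.IsKernel (i k) ((𝟙 T : T ⟶ T) ^ (q ^ k)))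
    {u : ∀ k, N k ⟶ G}
    (hcomp : ∀ (m k : ℕ), (Over.pullback (cl (maximalIdeal A ^ (m + 1)))).map (i k) ≫ um m = (Over.pullback (cl (maximalIdeal A ^ (m + 1)))).map (u k))

include hq hT hi hcomp in
/-- The restriction to the torsion. -/
theorem comp_eq {v : T ⟶ G} (hv : ∀ m : ℕ, (Over.pullback (cl (maximalIdeal A ^ (m + 1)))).map v = um m) (k : ℕ) :
    i k ≫ v = u k := by
  have hfin : IsFinite (N k).hom := isFinite_of_isKernel (MTDesc.isMultTypeFT_of_isTorus hT) (by positivity) (hi k).2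
  refine K13.AdicBc.hom_ext_bc fun n => ?_
  cases n with
  | zero =>
    ext1
    have h0 : Subsingleton (A ⧸ maximalIdeal A ^ 0) :=
      Ideal.Quotient.subsingleton_iff.mpr (by rw [pow_zero, Ideal.one_eq_top])
    have h1 : IsEmpty (Spec (CommRingCat.of (A ⧸ maximalIdeal A ^ 0))) :=
      inferInstanceAs (IsEmpty (PrimeSpectrum (A ⧸ maximalIdeal A ^ 0)))
    have h2 : IsEmpty ((Over.pullback (K13.AdicBc.f A 0)).obj (N k)).left :=
      Function.isEmpty ((Over.pullback (K13.AdicBc.f A 0)).obj (N k)).hom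
    exact isInitialOfIsEmpty.hom_ext _ _
  | succ m =>
    have h1 := hcomp m k
    rw [← hv m, ← Functor.map_comp] at h1
    exact h1

variable [QuasiCompact G.hom] [LocallyOfFiniteType G.hom] (hqu : IsUnit (q : A)) (hum : ∀ m, IsMonHom (um m))
    (hu : ∀ k, IsMonHom (u k))
    (hcoh : ∀ j k : ℕ, j ≤ k → ∃ f : N j ⟶ N k, f ≫ i k = i j ∧ f ≫ u k = u j)
    (hc : ∀ t : ↥(Spec (CommRingCat.of A)), ∃ (F : Scheme.{u}) (f : F ⟶ (Red.geomFibre t G).left), IsClosedImmersion f ∧ IsAffine F ∧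
      ∀ k, ∃ g : (Red.geomFibre t (N k)).left ⟶ F, g ≫ f = ((Over.pullback (Red.geomPt t)).map (u k)).left)

include hq hT hi hcomp hqu hum hu hcoh hc in
/-- S12075, from S8438. -/
theorem main (H : HomTor.Iface.{u}) :
    (∃! v : T ⟶ G, IsMonHom v ∧ ∀ m : ℕ, (Over.pullback (cl (maximalIdeal A ^ (m + 1)))).map v = um m) ∧
    (∀ v : T ⟶ G, IsMonHom v → (∀ m : ℕ, (Over.pullback (cl (maximalIdeal A ^ (m + 1)))).map v = um m) → ∀ k, i k ≫ v = u k) := by
  have hconn := connectedSpace_spec A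
  have hs : ∃ (s : ↥(Spec (CommRingCat.of A))) (us : Red.bc ((Spec (CommRingCat.of A)).fromSpecResidueField s) T ⟶ Red.bc ((Spec (CommRingCat.of A)).fromSpecResidueField s) G),
      IsMonHom us ∧ ∀ k, (Over.pullback ((Spec (CommRingCat.of A)).fromSpecResidueField s)).map (i k) ≫ us =
        (Over.pullback ((Spec (CommRingCat.of A)).fromSpecResidueField s)).map (u k) := by
    obtain ⟨p, hp⟩ := exists_factor_closed (A := A) 0
    have := hum 0
    exact ⟨closedPoint A, pull _ p hp (um 0), isMonHom_pull _ _ _ _, fun k => map_comp_pull _ _ _ _ _ _ (hcomp 0 k)⟩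
  obtain ⟨v, ⟨hv, hv'⟩, hv''⟩ := HomTor.main hq hqu hT hi hu hcoh hs hc H
  have h2 : ∀ v : T ⟶ G, IsMonHom v → (∀ m : ℕ, (Over.pullback (cl (maximalIdeal A ^ (m + 1)))).map v = um m) →
      ∀ k, i k ≫ v = u k := fun v _ hv k => comp_eq hq hT hi hcomp hv k
  refine ⟨⟨v, ⟨hv, fun m => ?_⟩, fun w hw => hv'' w ⟨hw.1, h2 w hw.1 hw.2⟩⟩, h2⟩
  have := isLocalRing_quot (A := A) m
  refine eq_of_torsion (isNilpotent_quot m) hq (TorusBc.isTorus_bc _ hT)
    (fun k => (isTors_of_isKernel (hi k).1 (hi k).2).bc (cl (maximalIdeal A ^ (m + 1)))) fun k => ?_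
  rw [← Functor.map_comp, hv', hcomp]

end main

end K18.AdicTor
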