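import Groth.Agent.Sga3.H801.CentralComm
import Groth.Agent.Sga3.H784.Torsion
import Groth.Agent.Sga3.H794.FinPts

/-!
# Points commuting with a torus modulo a central subgroup commute with it

`K` algebraically closed, `q : G ⟶ Q` with central kernel, `i : T ⟶ G` a homomorphism from a torus and `h : H ⟶ G` a
homomorphism from a group scheme of finite type whose image in `Q` commutes with the image of `T`. Then `T` and `H`
commute. (`H` is neither assumed reduced nor connected.)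
-/

set_option autoImplicit false
universe u
open CategoryTheory MonoidalCategory CartesianMonoidalCategory MonObj GrpObj AlgebraicGeometry Limits

namespace K18.CommMod

open Groth.Agent Groth.Agent.Sga3B Groth.Agent.Sga3B.BcPts Groth.Agent.Sga3.H801.CentralComm

section cm

variable {C : Type*} [Category C] [CartesianMonoidalCategory C] {G Q T₁ T₂ : C} [GrpObj G]
  (i₁ : T₁ ⟶ G) (i₂ : T₂ ⟶ G)

lemma cm_central [GrpObj Q] (q : G ⟶ Q) [IsMonHom q]
    (hq : ∀ (X : C) (z g : X ⟶ G), z ≫ q = 1 → z * g = g * z)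
    (hc : ∀ (X : C) (t : X ⟶ T₁) (r : X ⟶ T₂),
      (t ≫ i₁ ≫ q) * (r ≫ i₂ ≫ q) = (r ≫ i₂ ≫ q) * (t ≫ i₁ ≫ q))
    {X : C} (t : X ⟶ T₁) (r : X ⟶ T₂) (g : X ⟶ G) : cm i₁ i₂ t r * g = g * cm i₁ i₂ t r := by
  refine hq X _ g ?_
  rw [cm, MonObj.mul_comp, MonObj.mul_comp, MonObj.mul_comp, GrpObj.inv_comp, GrpObj.inv_comp,
    Category.assoc, Category.assoc, hc]
  group

lemma cm_mul_right [GrpObj Q] [GrpObj T₂] [IsMonHom i₂] (q : G ⟶ Q) [IsMonHom q]
    (hq : ∀ (X : C) (z g : X ⟶ G), z ≫ q = 1 → z * g = g * z)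
    (hc : ∀ (X : C) (t : X ⟶ T₁) (r : X ⟶ T₂),
      (t ≫ i₁ ≫ q) * (r ≫ i₂ ≫ q) = (r ≫ i₂ ≫ q) * (t ≫ i₁ ≫ q))
    {X : C} (t : X ⟶ T₁) (r r' : X ⟶ T₂) :
    cm i₁ i₂ t (r * r') = cm i₁ i₂ t r * cm i₁ i₂ t r' := by
  have h2 := cm_central i₁ i₂ q hq hc t r' (r ≫ i₂)
  simp only [cm, MonObj.mul_comp r r' i₂] at *
  generalize t ≫ i₁ = a at *
  generalize r ≫ i₂ = b at *
  generalize r' ≫ i₂ = c at *
  calc a * (b * c) * a⁻¹ * (b * c)⁻¹ = (a * b * a⁻¹) * (a * c * a⁻¹ * c⁻¹) * b⁻¹ := by group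
    _ = (a * b * a⁻¹) * b⁻¹ * (b * (a * c * a⁻¹ * c⁻¹)) * b⁻¹ := by group
    _ = (a * b * a⁻¹) * b⁻¹ * ((a * c * a⁻¹ * c⁻¹) * b) * b⁻¹ := by rw [h2]
    _ = (a * b * a⁻¹ * b⁻¹) * (a * c * a⁻¹ * c⁻¹) := by group

lemma cm_pow_right [GrpObj Q] [GrpObj T₂] [IsMonHom i₂] (q : G ⟶ Q) [IsMonHom q]
    (hq : ∀ (X : C) (z g : X ⟶ G), z ≫ q = 1 → z * g = g * z)
    (hc : ∀ (X : C) (t : X ⟶ T₁) (r : X ⟶ T₂),
      (t ≫ i₁ ≫ q) * (r ≫ i₂ ≫ q) = (r ≫ i₂ ≫ q) * (t ≫ i₁ ≫ q))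
    {X : C} (t : X ⟶ T₁) (r : X ⟶ T₂) (m : ℕ) :
    cm i₁ i₂ t (r ^ m) = cm i₁ i₂ t r ^ m := by
  induction m with
  | zero => rw [pow_zero, pow_zero, cm_one]
  | succ m ih => rw [pow_succ, pow_succ, cm_mul_right i₁ i₂ q hq hc, ih]

lemma cm_one_left [GrpObj T₁] [IsMonHom i₁] {X : C} (r : X ⟶ T₂) : cm i₁ i₂ (1 : X ⟶ T₁) r = 1 := by
  rw [cm, MonObj.one_comp]
  group

lemma cm_pow_left [GrpObj Q] [GrpObj T₁] [IsMonHom i₁] (q : G ⟶ Q) [IsMonHom q]
    (hq : ∀ (X : C) (z g : X ⟶ G), z ≫ q = 1 → z * g = g * z)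
    (hc : ∀ (X : C) (t : X ⟶ T₁) (r : X ⟶ T₂),
      (t ≫ i₁ ≫ q) * (r ≫ i₂ ≫ q) = (r ≫ i₂ ≫ q) * (t ≫ i₁ ≫ q))
    {X : C} (t : X ⟶ T₁) (r : X ⟶ T₂) (m : ℕ) :
    cm i₁ i₂ (t ^ m) r = cm i₁ i₂ t r ^ m := by
  induction m with
  | zero => rw [pow_zero, pow_zero, cm_one_left]
  | succ m ih => rw [pow_succ, pow_succ, cm_mul i₁ i₂ q hq hc, ih]

end cm

section base

variable {S : Scheme.{u}} {G Q T₁ T₂ : Over S} [GrpObj G]

/-- Triviality of the commutator over a `T₂`-scheme, in terms of points. -/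
lemma cmHom_iff (i₁ : T₁ ⟶ G) (i₂ : T₂ ⟶ G) {X : Over S} (r : X ⟶ T₂) :
    (fst (Red.bc T₂.hom T₁) (Over.mk r.left) ≫ cmHom i₁ i₂ =
      fst (Red.bc T₂.hom T₁) (Over.mk r.left) ≫ (1 : Red.bc T₂.hom T₁ ⟶ Red.bc T₂.hom G)) ↔
    ∀ (X' : Over S) (x : X' ⟶ X) (t : X' ⟶ T₁), cm i₁ i₂ t (x ≫ r) = 1 := by
  constructor
  · intro key X' x t
    let r' : X' ⟶ Over.mk T₂.hom := Over.homMk (x ≫ r).left (Over.w (x ≫ r))
    let Z : Over T₂.left := Over.mk (x ≫ r).left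
    let o : (Over.map T₂.hom).obj Z ≅ X' := overIso r'
    let z : Z ⟶ Red.bc T₂.hom T₁ := bcEquiv T₂.hom Z T₁ (o.hom ≫ t)
    have h5 := congrArg (fun k => lift z (Over.homMk x.left : Z ⟶ Over.mk r.left) ≫ k) key
    simp only [lift_fst_assoc, MonObj.comp_one] at h5
    rw [comp_cmHom] at h5
    have h6 : taut T₂ Z = o.hom ≫ x ≫ r := by
      ext1
      simp only [taut, Over.homMk_left, Over.comp_left, o, overIso_hom_left]
      exact (Category.id_comp _).symm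
    rw [Equiv.symm_apply_apply, h6, ← comp_cm] at h5
    have h7 : o.hom ≫ cm i₁ i₂ t (x ≫ r) = 1 := by
      apply (bcEquiv T₂.hom Z G).injective
      rw [h5, bcEquiv_one]
    rw [← cancel_epi o.hom, h7, MonObj.comp_one]
  · intro h
    rw [comp_cmHom, MonObj.comp_one]
    let W : Over T₂.left := Red.bc T₂.hom T₁ ⊗ Over.mk r.left
    let x : (Over.map T₂.hom).obj W ⟶ X :=
      Over.homMk (snd (Red.bc T₂.hom T₁) (Over.mk r.left)).left (by
        have h1 := Over.w (snd (Red.bc T₂.hom T₁) (Over.mk r.left))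
        change (snd (Red.bc T₂.hom T₁) (Over.mk r.left)).left ≫ X.hom = W.hom ≫ T₂.hom
        rw [← Over.w r, ← h1, Category.assoc]
        rfl)
    have h6 : taut T₂ W = x ≫ r := by
      ext1
      have h1 := Over.w (snd (Red.bc T₂.hom T₁) (Over.mk r.left))
      exact h1.symm
    change bcEquiv T₂.hom W G (cm i₁ i₂ ((bcEquiv T₂.hom W T₁).symm (fst _ _)) (taut T₂ W)) = 1
    rw [h6, h, bcEquiv_one]

end base

section field

variable {K : Type u} [Field K] [IsAlgClosed K]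

local notation "𝟙S" => 𝟙_ (Over (Spec (CommRingCat.of K)))

lemma pow_comp' {C : Type*} [Category C] [CartesianMonoidalCategory C] {X G H : C} [GrpObj G] [GrpObj H]
    (f : G ⟶ H) [IsMonHom f] (x : X ⟶ G) (m : ℕ) : (x ^ m) ≫ f = (x ≫ f) ^ m := by
  induction m with
  | zero => rw [pow_zero, pow_zero, MonObj.one_comp]
  | succ m ih => rw [pow_succ, pow_succ, MonObj.mul_comp, ih]

lemma comp_pow' {C : Type*} [Category C] [CartesianMonoidalCategory C] {X Y G : C} [GrpObj G]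
    (h : Y ⟶ X) (x : X ⟶ G) (m : ℕ) : h ≫ (x ^ m) = (h ≫ x) ^ m := by
  induction m with
  | zero => rw [pow_zero, pow_zero, MonObj.comp_one]
  | succ m ih => rw [pow_succ, pow_succ, MonObj.comp_mul, ih]

/-- The rational points of a torus over an algebraically closed field form a divisible group. -/
lemma exists_pow_eq {T : Over (Spec (CommRingCat.of K))} [GrpObj T] (hT : Red.IsTorus T) (t : 𝟙S ⟶ T) {m : ℕ}
    (hm : 0 < m) : ∃ y : 𝟙S ⟶ T, y ^ m = t := by
  obtain ⟨n, e, he⟩ := Sga3B.RG.BrTorus.isTorus_iff.1 hT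
  obtain ⟨y, hy⟩ := Sga3.H784.Torsion.exists_pow_eq
    ((Sga3B.RG.BrPts.ptEquiv K (Sga3B.RG.BrTorus.KZ K n)).symm (t ≫ e.hom)) hm
  refine ⟨Sga3B.RG.BrPts.ptEquiv K _ y ≫ e.inv, ?_⟩
  rw [← pow_comp', ← map_pow, hy, MulEquiv.apply_symm_apply, Category.assoc, Iso.hom_inv_id, Category.comp_id]

open Books.AlgPts

/-- **Points commuting with a torus modulo a central subgroup commute with it.** -/
theorem commute {G Q T H : Over (Spec (CommRingCat.of K))} [GrpObj G] [GrpObj Q] [GrpObj T] [GrpObj H]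
    [IsSeparated G.hom] [LocallyOfFiniteType G.hom] [LocallyOfFiniteType H.hom] [QuasiCompact H.hom]
    (q : G ⟶ Q) [IsMonHom q] (hq : ∀ (X : Over (Spec (CommRingCat.of K))) (z g : X ⟶ G), z ≫ q = 1 → z * g = g * z)
    (i : T ⟶ G) [IsMonHom i] (hT : Red.IsTorus T) (h : H ⟶ G) [IsMonHom h]
    (hc : ∀ (X : Over (Spec (CommRingCat.of K))) (t : X ⟶ T) (r : X ⟶ H),
      (t ≫ i ≫ q) * (r ≫ h ≫ q) = (r ≫ h ≫ q) * (t ≫ i ≫ q))
    (X : Over (Spec (CommRingCat.of K))) (t : X ⟶ T) (r : X ⟶ H) :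
    (t ≫ i) * (r ≫ h) = (r ≫ h) * (t ≫ i) := by
  have hm := isMonHom_cmHom i h q hq hc
  have hm1 : IsMonHom (1 : Red.bc H.hom T ⟶ Red.bc H.hom G) :=
    InfConjFam.isMonHom_of_mul _ fun Z z z' => by
      rw [MonObj.comp_one, MonObj.comp_one, MonObj.comp_one, _root_.mul_one]
  have : IsSeparated (Red.bc H.hom G).hom := inferInstanceAs (IsSeparated (pullback.snd _ _))
  have : LocallyOfFiniteType (Red.bc H.hom G).hom :=
    inferInstanceAs (LocallyOfFiniteType (pullback.snd _ _))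
  obtain ⟨U, hU, hU'⟩ := Sga3.H798.AgreeOpen.exists_clopen (cmHom i h)
    (1 : Red.bc H.hom T ⟶ Red.bc H.hom G) (TorusBc.isTorus_bc H.hom hT) (fun X x y => by
      rw [MonObj.comp_one, _root_.mul_one, _root_.one_mul])
  have key : ∀ {X : Over (Spec (CommRingCat.of K))} (r : X ⟶ H), Set.range r.left ⊆ U ↔
      ∀ (X' : Over (Spec (CommRingCat.of K))) (x : X' ⟶ X) (t : X' ⟶ T), cm i h t (x ≫ r) = 1 := by
    intro X r
    rw [← cmHom_iff, hU' (Over.mk r.left)]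
    rfl
  have keyp : ∀ (r : 𝟙S ⟶ H), pt r ∈ U ↔
      ∀ (X' : Over (Spec (CommRingCat.of K))) (x : X' ⟶ 𝟙S) (t : X' ⟶ T), cm i h t (x ≫ r) = 1 := by
    intro r
    rw [← key]
    constructor
    · rintro hr _ ⟨y, rfl⟩
      have : y = IsLocalRing.closedPoint K := Subsingleton.elim (α := PrimeSpectrum K) _ _
      subst this
      exact hr
    · intro hr
      exact hr ⟨_, rfl⟩
  have hone : pt (1 : 𝟙S ⟶ H) ∈ U := (keyp 1).2 fun X' x t => by rw [MonObj.comp_one, cm_one]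
  -- every rational point belongs to `U`
  have hpt : ∀ r : 𝟙S ⟶ H, pt r ∈ U := by
    intro r
    have hfin := Sga3.H794.FinPts.finite_connectedComponents (N := H)
    obtain ⟨a, b, hab, heq⟩ : ∃ a b : ℕ, a < b ∧
        (ConnectedComponents.mk (pt (r ^ a))) = ConnectedComponents.mk (pt (r ^ b)) := by
      obtain ⟨a, b, hne, h'⟩ := Finite.exists_ne_map_eq_of_infinite
        (fun n : ℕ => (ConnectedComponents.mk (pt (r ^ n)) : ConnectedComponents H.left))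
      rcases lt_or_gt_of_ne hne with h1 | h1
      · exact ⟨a, b, h1, h'⟩
      · exact ⟨b, a, h1, h'.symm⟩
    let ρ : H ⟶ H := 𝟙 H * (toUnit H ≫ (r ^ a)⁻¹)
    have hρ : ∀ y : 𝟙S ⟶ H, y ≫ ρ = y * (r ^ a)⁻¹ := by
      intro y
      simp only [ρ, MonObj.comp_mul, Category.comp_id]
      rw [← Category.assoc, toUnit_unique (y ≫ toUnit H) (𝟙 _), Category.id_comp]
    have hV : IsClopen (ρ.left ⁻¹' (U : Set H.left)) :=
      ⟨hU.preimage ρ.left.continuous, U.2.preimage ρ.left.continuous⟩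
    have hma : pt (r ^ a) ∈ ρ.left ⁻¹' (U : Set H.left) := by
      change ρ.left (pt (r ^ a)) ∈ U
      rw [← pt_comp, hρ, mul_inv_cancel]
      exact hone
    have hmb : pt (r ^ b) ∈ ρ.left ⁻¹' (U : Set H.left) := by
      have h1 : connectedComponent (pt (r ^ a)) = connectedComponent (pt (r ^ b)) :=
        ConnectedComponents.coe_eq_coe.1 heq
      have h2 := hV.connectedComponent_subset hma
      exact h2 (h1 ▸ mem_connectedComponent)
    have hmb' : pt (r ^ (b - a)) ∈ U := by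
      have h1 : ρ.left (pt (r ^ b)) ∈ U := hmb
      rw [← pt_comp, hρ] at h1
      have h2 : r ^ b * (r ^ a)⁻¹ = r ^ (b - a) := by
        rw [mul_inv_eq_iff_eq_mul, ← pow_add, Nat.sub_add_cancel hab.le]
      rwa [h2] at h1
    have hpos : 0 < b - a := Nat.sub_pos_of_lt hab
    rw [keyp] at hmb' ⊢
    -- it is enough to consider the universal point of `T`
    have huniv : cm i h (𝟙 T) (toUnit T ≫ r) = 1 := by
      have := TorusAlgClosed.smooth_of_isTorus hT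
      have : IsReduced T.left := Books.AlgPtsSmooth.isReduced_of_smooth T
      refine Sga3B.RG.BrPts.hom_ext_of_points _ _ fun y => ?_
      obtain ⟨y', hy'⟩ := exists_pow_eq hT y hpos
      rw [comp_cm, Category.comp_id, ← Category.assoc, toUnit_unique (y ≫ toUnit T) (𝟙 _), Category.id_comp,
        MonObj.comp_one, ← hy', cm_pow_left i h q hq hc, ← cm_pow_right i h q hq hc]
      have := hmb' _ (𝟙 _) y'
      rwa [Category.id_comp] at this
    intro X' x t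
    have h3 := congrArg (fun k => t ≫ k) huniv
    simp only [comp_cm, Category.comp_id, MonObj.comp_one] at h3
    rw [← Category.assoc, toUnit_unique (t ≫ toUnit T) x] at h3
    exact h3
  have hUtop : (Set.univ : Set H.left) ⊆ U :=
    subset_of_forall_pt isOpen_univ.isLocallyClosed hU fun x _ => hpt x
  have h1 := (key r).1 (fun p _ => hUtop trivial) X (𝟙 X) t
  rw [Category.id_comp] at h1
  exact (cm_eq_one i h t r).1 h1

end field

end K18.CommMod
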