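import Groth.Prelude.Def_SGA3x
import Groth.Agent.SGA3x.K18.CommMod

/-!
# Centralizers of tori and quotients by central subgroups

`u : G ⟶ G'` a homomorphism, `v : T ⟶ T'` a flat surjective homomorphism over `u`: a point of `G` centralizing `T` has
an image centralizing `T'`; over an algebraically closed field and if the kernel of `u` is central, the inverse image of
the centralizer of `T'` is the centralizer of `T`.
-/

set_option autoImplicit false
universe u
open CategoryTheory MonoidalCategory CartesianMonoidalCategory MonObj GrpObj AlgebraicGeometry Limits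

namespace K18.CentQuot

open Groth.Agent Groth.Agent.Sga3B Groth.Agent.Sga3B.BcPts

section base

variable {S : Scheme.{u}} {G G' T T' : Over S}

/-- `g` commutes with all points of `i` -/
def Cent [GrpObj G] (i : T ⟶ G) {X : Over S} (g : X ⟶ G) : Prop :=
  ∀ (X' : Over S) (x : X' ⟶ X) (t : X' ⟶ T), (x ≫ g) * (t ≫ i) = (t ≫ i) * (x ≫ g)

lemma Cent.comp [GrpObj G] {i : T ⟶ G} {X X' : Over S} {g : X ⟶ G} (h : Cent i g) (x : X' ⟶ X) :
    Cent i (x ≫ g) := by
  intro X'' y t
  have := h X'' (y ≫ x) t
  rwa [Category.assoc] at this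

lemma cent_of_isCentralizerOf [GrpObj G] [GrpObj T] {C : Over S} [GrpObj C] {i : T ⟶ G} {c : C ⟶ G}
    (h : Red.IsCentralizerOf i c) : Cent i c := by
  have := (h.2.2 C c).1 ⟨𝟙 _, Category.id_comp _⟩
  exact this

/-- morphisms over `S` which agree after a flat surjective base change agree -/
lemma hom_ext_of_flat {X' X Y : Over S} (c : X' ⟶ X) [Flat c.left] [Surjective c.left] {a b : X ⟶ Y}
    (h : c ≫ a = c ≫ b) : a = b := by
  have : Epi c.left := Flat.epi_of_flat_of_surjective c.left
  ext1
  rw [← cancel_epi c.left]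
  exact congrArg (fun k => k.left) h

/-- flat surjective lifting of points -/
lemma exists_cover (v : T ⟶ T') [Flat v.left] [Surjective v.left] {X : Over S} (t' : X ⟶ T') :
    ∃ (X' : Over S) (c : X' ⟶ X) (t : X' ⟶ T), Flat c.left ∧ Surjective c.left ∧ t ≫ v = c ≫ t' := by
  let X' : Over S := Over.mk (pullback.fst t'.left v.left ≫ X.hom)
  let c : X' ⟶ X := Over.homMk (pullback.fst t'.left v.left)
  refine ⟨X', c, Over.homMk (pullback.snd t'.left v.left) ?_,
    inferInstanceAs (Flat (pullback.fst t'.left v.left)),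
    inferInstanceAs (Surjective (pullback.fst t'.left v.left)), ?_⟩
  · change pullback.snd t'.left v.left ≫ T.hom = pullback.fst t'.left v.left ≫ X.hom
    rw [← Over.w v, ← Over.w t', ← Category.assoc, ← pullback.condition, Category.assoc]
  · ext1
    exact pullback.condition.symm

/-- the image of a point centralizing `T` centralizes the image of `T` -/
theorem Cent.map [GrpObj G] [GrpObj G'] (u : G ⟶ G') [IsMonHom u] (i : T ⟶ G) (i' : T' ⟶ G') (v : T ⟶ T')
    [Flat v.left] [Surjective v.left] (hv : v ≫ i' = i ≫ u) {X : Over S} {g : X ⟶ G} (h : Cent i g) :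
    Cent i' (g ≫ u) := by
  intro X' x t'
  obtain ⟨X'', c, t, hc1, hc2, ht⟩ := exists_cover v t'
  apply hom_ext_of_flat c
  have h1 := congrArg (· ≫ u) (h X'' (c ≫ x) t)
  simp only [MonObj.mul_comp, Category.assoc, ← hv] at h1
  rw [← Category.assoc t, ht, Category.assoc] at h1
  rw [MonObj.comp_mul, MonObj.comp_mul]
  exact h1

/-- points centralizing an image -/
theorem cent_comp_of_cent [GrpObj G] [GrpObj G'] {u : G ⟶ G'} [IsMonHom u] {i : T ⟶ G} {i' : T' ⟶ G'} {v : T ⟶ T'}
    (hv : v ≫ i' = i ≫ u) {X : Over S} {g : X ⟶ G'} (h : Cent i' g) : Cent (i ≫ u) g := by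
  rw [← hv]
  intro X' x t
  rw [← Category.assoc t]
  exact h X' x (t ≫ v)

end base

section field

variable {K : Type u} [Field K] [IsAlgClosed K]

/-- **The inverse image of the centralizer of `u(T)` is the centralizer of `T`**, if the kernel of `u` is central. -/
theorem isCentralizerOf {G G' T T' H C' : Over (Spec (CommRingCat.of K))} [GrpObj G] [GrpObj G'] [GrpObj T]
    [GrpObj T'] [GrpObj H] [GrpObj C'] [IsSeparated G.hom] [LocallyOfFiniteType G.hom] [QuasiCompact G.hom]
    (u : G ⟶ G') [IsMonHom u]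
    (hq : ∀ (X : Over (Spec (CommRingCat.of K))) (z g : X ⟶ G), z ≫ u = 1 → z * g = g * z)
    (i : T ⟶ G) [IsMonHom i] (hT : Red.IsTorus T) (i' : T' ⟶ G') (v : T ⟶ T')
    [Flat v.left] [Surjective v.left] (hv : v ≫ i' = i ≫ u) (c' : C' ⟶ G') [IsClosedImmersion c'.left]
    (hc' : Red.IsCentralizerOf i' c') (h : H ⟶ G) [IsMonHom h] (w : H ⟶ C') (sq : IsPullback h w u c') :
    Red.IsCentralizerOf i h := by
  have hm' := hc'.2.1
  have hm : Mono h := MorphismProperty.of_isPullback (P := MorphismProperty.monomorphisms _) sq.flip hm'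
  have sql : IsPullback h.left w.left u.left c'.left := sq.map (Over.forget _)
  have hcl : IsClosedImmersion h.left := MorphismProperty.of_isPullback (P := @IsClosedImmersion) sql.flip inferInstance
  have : LocallyOfFiniteType H.hom := by
    rw [← Over.w h]; infer_instance
  have : QuasiCompact H.hom := by
    rw [← Over.w h]; infer_instance
  have hcomm := CommMod.commute u hq i hT h (fun X t r => by
    have h1 := cent_comp_of_cent hv (cent_of_isCentralizerOf hc') X (r ≫ w) t
    rw [sq.w, ← Category.assoc r w c']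
    exact h1.symm)
  refine ⟨inferInstance, hm, fun X g => ⟨?_, fun hg => ?_⟩⟩
  · rintro ⟨z, rfl⟩ X' x t
    rw [← Category.assoc x]
    exact (hcomm X' t (x ≫ z)).symm
  · obtain ⟨y, hy⟩ := (hc'.2.2 X (g ≫ u)).2 (Cent.map u i i' v hv hg)
    exact ⟨sq.lift g y hy.symm, sq.lift_fst _ _ _⟩

end field

end K18.CentQuot
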