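import Groth.Prelude.Def_SGA3x
import Groth.Agent.Sga3.H794.ChevKer
import Groth.Agent.S3016
import Groth.Agent.Localalg.GrpSchComp2

/-!
# The neutral component surjects onto connected targets
-/

set_option autoImplicit false
universe u
open CategoryTheory MonoidalCategory CartesianMonoidalCategory MonObj GrpObj AlgebraicGeometry Limits

namespace K18.NeutSurj

open Groth.Agent Groth.Agent.Sga3B Groth.Agent.Books.AlgPts

section

variable {C : Type*} [Category C] [CartesianMonoidalCategory C] {G : C} [GrpObj G]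

/-- left translation by a point -/
def lmulIso (g : 𝟙_ C ⟶ G) : G ≅ G where
  hom := (toUnit G ≫ g) * 𝟙 G
  inv := (toUnit G ≫ g)⁻¹ * 𝟙 G
  hom_inv_id := by
    simp only [MonObj.comp_mul, GrpObj.comp_inv, comp_toUnit_assoc, Category.comp_id]
    group
  inv_hom_id := by
    simp only [MonObj.comp_mul, comp_toUnit_assoc, Category.comp_id]
    group

lemma comp_lmulIso_hom (g : 𝟙_ C ⟶ G) {X : C} (f : X ⟶ G) :
    f ≫ (lmulIso g).hom = (toUnit X ≫ g) * f := by
  simp only [lmulIso, MonObj.comp_mul, comp_toUnit_assoc, Category.comp_id]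

end

variable {K : Type u} [Field K] [IsAlgClosed K]

local notation "𝟙S" => 𝟙_ (Over (Spec (CommRingCat.of K)))

/-- **The neutral component surjects onto a connected target.** -/
theorem surjective_neutral {D R U : Over (Spec (CommRingCat.of K))} [GrpObj D] [GrpObj R] [GrpObj U]
    [LocallyOfFiniteType D.hom] [QuasiCompact D.hom] [LocallyOfFiniteType R.hom] [LocallyOfFiniteType U.hom]
    [QuasiCompact U.hom] (r : D ⟶ R) [IsMonHom r] [Surjective r.left] [ConnectedSpace R.left] (u : U ⟶ D) [IsMonHom u]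
    (hu : Set.range u.left = connectedComponent (pt η[D])) : Surjective (u ≫ r).left := by
  have hsep : IsSeparated R.hom := Groth.Agent.Localalg.GrpSchComp2.isSeparated_hom R
  have hqc : QuasiCompact (u ≫ r).left := by
    have h1 : QuasiCompact ((u ≫ r).left ≫ R.hom) := by rw [Over.w]; infer_instance
    exact QuasiCompact.of_comp _ R.hom
  have hcl : IsClosed (Set.range (u ≫ r).left) := (S3016.result K U R (u ≫ r)).1
  -- the subgroup of points
  let A : Subgroup (𝟙S ⟶ R) :=
    { carrier := {y | ∃ w : 𝟙S ⟶ U, w ≫ (u ≫ r) = y}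
      mul_mem' := by
        rintro a b ⟨a', ha⟩ ⟨b', hb⟩
        exact ⟨a' * b', by rw [MonObj.mul_comp, ha, hb]⟩
      one_mem' := ⟨1, by rw [MonObj.one_comp]⟩
      inv_mem' := by
        rintro a ⟨a', ha⟩
        exact ⟨a'⁻¹, by rw [GrpObj.inv_comp, ha]⟩ }
  have hA : ∀ y : 𝟙S ⟶ R, pt y ∈ Set.range (u ≫ r).left ↔ y ∈ A := by
    intro y
    constructor
    · intro h
      exact exists_comp_eq_of_pt_mem_range (u ≫ r) y h
    · rintro ⟨w, rfl⟩
      rw [pt_comp]
      exact ⟨_, rfl⟩
  have hfr := Sga3.H794.ChevKer.finite_range u hu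
    (fun x : 𝟙S ⟶ D => (QuotientGroup.mk ((x ≫ r)⁻¹) : (𝟙S ⟶ R) ⧸ A)) (by
      rintro x y ⟨w, hw⟩
      rw [QuotientGroup.eq]
      refine ⟨w, ?_⟩
      rw [← Category.assoc, hw, MonObj.mul_comp, GrpObj.inv_comp, _root_.inv_inv])
  have hfin : Finite ((𝟙S ⟶ R) ⧸ A) := by
    rw [← Set.finite_univ_iff]
    refine hfr.subset fun c _ => ?_
    obtain ⟨y, rfl⟩ := QuotientGroup.mk_surjective c
    obtain ⟨x, hx⟩ := exists_comp_eq_of_pt_mem_range r y⁻¹ (by rw [Set.range_eq_univ.2 r.left.surjective]; trivial)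
    exact ⟨x, by simp [hx]⟩
  let Z : (𝟙S ⟶ R) ⧸ A → Set R.left := fun c =>
    (lmulIso (Quotient.out c)).hom.left '' (Set.range (u ≫ r).left)
  have hZcl : ∀ c, IsClosed (Z c) := fun c => by
    have : IsIso (lmulIso (Quotient.out c)).hom.left :=
      inferInstanceAs (IsIso ((Over.forget _).map (lmulIso (Quotient.out c)).hom))
    exact ((lmulIso (Quotient.out c)).hom.left.homeomorph.isClosedMap) _ hcl
  have hZ : ∀ c (y : 𝟙S ⟶ R), pt y ∈ Z c ↔ (QuotientGroup.mk y : (𝟙S ⟶ R) ⧸ A) = c := by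
    intro c y
    have e : Z c = Set.range ((u ≫ r) ≫ (lmulIso (Quotient.out c)).hom).left := by
      rw [Over.comp_left, Scheme.Hom.comp_base, TopCat.coe_comp, Set.range_comp]
    rw [e]
    have hc : (QuotientGroup.mk (Quotient.out c) : (𝟙S ⟶ R) ⧸ A) = c := Quotient.out_eq' c
    constructor
    · intro h
      obtain ⟨w, hw⟩ := exists_comp_eq_of_pt_mem_range _ y h
      rw [← hw, ← Category.assoc, comp_lmulIso_hom, ← hc, eq_comm, QuotientGroup.eq]
      refine ⟨w, ?_⟩
      rw [show toUnit 𝟙S = 𝟙 _ from toUnit_unique _ _, Category.id_comp, hc]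
      group
    · intro h
      have h1 : (QuotientGroup.mk (Quotient.out c) : (𝟙S ⟶ R) ⧸ A) = QuotientGroup.mk y := hc.trans h.symm
      rw [QuotientGroup.eq] at h1
      obtain ⟨w, hw⟩ := h1
      have h2 : y = w ≫ (u ≫ r) ≫ (lmulIso (Quotient.out c)).hom := by
        rw [← Category.assoc, comp_lmulIso_hom, hw, show toUnit 𝟙S = 𝟙 _ from toUnit_unique _ _, Category.id_comp]
        group
      rw [h2, pt_comp]
      exact ⟨_, rfl⟩
  let W' : Set R.left := ⋃ c ∈ {c : (𝟙S ⟶ R) ⧸ A | c ≠ QuotientGroup.mk 1}, Z c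
  have hW' : IsClosed W' := (Set.toFinite _).isClosed_biUnion fun c _ => hZcl c
  have hun : Set.range (u ≫ r).left ∪ W' = Set.univ := by
    refine Set.eq_univ_of_univ_subset (subset_of_forall_pt isOpen_univ.isLocallyClosed (hcl.union hW') ?_)
    intro y _
    by_cases hy : (QuotientGroup.mk y : (𝟙S ⟶ R) ⧸ A) = QuotientGroup.mk 1
    · left
      rw [hA]
      rw [eq_comm, QuotientGroup.eq] at hy
      simpa using hy
    · right
      exact Set.mem_biUnion (show (QuotientGroup.mk y : (𝟙S ⟶ R) ⧸ A) ∈ _ from hy) ((hZ _ _).2 rfl)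
  have hdisj : Set.range (u ≫ r).left ∩ W' = ∅ := by
    by_contra hne
    obtain ⟨y, hy1, hy2⟩ := exists_pt_mem (Set.nonempty_iff_ne_empty.2 hne) (hcl.inter hW').isLocallyClosed
    rw [hA] at hy1
    obtain ⟨c, hc, hyc⟩ := Set.mem_iUnion₂.1 hy2
    rw [hZ] at hyc
    apply hc
    rw [← hyc, eq_comm, QuotientGroup.eq]
    simpa using hy1
  have hop : IsOpen (Set.range (u ≫ r).left) := by
    have h1 : Set.range (u ≫ r).left = W'ᶜ := by
      apply Set.Subset.antisymm
      · intro x hx hx'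
        have : x ∈ Set.range (u ≫ r).left ∩ W' := ⟨hx, hx'⟩
        rw [hdisj] at this
        exact this
      · intro x hx
        have : x ∈ Set.range (u ≫ r).left ∪ W' := by rw [hun]; trivial
        exact this.resolve_right hx
    rw [h1]
    exact hW'.isOpen_compl
  have h0 : (Set.range (u ≫ r).left).Nonempty := ⟨_, ⟨pt η[U], rfl⟩⟩
  have huniv := IsClopen.eq_univ ⟨hcl, hop⟩ h0
  exact ⟨fun y => by
    have : y ∈ Set.range (u ≫ r).left := by rw [huniv]; trivial
    exact this⟩

end K18.NeutSurj
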