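import Groth.Prelude.Def_SGA3x
import Groth.Agent.SGA3x.K18.NeutSurj
import Groth.Agent.SGA3x.K18.PbKit
import Groth.Agent.Sga3B.RedIdComp
import Groth.Agent.Sga3B.Parab.SolvPts172
import Groth.Agent.Sga3.H784.Neutral
import Groth.Agent.Sga3.H784.NAMain
import Groth.Agent.S4118
import Groth.Agent.S0115
import Groth.Agent.S3034
import Groth.Agent.Sga7.H758.FieldHom

/-!
# Borel subgroups and quotients by central subgroups over an algebraically closed field
-/

set_option autoImplicit false
universe u
open CategoryTheory MonoidalCategory CartesianMonoidalCategory MonObj GrpObj AlgebraicGeometry Limits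

namespace K18.BorelFld

open Groth.Agent Groth.Agent.Sga3B Groth.Agent.Books.AlgPts Groth.Agent.Books.AlgPtsGrp Groth.Agent.Sga3.H784

variable {K : Type u} [Field K] [IsAlgClosed K]

local notation "𝟙S" => 𝟙_ (Over (Spec (CommRingCat.of K)))

/-- Cartan subgroups of Borel subgroups are Cartan subgroups (part of S8422) -/
def CartIface : Prop := ∀ (k : Type u) [Field k] [IsAlgClosed k]
    (G : Over (Spec (CommRingCat.of k))) [GrpObj G] [Smooth G.hom] [QuasiCompact G.hom],
    ConnectedSpace ↥G.left → ∀ (B : Over (Spec (CommRingCat.of k))) [GrpObj B] (b : B ⟶ G), Red.IsBorelOver k b →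
      ∀ (C : Over (Spec (CommRingCat.of k))) [GrpObj C] (c : C ⟶ B), SGA3x.IsCartanOver k c → SGA3x.IsCartanOver k (c ≫ b)

/-- central points lie in every Borel subgroup -/
theorem exists_factor_of_central (hI : CartIface.{u}) {G B : Over (Spec (CommRingCat.of K))} [GrpObj G] [GrpObj B]
    [Smooth G.hom] [QuasiCompact G.hom] [ConnectedSpace G.left] (b : B ⟶ G) (hb : Red.IsBorelOver K b)
    {X : Over (Spec (CommRingCat.of K))} (z : X ⟶ G) (hz : ∀ (X' : Over (Spec (CommRingCat.of K))) (x : X' ⟶ X)
      (g : X' ⟶ G), (x ≫ z) * g = g * (x ≫ z)) : ∃ y : X ⟶ B, y ≫ b = z := by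
  have h1 := hb.1
  have h2 := hb.2.1
  have h3 := hb.2.2.1
  have hsep : IsSeparated G.hom := Groth.Agent.Localalg.GrpSchComp2.isSeparated_hom G
  have hsepB : IsSeparated B.hom := Groth.Agent.Localalg.GrpSchComp2.isSeparated_hom B
  have hqcB : QuasiCompact B.hom := by rw [← Over.w b]; infer_instance
  obtain ⟨T, _, i, hi⟩ := NAMain.exists_isMaximalTorus B
  obtain ⟨C, _, c, hc, -, hcC, -⟩ := S4118.result _ B T i hi
  have hcar : SGA3x.IsCartanOver K c := ⟨hc.1, hc.2.1, T, _, i, hi, hc⟩
  obtain ⟨h4, h5, T', _, i', hi', hc'⟩ := hI K G inferInstance B b hb C c hcar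
  obtain ⟨y, hy⟩ := (hc'.2.2 X z).2 (fun X' x t => hz X' x _)
  exact ⟨y ≫ c, by rw [Category.assoc, hy]⟩

/-- solvability passes to surjective images -/
theorem isSolvableGrp_of_surjective {B B' : Over (Spec (CommRingCat.of K))} [GrpObj B] [GrpObj B']
    [LocallyOfFiniteType B.hom] [Smooth B'.hom] (v : B ⟶ B') [IsMonHom v] [Surjective v.left]
    (h : Red.IsSolvableGrp B) : Red.IsSolvableGrp B' := by
  have hsep : IsSeparated B'.hom := Groth.Agent.Localalg.GrpSchComp2.isSeparated_hom B'
  apply Parab.SolvPts172.isSolvableGrp_of_points B'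
  obtain ⟨n, hn⟩ := h
  have : Group.IsSolvable (𝟙S ⟶ B) := ⟨⟨n, hn _⟩⟩
  let f : (𝟙S ⟶ B) →* (𝟙S ⟶ B') :=
    { toFun := fun x => x ≫ v
      map_one' := by rw [MonObj.one_comp]
      map_mul' := fun x y => by rw [MonObj.mul_comp] }
  exact Group.isSolvable_of_surjective (f := f) (fun y => by
    obtain ⟨x, hx⟩ := exists_comp_eq_of_pt_mem_range v y (by rw [Set.range_eq_univ.2 v.left.surjective]; trivial)
    exact ⟨x, hx⟩)

/-- central extensions of solvable groups are solvable -/
theorem isSolvableGrp_of_central {B B' : Over (Spec (CommRingCat.of K))} [GrpObj B] [GrpObj B']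
    [Smooth B.hom] (v : B ⟶ B') [IsMonHom v]
    (hv : ∀ (z g : 𝟙S ⟶ B), z ≫ v = 1 → z * g = g * z)
    (h : Red.IsSolvableGrp B') : Red.IsSolvableGrp B := by
  have hsep : IsSeparated B.hom := Groth.Agent.Localalg.GrpSchComp2.isSeparated_hom B
  apply Parab.SolvPts172.isSolvableGrp_of_points B
  obtain ⟨n, hn⟩ := h
  have : Group.IsSolvable (𝟙S ⟶ B') := ⟨⟨n, hn _⟩⟩
  let f : (𝟙S ⟶ B) →* (𝟙S ⟶ B') :=
    { toFun := fun x => x ≫ v
      map_one' := by rw [MonObj.one_comp]
      map_mul' := fun x y => by rw [MonObj.mul_comp] }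
  have hk : Group.IsSolvable f.ker := Group.isSolvable_of_comm (fun a b => Subtype.ext (hv a.1 b.1 a.2))
  exact Group.isSolvable_of_ker_le_range f.ker.subtype f (by rw [Subgroup.range_subtype])

omit [IsAlgClosed K] in
lemma smooth_of_flat_surjective {B B' : Over (Spec (CommRingCat.of K))} [Smooth B.hom] (v : B ⟶ B')
    [Surjective v.left] [Flat v.left] [LocallyOfFiniteType B'.hom] : Smooth B'.hom := by
  have := Sga3.H799.FibCrit.lfp_left v
  have : Smooth (v.left ≫ B'.hom) := by rw [Over.w]; infer_instance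
  exact S0115.result v.left B'.hom

omit [IsAlgClosed K] in
lemma surjective_of_comp {X Y Z : Over (Spec (CommRingCat.of K))} (f : X ⟶ Y) (g : Y ⟶ Z)
    (h : Surjective (f ≫ g).left) : Surjective g.left := by
  rw [Over.comp_left] at h
  exact Surjective.of_comp f.left g.left

omit [IsAlgClosed K] in
lemma connectedSpace_of_surjective {X Y : Over (Spec (CommRingCat.of K))} (f : X ⟶ Y) [Surjective f.left]
    [ConnectedSpace X.left] : ConnectedSpace Y.left :=
  f.left.surjective.connectedSpace f.left.continuous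

omit [IsAlgClosed K] in
/-- connected groups factor through the neutral component -/
lemma exists_lift_neutral {H U B : Over (Spec (CommRingCat.of K))} [GrpObj H] [GrpObj U] [GrpObj B]
    (u : U ⟶ H) [IsMonHom u] [IsClosedImmersion u.left]
    (hu : Set.range u.left = connectedComponent (pt η[H])) (i : B ⟶ H) [IsMonHom i]
    [Smooth B.hom] [ConnectedSpace B.left] : ∃ f : B ⟶ U, IsMonHom f ∧ f ≫ u = i := by
  have hm : Mono u := Books.AlgPtsGrp.mono_of_isClosedImmersion u
  have hred : IsReduced B.left := Books.AlgPtsSmooth.isReduced_of_smooth B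
  have hrange : Set.range i.left ⊆ Set.range u.left := by
    rw [hu]
    have h1 : _root_.IsPreconnected (Set.range i.left) := isPreconnected_range i.left.continuous
    refine h1.subset_connectedComponent ?_
    have h2 : η[B] ≫ i = η[H] := IsMonHom.one_hom i
    rw [← h2, pt_comp]
    exact ⟨_, rfl⟩
  obtain ⟨f, hf⟩ := exists_lift u i hrange
  have : IsMonHom (f ≫ u) := by rw [hf]; infer_instance
  exact ⟨f, Sga3C.SubGrp.isMonHom_of_comp_mono f u, hf⟩

omit [IsAlgClosed K] in
/-- isomorphism from an isomorphism after a flat surjective quasi-compact base change, given by a lift -/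
lemma isIso_of_lift {X U H : Over (Spec (CommRingCat.of K))} (u : U ⟶ H) [Mono u] (c : X ⟶ H) (t : X ⟶ U)
    (h : t ≫ u = c) (hf : Flat c.left) (hs : Surjective c.left) (hq : QuasiCompact c.left) : IsIso u := by
  have hml : Mono u.left := inferInstanceAs (Mono ((Over.forget _).map u))
  have hl : t.left ≫ u.left = c.left := by rw [← Over.comp_left, h]
  have h1 : IsIso (pullback.fst c.left u.left) := by
    have h2 : IsSplitEpi (pullback.fst c.left u.left) :=
      IsSplitEpi.mk' ⟨pullback.lift (𝟙 _) t.left (by rw [Category.id_comp, hl]), pullback.lift_fst _ _ _⟩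
    exact isIso_of_mono_of_isSplitEpi _
  have h3 : IsIso u.left := MorphismProperty.of_pullback_fst_of_descendsAlong
    (P := MorphismProperty.isomorphisms Scheme) (Q := @Surjective ⊓ @Flat ⊓ @QuasiCompact)
    (f := c.left) (g := u.left) ⟨⟨hs, hf⟩, hq⟩ h1
  have h4 : IsIso ((Over.forget _).map u) := h3
  exact isIso_of_reflects_iso u (Over.forget _)

omit [IsAlgClosed K] in
lemma quasiCompact_left {X Y : Over (Spec (CommRingCat.of K))} [GrpObj Y] [QuasiCompact X.hom] (f : X ⟶ Y) :
    QuasiCompact f.left := by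
  have hsep : IsSeparated Y.hom := Groth.Agent.Localalg.GrpSchComp2.isSeparated_hom Y
  have h1 : QuasiCompact (f.left ≫ Y.hom) := by rw [Over.w]; infer_instance
  exact QuasiCompact.of_comp _ Y.hom

omit [IsAlgClosed K] in
lemma isBorelOver_of_iso {U H G : Over (Spec (CommRingCat.of K))} [GrpObj U] [GrpObj H] [GrpObj G] (e : U ≅ H)
    [IsMonHom e.hom] (h : H ⟶ G) [IsMonHom h] (hb : Red.IsBorelOver K (e.hom ≫ h)) : Red.IsBorelOver K h := by
  have h1 := hb.1
  have h2 := hb.2.1
  have h3 := hb.2.2.1
  have h4 := hb.2.2.2.1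
  have h5 := hb.2.2.2.2.1
  have hel : IsIso e.hom.left := inferInstanceAs (IsIso ((Over.forget _).map e.hom))
  have e1 : h.left = inv e.hom.left ≫ (e.hom ≫ h).left := by rw [Over.comp_left, IsIso.inv_hom_id_assoc]
  have e2 : H.hom = inv e.hom.left ≫ U.hom := by rw [IsIso.eq_inv_comp, Over.w]
  refine ⟨inferInstance, by rw [e1]; infer_instance, by rw [e2]; infer_instance,
    e.hom.left.surjective.connectedSpace e.hom.left.continuous, ?_, ?_⟩
  · obtain ⟨n, hn⟩ := h5
    refine ⟨n, fun X => ?_⟩
    let f : (X ⟶ U) →* (X ⟶ H) :=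
      { toFun := fun x => x ≫ e.hom
        map_one' := by rw [MonObj.one_comp]
        map_mul' := fun x y => by rw [MonObj.mul_comp] }
    have hf : Function.Surjective f := fun y => ⟨y ≫ e.inv, by simp [f]⟩
    rw [← map_derivedSeries_eq hf n, hn, Subgroup.map_bot]
  · intro C _ c _ f hc hs hcon hsol hfc
    have : IsIso (e.hom ≫ f) := hb.2.2.2.2.2 C c (e.hom ≫ f) hc hs hcon hsol (by rw [Category.assoc, hfc])
    exact IsIso.of_isIso_comp_left e.hom f

section main

variable {G G' : Over (Spec (CommRingCat.of K))} [GrpObj G] [GrpObj G'] [Smooth G.hom] [QuasiCompact G.hom]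
  [ConnectedSpace G.left] [Smooth G'.hom] [QuasiCompact G'.hom] (u : G ⟶ G') [IsMonHom u] [Surjective u.left]

/-- **The inverse image of a Borel subgroup is a Borel subgroup.** -/
theorem isBorelOver_preimage (hI : CartIface.{u}) (huf : Flat u.left)
    (hq : ∀ (X : Over (Spec (CommRingCat.of K))) (z g : X ⟶ G), z ≫ u = 1 → z * g = g * z)
    {H B' : Over (Spec (CommRingCat.of K))} [GrpObj H] [GrpObj B'] (b' : B' ⟶ G') (hb' : Red.IsBorelOver K b')
    (h : H ⟶ G) [IsMonHom h] (w : H ⟶ B') (sq : IsPullback h w u b') : Red.IsBorelOver K h := by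
  have h1 := hb'.1
  have h2 := hb'.2.1
  have h3 := hb'.2.2.1
  have h3' := hb'.2.2.2.1
  have hm' : Mono b' := Books.AlgPtsGrp.mono_of_isClosedImmersion b'
  have sql : IsPullback h.left w.left u.left b'.left := sq.map (Over.forget _)
  have h4 : IsClosedImmersion h.left := MorphismProperty.of_isPullback (P := @IsClosedImmersion) sql.flip inferInstance
  have hm : Mono h := Books.AlgPtsGrp.mono_of_isClosedImmersion h
  have h5 : Surjective w.left := MorphismProperty.of_isPullback (P := @Surjective) sql inferInstance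
  have h6 : Flat w.left := MorphismProperty.of_isPullback (P := @Flat) sql inferInstance
  have h7 : LocallyOfFiniteType H.hom := by rw [← Over.w h]; infer_instance
  have h8 : QuasiCompact H.hom := by rw [← Over.w h]; infer_instance
  have h9 : LocallyOfFiniteType B'.hom := by rw [← Over.w b']; infer_instance
  have h10 : QuasiCompact B'.hom := by rw [← Over.w b']; infer_instance
  have hw : IsMonHom w := by
    have : IsMonHom (w ≫ b') := by rw [← sq.w]; infer_instance
    exact Sga3C.SubGrp.isMonHom_of_comp_mono w b'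
  obtain ⟨U, _, v, hv, hvcl, hUsm, hUconn, hvr⟩ := RedIdComp.exists_redIdComp H
  have hvm : Mono v := Books.AlgPtsGrp.mono_of_isClosedImmersion v
  have hUqc : QuasiCompact U.hom := by rw [← Over.w v]; infer_instance
  have hvw : Surjective (v ≫ w).left := NeutSurj.surjective_neutral w v hvr
  have hBred : IsReduced B'.left := Books.AlgPtsSmooth.isReduced_of_smooth B'
  have hBn : IsLocallyNoetherian B'.left := LocallyOfFiniteType.isLocallyNoetherian B'.hom
  have hvwq : QuasiCompact (v ≫ w).left := quasiCompact_left (v ≫ w)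
  have hvwf : Flat (v ≫ w).left := Sga7.H758.FieldHom.flat_of_surjective K (v ≫ w)
  -- `U` is a Borel subgroup
  have hcenU : ∀ (z g : 𝟙S ⟶ U), z ≫ v ≫ w = 1 → z * g = g * z := by
    intro z g hz
    have hz' : (z ≫ v ≫ h) ≫ u = 1 := by
      rw [Category.assoc, Category.assoc, sq.w, ← Category.assoc v, ← Category.assoc z, hz, MonObj.one_comp]
    have := hq _ (z ≫ v ≫ h) (g ≫ v ≫ h) hz'
    rw [← MonObj.mul_comp, ← MonObj.mul_comp] at this
    exact (cancel_mono (v ≫ h)).1 this
  have hUB : Red.IsBorelOver K (v ≫ h) := by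
    refine ⟨inferInstance, by rw [Over.comp_left]; infer_instance, hUsm, hUconn,
      isSolvableGrp_of_central (v ≫ w) hcenU hb'.2.2.2.2.1, ?_⟩
    intro B₁ _ i₁ _ f hi₁ hs₁ hc₁ hsol₁ hf
    have hi₁m : Mono i₁ := Books.AlgPtsGrp.mono_of_isClosedImmersion i₁
    have hq₁ : QuasiCompact B₁.hom := by rw [← Over.w i₁]; infer_instance
    have hqq : QuasiCompact (i₁ ≫ u).left := quasiCompact_left (i₁ ≫ u)
    have hsub1 : Subsingleton (𝟙_ (Over (Spec (CommRingCat.of K)))).left :=
      inferInstanceAs (Subsingleton (PrimeSpectrum K))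
    have hint1 : IsIntegral (𝟙_ (Over (Spec (CommRingCat.of K)))).left :=
      inferInstanceAs (IsIntegral (Spec (CommRingCat.of K)))
    obtain ⟨C, _, p, j, k1, k2, k3, k4, k5, k6, k7⟩ := S3034.result K B₁ G' (i₁ ≫ u) inferInstance
    have hjm : Mono j := Books.AlgPtsGrp.mono_of_isClosedImmersion j
    have hClft : LocallyOfFiniteType C.hom := by rw [← Over.w j]; infer_instance
    have hCsm : Smooth C.hom := smooth_of_flat_surjective p
    have hCcon : ConnectedSpace C.left := connectedSpace_of_surjective p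
    have hCsol : Red.IsSolvableGrp C := isSolvableGrp_of_surjective p hsol₁
    obtain ⟨f', hf'⟩ : ∃ f' : B' ⟶ C, f' ≫ j = b' := by
      refine exists_lift j b' ?_
      rintro _ ⟨y, rfl⟩
      obtain ⟨x, rfl⟩ := (v ≫ w).left.surjective y
      refine ⟨(f ≫ p).left x, ?_⟩
      have e1 : (f ≫ p) ≫ j = (v ≫ w) ≫ b' := by
        rw [Category.assoc, k3, ← Category.assoc, hf, Category.assoc, sq.w, Category.assoc]
      have e2 := congrArg (fun g : U ⟶ G' => g.left x) e1
      simpa only [Over.comp_left, Scheme.Hom.comp_apply] using e2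
    have hiso : IsIso f' := hb'.2.2.2.2.2 C j f' k7 hCsm hCcon hCsol hf'
    let g₁ : B₁ ⟶ H := sq.lift i₁ (p ≫ inv f') (by
      rw [Category.assoc, ← hf', IsIso.inv_hom_id_assoc, k3])
    have hg₁ : g₁ ≫ h = i₁ := sq.lift_fst _ _ _
    have : IsMonHom g₁ := by
      have : IsMonHom (g₁ ≫ h) := by rw [hg₁]; infer_instance
      exact Sga3C.SubGrp.isMonHom_of_comp_mono g₁ h
    obtain ⟨g₂, -, hg₂⟩ := exists_lift_neutral v hvr g₁
    refine ⟨g₂, ?_, ?_⟩
    · rw [← cancel_mono (v ≫ h), Category.assoc, ← Category.assoc g₂, hg₂, hg₁, hf, Category.id_comp]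
    · rw [← cancel_mono i₁, Category.assoc, hf, ← Category.assoc, hg₂, hg₁, Category.id_comp]
  -- `H = U`
  have hcen : ∀ (X : Over (Spec (CommRingCat.of K))) (z : X ⟶ H), z ≫ w = 1 → ∃ y : X ⟶ U, y ≫ v = z := by
    intro X z hz
    obtain ⟨y, hy⟩ := exists_factor_of_central hI (v ≫ h) hUB (z ≫ h) (fun X' x g => hq X' (x ≫ z ≫ h) g (by
      rw [Category.assoc, Category.assoc, sq.w, ← Category.assoc z, hz, MonObj.one_comp, MonObj.comp_one]))
    exact ⟨y, by rw [← cancel_mono h, Category.assoc, hy]⟩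
  have hisov : IsIso v := by
    let X : Over (Spec (CommRingCat.of K)) := Over.mk (pullback.fst w.left (v ≫ w).left ≫ H.hom)
    let c : X ⟶ H := Over.homMk (pullback.fst w.left (v ≫ w).left) rfl
    let y : X ⟶ U := Over.homMk (pullback.snd w.left (v ≫ w).left) (by
      have := pullback.condition (f := w.left) (g := (v ≫ w).left)
      change pullback.snd w.left (v ≫ w).left ≫ U.hom = pullback.fst w.left (v ≫ w).left ≫ H.hom
      rw [← Over.w (v ≫ w), ← Category.assoc, ← this, Category.assoc, Over.w])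
    have hyc : c ≫ w = y ≫ v ≫ w := by
      ext1
      exact pullback.condition
    obtain ⟨n, hn⟩ := hcen X ((y ≫ v)⁻¹ * c) (by
      rw [MonObj.mul_comp, GrpObj.inv_comp, Category.assoc, ← hyc, inv_mul_cancel])
    refine isIso_of_lift v c (y * n) (by rw [MonObj.mul_comp, hn, mul_inv_cancel_left]) ?_ ?_ ?_
    · exact inferInstanceAs (Flat (pullback.fst w.left (v ≫ w).left))
    · exact inferInstanceAs (Surjective (pullback.fst w.left (v ≫ w).left))
    · exact inferInstanceAs (QuasiCompact (pullback.fst w.left (v ≫ w).left))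
  have : IsMonHom (asIso v).hom := hv
  exact isBorelOver_of_iso (asIso v) h hUB

/-- **A subgroup whose inverse image is a Borel subgroup is a Borel subgroup.** -/
theorem isBorelOver_of_preimage (huf : Flat u.left)
    (hq : ∀ (X : Over (Spec (CommRingCat.of K))) (z g : X ⟶ G), z ≫ u = 1 → z * g = g * z)
    {B B' : Over (Spec (CommRingCat.of K))} [GrpObj B] [GrpObj B'] (b : B ⟶ G) (hb : Red.IsBorelOver K b)
    (b' : B' ⟶ G') [IsMonHom b'] (v : B ⟶ B') [IsMonHom v] (sq : IsPullback b v u b') : Red.IsBorelOver K b' := by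
  have h1 := hb.1
  have h2 := hb.2.1
  have h3 := hb.2.2.1
  have h3' := hb.2.2.2.1
  have hm : Mono b := Books.AlgPtsGrp.mono_of_isClosedImmersion b
  have sql : IsPullback b.left v.left u.left b'.left := sq.map (Over.forget _)
  have huq : QuasiCompact u.left := quasiCompact_left u
  have h4 : IsClosedImmersion b'.left :=
    MorphismProperty.of_isPullback_of_descendsAlong (P := @IsClosedImmersion)
      (Q := @Surjective ⊓ @Flat ⊓ @QuasiCompact) sql ⟨⟨inferInstance, huf⟩, huq⟩ h2
  have hm' : Mono b' := Books.AlgPtsGrp.mono_of_isClosedImmersion b'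
  have h5 : Surjective v.left := MorphismProperty.of_isPullback (P := @Surjective) sql inferInstance
  have h6 : Flat v.left := MorphismProperty.of_isPullback (P := @Flat) sql inferInstance
  have h7 : LocallyOfFiniteType B.hom := by rw [← Over.w b]; infer_instance
  have h8 : QuasiCompact B.hom := by rw [← Over.w b]; infer_instance
  have h9 : LocallyOfFiniteType B'.hom := by rw [← Over.w b']; infer_instance
  have h10 : QuasiCompact B'.hom := by rw [← Over.w b']; infer_instance
  have h11 : Smooth B'.hom := smooth_of_flat_surjective v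
  have h12 : ConnectedSpace B'.left := connectedSpace_of_surjective v
  have h13 : Red.IsSolvableGrp B' := isSolvableGrp_of_surjective v hb.2.2.2.2.1
  refine ⟨inferInstance, h4, h11, h12, h13, ?_⟩
  intro B₂ _ b₂ _ f hb₂ hs₂ hc₂ hsol₂ hf
  have hm₂ : Mono b₂ := Books.AlgPtsGrp.mono_of_isClosedImmersion b₂
  have hl₂ : LocallyOfFiniteType B₂.hom := by rw [← Over.w b₂]; infer_instance
  have hqc₂ : QuasiCompact B₂.hom := by rw [← Over.w b₂]; infer_instance
  -- the inverse image of `B₂`
  obtain ⟨H, h, w, sq2⟩ : ∃ (H : Over (Spec (CommRingCat.of K))) (h : H ⟶ G) (w : H ⟶ B₂), IsPullback h w u b₂ :=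
    ⟨_, _, _, IsPullback.of_hasPullback u b₂⟩
  obtain ⟨_, k1, k2⟩ := PbKit.exists_grpObj_pullback u b₂ sq2
  have sql2 : IsPullback h.left w.left u.left b₂.left := sq2.map (Over.forget _)
  have k4 : IsClosedImmersion h.left := MorphismProperty.of_isPullback (P := @IsClosedImmersion) sql2.flip inferInstance
  have hhm : Mono h := Books.AlgPtsGrp.mono_of_isClosedImmersion h
  have k5 : Surjective w.left := MorphismProperty.of_isPullback (P := @Surjective) sql2 inferInstance
  have k7 : LocallyOfFiniteType H.hom := by rw [← Over.w h]; infer_instance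
  have k8 : QuasiCompact H.hom := by rw [← Over.w h]; infer_instance
  obtain ⟨U, _, t, ht, htcl, hUsm, hUconn, htr⟩ := RedIdComp.exists_redIdComp H
  have htm : Mono t := Books.AlgPtsGrp.mono_of_isClosedImmersion t
  have hUqc : QuasiCompact U.hom := by rw [← Over.w t]; infer_instance
  have htw : Surjective (t ≫ w).left := NeutSurj.surjective_neutral w t htr
  have hcenU : ∀ (z g : 𝟙S ⟶ U), z ≫ t ≫ w = 1 → z * g = g * z := by
    intro z g hz
    have hz' : (z ≫ t ≫ h) ≫ u = 1 := by
      rw [Category.assoc, Category.assoc, sq2.w, ← Category.assoc t, ← Category.assoc z, hz, MonObj.one_comp]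
    have := hq _ (z ≫ t ≫ h) (g ≫ t ≫ h) hz'
    rw [← MonObj.mul_comp, ← MonObj.mul_comp] at this
    exact (cancel_mono (t ≫ h)).1 this
  have hUsol : Red.IsSolvableGrp U := isSolvableGrp_of_central (t ≫ w) hcenU hsol₂
  let g₁ : B ⟶ H := sq2.lift b (v ≫ f) (by rw [Category.assoc, hf, sq.w])
  have hg₁ : g₁ ≫ h = b := sq2.lift_fst _ _ _
  have hg₁' : g₁ ≫ w = v ≫ f := sq2.lift_snd _ _ _
  have hg₁m : IsMonHom g₁ := by
    have : IsMonHom (g₁ ≫ h) := by rw [hg₁]; infer_instance
    exact Sga3C.SubGrp.isMonHom_of_comp_mono g₁ h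
  obtain ⟨g₂, hg₂m, hg₂⟩ := exists_lift_neutral t htr g₁
  have hthm : IsMonHom (t ≫ h) := inferInstance
  have hthc : IsClosedImmersion (t ≫ h).left := by rw [Over.comp_left]; infer_instance
  have hiso : IsIso g₂ := hb.2.2.2.2.2 U (t ≫ h) g₂ hthc hUsm hUconn hUsol (by rw [← Category.assoc, hg₂, hg₁])
  have hisol : IsIso g₂.left := inferInstanceAs (IsIso ((Over.forget _).map g₂))
  have hvf : v ≫ f = g₂ ≫ (t ≫ w) := by rw [← Category.assoc, hg₂, hg₁']
  have hs : Surjective f.left := by
    refine surjective_of_comp v f ?_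
    rw [hvf, Over.comp_left]
    infer_instance
  have hcl : IsClosedImmersion f.left := by
    have : IsClosedImmersion (f.left ≫ b₂.left) := by rw [← Over.comp_left, hf]; infer_instance
    exact IsClosedImmersion.of_comp f.left b₂.left
  have hred : IsReduced B₂.left := Books.AlgPtsSmooth.isReduced_of_smooth B₂
  have hfl : IsIso f.left := isIso_of_isClosedImmersion_of_surjective f.left
  have h4 : IsIso ((Over.forget _).map f) := hfl
  exact isIso_of_reflects_iso f (Over.forget _)

end main

end K18.BorelFld
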