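import Groth.Agent.SGA3x.K18.MTDesc
import Groth.Agent.SGA3x.K18.Raw
import Groth.Agent.Sga3.H799.DescSub
import Groth.Agent.Sga3.H829.MultConv
import Groth.Agent.Sga3B.DsBc
import Groth.Agent.Sga3B.BcNat

/-!
# Reductive centres: base change of central homomorphisms and fpqc descent

`Central v`: `v : H ⟶ G` commutes with all points of `G`. `UP z`: every central homomorphism from a group of
multiplicative type over some `S' ⟶ S` factors through `z`. `IsRC z`: `z` is a reductive centre.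
-/

set_option autoImplicit false
universe u
open CategoryTheory MonoidalCategory CartesianMonoidalCategory MonObj GrpObj AlgebraicGeometry Limits

namespace K18.RC

open Groth.Agent.Sga3B Groth.Agent.Sga3B.BcPts Groth.Agent.Sga3B.MT Groth.Agent.Sga3B.RedIso
  Groth.Agent.Sga3B.BcNat K18.Raw K18.MTDesc

variable {S S' : Scheme.{u}}

/-- `v : H ⟶ G` is central -/
def Central {G H : Over S} [GrpObj G] (v : H ⟶ G) : Prop :=
  ∀ (X : Over S) (x : X ⟶ H) (g : X ⟶ G), (x ≫ v) * g = g * (x ≫ v)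

/-- the universal property of the reductive centre -/
def UP {G Z : Over S} [GrpObj G] (z : Z ⟶ G) : Prop :=
  ∀ (S' : Scheme.{u}) (f : S' ⟶ S) (H : Over S') [GrpObj H] (v : H ⟶ Red.bc f G) [IsMonHom v],
    SGA3x.IsMultTypeFT H →
    (∀ (X : Over S') (x : X ⟶ H) (g : X ⟶ Red.bc f G), (x ≫ v) * g = g * (x ≫ v)) →
    ∃ w : H ⟶ Red.bc f Z, w ≫ (Over.pullback f).map z = v

/-- `z : Z ⟶ G` is a reductive centre of `G` -/
def IsRC {G Z : Over S} [GrpObj G] [GrpObj Z] (z : Z ⟶ G) : Prop :=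
  IsMonHom z ∧ Mono z ∧ SGA3x.IsMultTypeFT Z ∧
    (∀ (X : Over S) (x : X ⟶ Z) (g : X ⟶ G), (x ≫ z) * g = g * (x ≫ z)) ∧ UP z

lemma central_bc (f : S' ⟶ S) {G H : Over S} [GrpObj G] {v : H ⟶ G} (hv : Central v) :
    Central ((Over.pullback f).map v) := by
  intro X x g
  apply (bcMulEquiv f X G).symm.injective
  rw [map_mul, map_mul]
  have e : (bcMulEquiv f X G).symm (x ≫ (Over.pullback f).map v) = (bcEquiv f X H).symm x ≫ v :=
    bcEquiv_symm_comp f x v
  rw [e]
  exact hv _ _ _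

lemma central_postcomp {G G' H : Over S} [GrpObj G] [GrpObj G'] {v : H ⟶ G} (hv : Central v)
    (e : Grp.mk G ≅ Grp.mk G') : Central (v ≫ (und e).hom) := by
  intro X x g
  have h := hv X x (g ≫ (und e).inv)
  have h' := congrArg (· ≫ (und e).hom) h
  simp only [MonObj.mul_comp, Category.assoc, Iso.inv_hom_id, Category.comp_id] at h'
  exact h'

lemma central_precomp {G H H' : Over S} [GrpObj G] {v : H ⟶ G} (hv : Central v)
    (e : H' ⟶ H) : Central (e ≫ v) := by
  intro X x g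
  rw [← Category.assoc]
  exact hv _ _ _

lemma fibIso_fst {T T' : Scheme.{u}} {θ : T' ⟶ T} {g : T ⟶ S} {g' : T' ⟶ S'} {f : S' ⟶ S}
    (h : θ ≫ g = g' ≫ f) (G : Over S) [GrpObj G] :
    (und (fibIso h G)).hom.left ≫ pullback.fst (Red.bc g G).hom θ ≫ pullback.fst G.hom g =
      pullback.fst (Red.bc f G).hom g' ≫ pullback.fst G.hom f := by
  simp only [fibIso, und_trans, und_symm, Over.comp_left, Category.assoc]
  rw [DsBc.bcComp_fst, DsBc.bcCongr_fst, ← DsBc.bcComp_fst g' f G, ← Category.assoc, ← Over.comp_left,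
    Iso.inv_hom_id]
  exact Category.id_comp _

/-- If the pull-back of `v` along `a₁` factors through the pull-back of `z'` along `a`, then points of `v` at `a₁` are
points of `z'` at `a`. -/
theorem memAt_of_factor {S₁ : Scheme.{u}} {f : S' ⟶ S} {f₁ : S₁ ⟶ S} {G : Over S} [GrpObj G]
    {Z' : Over S'} {z' : Z' ⟶ Red.bc f G} {H : Over S₁} (v : H ⟶ Red.bc f₁ G)
    {Y : Over S} (a₁ : Y ⟶ Over.mk f₁) (a : Y ⟶ Over.mk f) (h : a.left ≫ f = a₁.left ≫ f₁)
    (w : Red.bc a₁.left H ⟶ Red.bc a.left Z') (hw : w ≫ (Over.pullback a.left).map z' =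
      (Over.pullback a₁.left).map v ≫ (und (fibIso h G)).hom)
    (g : Y ⟶ G) (hg : MemAt v a₁ g) : MemAt z' a g := by
  rw [memAt_iff_raw] at hg ⊢
  obtain ⟨τ, h1, h2⟩ := hg
  let σ : Over.mk (𝟙 Y.left) ⟶ Red.bc a₁.left H :=
    Over.homMk (pullback.lift τ (𝟙 _) (by rw [h1]; exact (Category.id_comp _).symm)) (by
      exact pullback.lift_snd _ _ _)
  have hσ : σ.left ≫ pullback.fst H.hom a₁.left = τ := pullback.lift_fst _ _ _
  refine ⟨(σ ≫ w).left ≫ pullback.fst Z'.hom a.left, ?_, ?_⟩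
  · rw [Category.assoc, pullback.condition, ← Category.assoc]
    have : (σ ≫ w).left ≫ pullback.snd Z'.hom a.left = 𝟙 _ := Over.w (σ ≫ w)
    rw [this]
    exact Category.id_comp _
  · have e1 := map_left_fst (x := a.left) z'
    rw [Category.assoc, ← Category.assoc (pullback.fst Z'.hom a.left), ← e1, Category.assoc,
      ← Category.assoc (σ ≫ w).left, ← Over.comp_left, Category.assoc, hw]
    simp only [Over.comp_left, Category.assoc]
    rw [fibIso_fst, ← Category.assoc ((Over.pullback a₁.left).map v).left, map_left_fst, Category.assoc,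
      ← Category.assoc σ.left, hσ]
    exact h2

lemma left_comp_eq {S₁ : Scheme.{u}} {f : S' ⟶ S} {f₁ : S₁ ⟶ S} {Y : Over S} (a₁ : Y ⟶ Over.mk f₁)
    (a : Y ⟶ Over.mk f) : a.left ≫ f = a₁.left ≫ f₁ := by
  have ha : a.left ≫ f = Y.hom := Over.w a
  have ha₁ : a₁.left ≫ f₁ = Y.hom := Over.w a₁
  exact ha.trans ha₁.symm

/-- **Key lemma**: points of a central homomorphism of multiplicative type are points of a reductive centre. -/
theorem memAt_of_central {S₁ : Scheme.{u}} {f : S' ⟶ S} {f₁ : S₁ ⟶ S} {G : Over S} [GrpObj G]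
    {Z' : Over S'} {z' : Z' ⟶ Red.bc f G} (hz : UP z') {H : Over S₁} [GrpObj H] (v : H ⟶ Red.bc f₁ G) [IsMonHom v]
    (hH : SGA3x.IsMultTypeFT H) (hv : Central v) {Y : Over S} (a₁ : Y ⟶ Over.mk f₁) (a : Y ⟶ Over.mk f)
    (g : Y ⟶ G) (hg : MemAt v a₁ g) : MemAt z' a g := by
  have h := left_comp_eq a₁ a
  obtain ⟨w, hw⟩ := hz Y.left a.left (Red.bc a₁.left H)
    ((Over.pullback a₁.left).map v ≫ (und (fibIso h G)).hom) (isMultTypeFT_bc _ hH)
    (central_postcomp (central_bc a₁.left hv) (fibIso h G))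
  exact memAt_of_factor v a₁ a h w hw g hg

/-- the universal property implies that two pull-backs agree -/
theorem compat_of_up {f : S' ⟶ S} {G : Over S} [GrpObj G] {Z' : Over S'} [GrpObj Z'] {z' : Z' ⟶ Red.bc f G}
    (hz : IsRC z') : Groth.Agent.Sga3.H799.DescSub.Compat z' := by
  intro X a b g hg
  have := hz.1
  exact memAt_of_central hz.2.2.2.2 z' hz.2.2.1 hz.2.2.2.1 a b g hg

lemma bcPt_injective {f : S' ⟶ S} {G : Over S} {X : Over S} (a : X ⟶ Over.mk f) {g g' : X ⟶ G}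
    (h : bcPt a g = bcPt a g') : g = g' := by
  have h1 := (bcEquiv f (Over.mk a.left) G).injective h
  exact (cancel_epi (overIso a).hom).1 h1

/-- centrality can be tested after an fpqc covering -/
theorem central_of_cond (f : S' ⟶ S) [Flat f] [Surjective f] {G P : Over S} [GrpObj G] {Z' : Over S'}
    {z' : Z' ⟶ Red.bc f G} (hz : Central z') (p : P ⟶ G)
    (hP : ∀ (X : Over S) (x : X ⟶ P) (X' : Over S) (h : X' ⟶ X) (a : X' ⟶ Over.mk f), MemAt z' a (h ≫ x ≫ p)) :
    Central p := by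
  intro X x g
  let X' : Over S := Over.mk (pullback.fst X.hom f ≫ X.hom)
  let r : X' ⟶ X := Over.homMk (pullback.fst X.hom f)
  let a : X' ⟶ Over.mk f := Over.homMk (pullback.snd X.hom f) pullback.condition.symm
  have h1 : Flat r.left := inferInstanceAs (Flat (pullback.fst X.hom f))
  have h2 : Surjective r.left := inferInstanceAs (Surjective (pullback.fst X.hom f))
  have h3 : Epi r.left := Flat.epi_of_flat_of_surjective r.left
  have key : r ≫ ((x ≫ p) * g) = r ≫ (g * (x ≫ p)) := by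
    rw [MonObj.comp_mul, MonObj.comp_mul]
    apply bcPt_injective a
    rw [bcPt_mul, bcPt_mul]
    obtain ⟨y, hy⟩ := (memAt_iff z' a (r ≫ x ≫ p)).1 (hP _ x X' r a)
    rw [← hy]
    exact hz _ _ _
  ext1
  rw [← cancel_epi r.left]
  exact congrArg (fun k => k.left) key

lemma isQuasiAffine_of_isAffineHom {X Y : Scheme.{u}} (f : X ⟶ Y) [IsAffineHom f] : Mor2.IsQuasiAffine f := by
  refine ⟨inferInstance, fun O hO => ?_⟩
  have : IsAffine (f ⁻¹ᵁ O : Scheme.{u}) := hO.preimage f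
  infer_instance

/-- **fpqc descent of reductive centres.** -/
theorem exists_isRC (f : S' ⟶ S) [Flat f] [Surjective f]
    (hf : ∀ V : S.Opens, IsAffineOpen V → ∃ W : S'.Opens, IsCompact (W : Set S') ∧
      f.base '' (W : Set S') = (V : Set S)) {G : Over S} [GrpObj G] {Z' : Over S'} [GrpObj Z']
    (z' : Z' ⟶ Red.bc f G) (hz : IsRC z') :
    ∃ (Z : Over S) (_ : GrpObj Z) (z : Z ⟶ G), IsRC z ∧
      ∃ e : Grp.mk Z' ≅ Grp.mk (Red.bc f Z), (und e).hom ≫ (Over.pullback f).map z = z' := by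
  have i1 := hz.1
  have i2 := hz.2.1
  have i3 := Groth.Agent.Sga3.H829.MultConv.isAffineHom_of_isMultTypeFT hz.2.2.1
  obtain ⟨P, _, p, hp, hm, hP, e, he⟩ :=
    Groth.Agent.Sga3.H799.DescSub.exists_subgroup (t := z') (compat_of_up hz) hf (isQuasiAffine_of_isAffineHom _)
  refine ⟨P, inferInstance, p, ⟨hp, hm, ?_, ?_, ?_⟩, e, he⟩
  · exact isMultTypeFT_of_bc f hf (isMultTypeFT_of_iso e hz.2.2.1)
  · exact central_of_cond f hz.2.2.2.1 p fun X x X' h a => (hP _ _).1 ⟨x, rfl⟩ X' h a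
  · intro S₁ f₁ H _ v _ hH hv
    obtain ⟨x, hx⟩ := (hP _ ((bcEquiv f₁ H G).symm v)).2 (fun X' h a =>
      memAt_of_central hz.2.2.2.2 v hH hv (h ≫ MemAt.strHom f₁ H) a _
        (((MemAt.iff_of_over v H v).2 ⟨𝟙 _, Category.id_comp _⟩).comp h))
    refine ⟨bcEquiv f₁ H P x, ?_⟩
    rw [← bcEquiv_comp, hx, Equiv.apply_symm_apply]

end K18.RC
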