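import Groth.Agent.SGA3x.K18.RC
import Groth.Agent.Sga3.H800.FacMain
import Groth.Agent.Sga3.H828.MTGeom
import Groth.Agent.Sga3.H799.Bc

/-!
# fpqc descent of central maximal tori
-/

set_option autoImplicit false
universe u
open CategoryTheory MonoidalCategory CartesianMonoidalCategory MonObj GrpObj AlgebraicGeometry Limits

namespace K18.CentralTor

open Groth.Agent.Sga3B Groth.Agent.Sga3B.BcPts Groth.Agent.Sga3B.MT Groth.Agent.Sga3B.RedIso
  Groth.Agent.Sga3B.BcNat K18.Raw K18.MTDesc K18.RC

variable {S S' : Scheme.{u}}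

/-- two pull-backs of a central maximal torus agree -/
theorem compat {f : S' ⟶ S} {G : Over S} [GrpObj G] [QuasiCompact G.hom] [QuasiSeparated G.hom]
    [LocallyOfFinitePresentation G.hom] {T' : Over S'} [GrpObj T'] {i' : T' ⟶ Red.bc f G}
    (hi : Red.IsMaximalTorus i') (hc : Central i') : Groth.Agent.Sga3.H799.DescSub.Compat i' := by
  intro X a b g hg
  have h := left_comp_eq a b
  have m1 := hi.1
  have m2 := hi.2.1
  have l1 : QuasiCompact (Red.bc b.left (Red.bc f G)).hom :=
    inferInstanceAs (QuasiCompact (pullback.snd (pullback.snd G.hom f) b.left))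
  have l2 : QuasiSeparated (Red.bc b.left (Red.bc f G)).hom :=
    inferInstanceAs (QuasiSeparated (pullback.snd (pullback.snd G.hom f) b.left))
  have l3 : LocallyOfFinitePresentation (Red.bc b.left (Red.bc f G)).hom :=
    inferInstanceAs (LocallyOfFinitePresentation (pullback.snd (pullback.snd G.hom f) b.left))
  have l4 : LocallyOfFiniteType (Red.bc f G).hom :=
    inferInstanceAs (LocallyOfFiniteType (pullback.snd G.hom f))
  have hT := Groth.Agent.Sga3.H799.Bc.isMaximalTorus_bc b.left hi
  have hR := TorusBc.isTorus_bc a.left hi.2.2.1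
  let j : Red.bc a.left T' ⟶ Red.bc b.left (Red.bc f G) :=
    (Over.pullback a.left).map i' ≫ (und (fibIso h G)).hom
  have hcj : Central ((Over.pullback b.left).map i') := central_bc b.left hc
  obtain ⟨w, hw⟩ := Groth.Agent.Sga3.H800.FacMain.exists_factor ((Over.pullback b.left).map i') j hT hR
    (fun X t r => hcj X t (r ≫ j))
  exact memAt_of_factor i' a b h w hw g hg

/-- **fpqc descent of central maximal tori.** -/
theorem exists_maximalTorus (f : S' ⟶ S) [Flat f] [Surjective f]
    (hf : ∀ V : S.Opens, IsAffineOpen V → ∃ W : S'.Opens, IsCompact (W : Set S') ∧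
      f.base '' (W : Set S') = (V : Set S)) {G : Over S} [GrpObj G] [QuasiCompact G.hom] [QuasiSeparated G.hom]
    [LocallyOfFinitePresentation G.hom] {T' : Over S'} [GrpObj T'] {i' : T' ⟶ Red.bc f G}
    (hi : Red.IsMaximalTorus i') (hc : Central i') :
    ∃ (T : Over S) (_ : GrpObj T) (i : T ⟶ G), Red.IsMaximalTorus i ∧ Central i ∧
      (∀ (R : Over S) [GrpObj R] (j : R ⟶ G) [IsMonHom j] [Mono j], Red.IsTorus R → ∃ f : R ⟶ T, f ≫ i = j) := by
  have m1 := hi.1
  have m2 := hi.2.1
  have i3 := TorusAlgClosed.isAffineHom_of_isTorus hi.2.2.1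
  obtain ⟨P, _, p, hp, hm, hP, e, he⟩ :=
    Groth.Agent.Sga3.H799.DescSub.exists_subgroup (t := i') (compat hi hc) hf (isQuasiAffine_of_isAffineHom _)
  have hmax : Red.IsMaximalTorus p := by
    refine Groth.Agent.Sga3.H828.MTGeom.isMaximalTorus_of_fpqcCover f hf p hp hm ?_
    refine AlgBc.isMaximalTorus_of_arrow e (Iso.refl _) ?_ hi
    rw [he]
    exact Category.comp_id _
  have hcen : Central p := central_of_cond f hc p fun X x X' h a => (hP _ _).1 ⟨x, rfl⟩ X' h a
  refine ⟨P, inferInstance, p, hmax, hcen, ?_⟩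
  intro R _ j _ _ hR
  exact Groth.Agent.Sga3.H800.FacMain.exists_factor p j hmax hR (fun X t r => hcen X t (r ≫ j))

end K18.CentralTor
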