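import Groth.Prelude.Def_SGA3x
import Groth.Agent.SGA3x.K18.BorelFld
import Groth.Agent.SGA3x.K18.SubDesc
import Groth.Agent.SGA3x.K18.PbKit
import Groth.Agent.Sga3C.GrpIrr
import Groth.Agent.Sga3.H771.QcDesc

/-!
# Borel subgroups and faithfully flat homomorphisms with central kernel, over any base

The two inputs `BorelFld.CartIface` (part of S8422) and `CentIface` (= S8413) are hypotheses.
-/

set_option autoImplicit false
universe u
open CategoryTheory MonoidalCategory CartesianMonoidalCategory MonObj GrpObj AlgebraicGeometry Limits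

namespace K18.BorelQuot

open Groth.Agent Groth.Agent.Sga3B Groth.Agent.Sga3.H784 K18.BorelFld K18.PbKit

/-- S8413 -/
def CentIface : Prop := ∀ (S : Scheme.{u}) (G : Over S) [GrpObj G]
    [Smooth G.hom] [QuasiCompact G.hom] [QuasiSeparated G.hom] (_ : ∀ s : S, _root_.IsConnected (G.hom.base ⁻¹' {s}))
    (H : Over S) [GrpObj H] [Smooth H.hom] (i : H ⟶ G) [IsMonHom i] [Mono i]
    (_ : ∀ s : S, ConnectedSpace ↥(Red.geomFibre s H).left)
    (_ : ∀ s : S, ∃ (C' : Over (Spec (CommRingCat.of (AlgebraicClosure (S.residueField s))))) (_ : GrpObj C')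
      (c' : C' ⟶ Red.geomFibre s H), SGA3x.IsCartanOver _ (c' ≫ (Over.pullback (Red.geomPt s)).map i))
    (Z : Over S) [GrpObj Z] (z : Z ⟶ G) [IsMonHom z] [Mono z] [Flat Z.hom] [QuasiCompact Z.hom]
    [QuasiSeparated Z.hom] [LocallyOfFinitePresentation Z.hom]
    (_ : ∀ (X : Over S) (x : X ⟶ Z) (g : X ⟶ G), (x ≫ z) * g = g * (x ≫ z)),
    ∃ f : Z ⟶ H, f ≫ i = z

variable {S : Scheme.{u}}

/-- Base changes of a group scheme with connected fibres to fields are connected. -/
lemma connectedSpace_bc (G : Over S) [GrpObj G] [LocallyOfFiniteType G.hom]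
    (hconn : ∀ s : S, _root_.IsConnected (G.hom.base ⁻¹' {s})) {K : Type u} [Field K]
    (p : Spec (CommRingCat.of K) ⟶ S) : ConnectedSpace (Red.bc p G).left := by
  have : GrpObj (Over.mk G.hom) := inferInstanceAs (GrpObj G)
  have h1 : GeometricallyIrreducible G.hom :=
    Sga3C.GrpIrr.geometricallyIrreducible_of_connected_fibres G.hom hconn
  have h2 : IrreducibleSpace ↥(pullback G.hom p) :=
    GeometricallyIrreducible.irreducibleSpace_of_subsingleton (pullback.snd G.hom p)
  exact inferInstanceAs (ConnectedSpace ↥(pullback G.hom p))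

/-- the relative notion of Borel subgroup of the row -/
def IsBor {G B : Over S} [GrpObj G] [GrpObj B] (b : B ⟶ G) : Prop :=
  IsMonHom b ∧ Mono b ∧ Smooth B.hom ∧ QuasiCompact B.hom ∧
      ∀ s : S, Red.IsBorelOver (AlgebraicClosure (S.residueField s)) ((Over.pullback (Red.geomPt s)).map b)

theorem exists_cartan (hI : CartIface.{u}) {K : Type u} [Field K] [IsAlgClosed K]
    {G B : Over (Spec (CommRingCat.of K))} [GrpObj G] [GrpObj B]
    [Smooth G.hom] [QuasiCompact G.hom] [ConnectedSpace G.left] (b : B ⟶ G) (hb : Red.IsBorelOver K b) :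
    ∃ (C : Over (Spec (CommRingCat.of K))) (_ : GrpObj C) (c : C ⟶ B), SGA3x.IsCartanOver K (c ≫ b) := by
  have h1 := hb.1
  have h2 := hb.2.1
  have h3 := hb.2.2.1
  have hsepB : IsSeparated B.hom := Groth.Agent.Localalg.GrpSchComp2.isSeparated_hom B
  have hqcB : QuasiCompact B.hom := by rw [← Over.w b]; infer_instance
  obtain ⟨T, _, i, hi⟩ := NAMain.exists_isMaximalTorus B
  obtain ⟨C, _, c, hc, -, hcC, -⟩ := S4118.result _ B T i hi
  exact ⟨C, _, c, hI K G inferInstance B b hb C c ⟨hc.1, hc.2.1, T, _, i, hi, hc⟩⟩

variable {G G' : Over S} [GrpObj G] [GrpObj G']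
    [Smooth G.hom] [QuasiCompact G.hom] [QuasiSeparated G.hom] [Smooth G'.hom] [QuasiCompact G'.hom] [QuasiSeparated G'.hom]
    (hconn : ∀ s : S, _root_.IsConnected (G.hom.base ⁻¹' {s}))
    (u : G ⟶ G') [IsMonHom u] [Flat u.left] [Surjective u.left]
    (hker : ∀ (X : Over S) (z : X ⟶ G), z ≫ u = 1 → ∀ (X' : Over S) (x : X' ⟶ X) (g : X' ⟶ G),
      (x ≫ z) * g = g * (x ≫ z))

include hconn hker

omit [QuasiSeparated G.hom] in
/-- **The inverse image of a Borel subgroup is a Borel subgroup** -/
theorem isBor_preimage (hI : CartIface.{u}) {B B' : Over S} [GrpObj B] [GrpObj B'] (b' : B' ⟶ G') (hb' : IsBor b')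
    (b : B ⟶ G) [IsMonHom b] (v : B ⟶ B') (sq : IsPullback b v u b') : IsBor b := by
  obtain ⟨h1, h2, h3, h4, h5⟩ := hb'
  have hm : Mono b := MorphismProperty.of_isPullback (P := MorphismProperty.monomorphisms _) sq.flip
    (inferInstanceAs (Mono b'))
  have hulfp := Sga3.H799.FibCrit.lfp_left u
  have huq : QuasiCompact u.left := by
    have : QuasiCompact (u.left ≫ G'.hom) := by rw [Over.w]; infer_instance
    exact QuasiCompact.of_comp _ G'.hom
  have sql : IsPullback b.left v.left u.left b'.left := sq.map (Over.forget _)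
  have hws : Surjective v.left := MorphismProperty.of_isPullback (P := @Surjective) sql inferInstance
  have hwf : Flat v.left := MorphismProperty.of_isPullback (P := @Flat) sql inferInstance
  have hwq : QuasiCompact v.left := MorphismProperty.of_isPullback (P := @QuasiCompact) sql inferInstance
  have hwl : LocallyOfFinitePresentation v.left :=
    MorphismProperty.of_isPullback (P := @LocallyOfFinitePresentation) sql inferInstance
  have hCf : Flat B.hom := by rw [← Over.w v]; infer_instance
  have hCl : LocallyOfFinitePresentation B.hom := by rw [← Over.w v]; infer_instance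
  have hCq : QuasiCompact B.hom := by rw [← Over.w v]; infer_instance
  have hfib : ∀ s : S, Red.IsBorelOver (AlgebraicClosure (S.residueField s)) ((Over.pullback (Red.geomPt s)).map b) := by
    intro s
    let x := Red.geomPt s
    have hG1 : Smooth (Red.bc x G).hom := inferInstanceAs (Smooth (pullback.snd _ _))
    have hG3 : QuasiCompact (Red.bc x G).hom := inferInstanceAs (QuasiCompact (pullback.snd _ _))
    have hG4 := connectedSpace_bc G hconn x
    have hG1 : Smooth (Red.bc x G').hom := inferInstanceAs (Smooth (pullback.snd _ _))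
    have hG3 : QuasiCompact (Red.bc x G').hom := inferInstanceAs (QuasiCompact (pullback.snd _ _))
    have h8 : Surjective ((Over.pullback x).map u).left :=
      MorphismProperty.of_isPullback (Sga3.H798.FpqcIso.isPullback_map_left x u) inferInstance
    have h9 : Flat ((Over.pullback x).map u).left :=
      MorphismProperty.of_isPullback (Sga3.H798.FpqcIso.isPullback_map_left x u) inferInstance
    exact isBorelOver_preimage ((Over.pullback x).map u) hI h9
      (fun X z g hz => central_bc' u hker x X z g hz) ((Over.pullback x).map b') (h5 s)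
      ((Over.pullback x).map b) ((Over.pullback x).map v) (sq.map (Over.pullback x))
  exact ⟨inferInstance, hm, smooth_of_geomFibre fun s => (hfib s).2.2.1, hCq, hfib⟩

/-- **Borel subgroups of `G` are inverse images of Borel subgroups of `G'`** -/
theorem exists_isBor (hI : CartIface.{u}) (hJ : CentIface.{u}) {B : Over S} [GrpObj B] (b : B ⟶ G) (hb : IsBor b) :
    ∃ (B' : Over S) (_ : GrpObj B') (b' : B' ⟶ G') (v : B ⟶ B'), IsBor b' ∧ IsMonHom v ∧ IsPullback b v u b' := by
  obtain ⟨h1, h2, h3, h4, h5⟩ := hb
  have hulfp := Sga3.H799.FibCrit.lfp_left u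
  have huq : QuasiCompact u.left := by
    have : QuasiCompact (u.left ≫ G'.hom) := by rw [Over.w]; infer_instance
    exact QuasiCompact.of_comp _ G'.hom
  have huqs : QuasiSeparated u.left := by
    have : QuasiSeparated (u.left ≫ G'.hom) := by rw [Over.w]; infer_instance
    exact QuasiSeparated.of_comp _ G'.hom
  have hbm : Mono b.left := inferInstance
  have hblf : LocallyOfFiniteType b.left := by
    have : LocallyOfFiniteType (b.left ≫ G.hom) := by rw [Over.w]; infer_instance
    exact locallyOfFiniteType_of_comp _ G.hom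
  have hbq : QuasiCompact b.left := by
    have : QuasiCompact (b.left ≫ G.hom) := by rw [Over.w]; infer_instance
    exact QuasiCompact.of_comp _ G.hom
  -- the kernel
  have hN : ∀ (X : Over S) (z : X ⟶ G), z ≫ u = 1 → ∃ y : X ⟶ B, y ≫ b = z := by
    obtain ⟨Z, z, w, sqz⟩ : ∃ (Z : Over S) (z : Z ⟶ G) (w : Z ⟶ 𝟙_ (Over S)), IsPullback z w u η[G'] :=
      ⟨_, _, _, IsPullback.of_hasPullback u η[G']⟩
    have hηm : Mono η[G'] := ⟨fun _ _ _ => toUnit_unique _ _⟩
    obtain ⟨_, hz, hw⟩ := exists_grpObj_pullback u η[G'] sqz
    have hzm : Mono z := MorphismProperty.of_isPullback (P := MorphismProperty.monomorphisms _) sqz.flip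
      (inferInstanceAs (Mono η[G']))
    have sql : IsPullback z.left w.left u.left η[G'].left := sqz.map (Over.forget _)
    have hwf : Flat w.left := MorphismProperty.of_isPullback (P := @Flat) sql inferInstance
    have hwq : QuasiCompact w.left := MorphismProperty.of_isPullback (P := @QuasiCompact) sql inferInstance
    have hwqs : QuasiSeparated w.left := MorphismProperty.of_isPullback (P := @QuasiSeparated) sql inferInstance
    have hwl : LocallyOfFinitePresentation w.left :=
      MorphismProperty.of_isPullback (P := @LocallyOfFinitePresentation) sql inferInstance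
    have hZ : w.left ≫ (𝟙_ (Over S)).hom = Z.hom := Over.w w
    have hi1 : IsIso (𝟙_ (Over S)).hom := inferInstanceAs (IsIso (𝟙 S))
    have k1 : Flat Z.hom := by rw [← hZ]; infer_instance
    have k2 : QuasiCompact Z.hom := by rw [← hZ]; infer_instance
    have k3 : QuasiSeparated Z.hom := by rw [← hZ]; infer_instance
    have k4 : LocallyOfFinitePresentation Z.hom := by rw [← hZ]; infer_instance
    have hz1 : z ≫ u = 1 := by
      rw [sqz.w, show w = toUnit Z from toUnit_unique _ _]
      rfl
    obtain ⟨f, hf⟩ := hJ S G hconn B b (fun s => (h5 s).2.2.2.1) (fun s => by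
      have hG1 : Smooth (Red.bc (Red.geomPt s) G).hom := inferInstanceAs (Smooth (pullback.snd _ _))
      have hG3 : QuasiCompact (Red.bc (Red.geomPt s) G).hom := inferInstanceAs (QuasiCompact (pullback.snd _ _))
      have hG4 := connectedSpace_bc G hconn (Red.geomPt s)
      exact exists_cartan hI ((Over.pullback (Red.geomPt s)).map b) (h5 s)) Z z (fun X x g => by
        have := hker Z z hz1 X x g
        exact this)
    intro X y hy
    refine ⟨sqz.lift y (toUnit X) (by rw [hy]; rfl) ≫ f, ?_⟩
    rw [Category.assoc, hf, sqz.lift_fst]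
  obtain ⟨B', _, b', v, k1, k2, k3, sq⟩ := SubDesc.exists_subgroup u b
    (Desc.LqfQAff.isQuasiAffine_of_locallyQuasiFinite b.left) hN
  have sql : IsPullback b.left v.left u.left b'.left := sq.map (Over.forget _)
  have hws : Surjective v.left := MorphismProperty.of_isPullback (P := @Surjective) sql inferInstance
  have hwf : Flat v.left := MorphismProperty.of_isPullback (P := @Flat) sql inferInstance
  have hwl : LocallyOfFinitePresentation v.left :=
    MorphismProperty.of_isPullback (P := @LocallyOfFinitePresentation) sql inferInstance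
  have hBsm : Smooth (v.left ≫ B'.hom) := by rw [Over.w]; infer_instance
  have hB'sm : Smooth B'.hom := S0115.result v.left B'.hom
  have hBq : QuasiCompact (v.left ≫ B'.hom) := by rw [Over.w]; infer_instance
  have hB'q : QuasiCompact B'.hom := Sga3.H771.QcDesc.quasiCompact_of_surjective_comp v.left B'.hom
  refine ⟨B', inferInstance, b', v, ⟨k1, k2, hB'sm, hB'q, fun s => ?_⟩, k3, sq⟩
  let x := Red.geomPt s
  have hG1 : Smooth (Red.bc x G).hom := inferInstanceAs (Smooth (pullback.snd _ _))
  have hG3 : QuasiCompact (Red.bc x G).hom := inferInstanceAs (QuasiCompact (pullback.snd _ _))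
  have hG4 := connectedSpace_bc G hconn x
  have hG1 : Smooth (Red.bc x G').hom := inferInstanceAs (Smooth (pullback.snd _ _))
  have hG3 : QuasiCompact (Red.bc x G').hom := inferInstanceAs (QuasiCompact (pullback.snd _ _))
  have h8 : Surjective ((Over.pullback x).map u).left :=
    MorphismProperty.of_isPullback (Sga3.H798.FpqcIso.isPullback_map_left x u) inferInstance
  have h9 : Flat ((Over.pullback x).map u).left :=
    MorphismProperty.of_isPullback (Sga3.H798.FpqcIso.isPullback_map_left x u) inferInstance
  exact isBorelOver_of_preimage ((Over.pullback x).map u) h9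
    (fun X z g hz => central_bc' u hker x X z g hz) ((Over.pullback x).map b) (h5 s)
    ((Over.pullback x).map b') ((Over.pullback x).map v) (sq.map (Over.pullback x))

end K18.BorelQuot
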