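import Groth.Prelude.Def_SGA3x
import Groth.Agent.SGA3x.K18.CentQuot
import Groth.Agent.Sga7.H758.FieldHom
import Groth.Agent.Sga3.H784.NAMain
import Groth.Agent.Sga3.H784.LiftTorus
import Groth.Agent.Sga3.H784.MaxImg
import Groth.Agent.S4118
import Groth.Agent.Sga3.H799.Cart

/-!
# Cartan subgroups and surjective homomorphisms with central kernel, over an algebraically closed field
-/

set_option autoImplicit false
universe u
open CategoryTheory MonoidalCategory CartesianMonoidalCategory MonObj GrpObj AlgebraicGeometry Limits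

namespace K18.CartanFld

open Groth.Agent Groth.Agent.Sga3B Groth.Agent.Sga3.H784

variable {K : Type u} [Field K] [IsAlgClosed K]

/-- Every maximal torus of the target of a surjective homomorphism is the image of a maximal torus. -/
theorem exists_lift_torus {G G' T' : Over (Spec (CommRingCat.of K))} [GrpObj G] [GrpObj G'] [GrpObj T']
    [Smooth G.hom] [QuasiCompact G.hom] [IsSeparated G.hom] [LocallyOfFiniteType G'.hom] (u : G ⟶ G') [IsMonHom u]
    [Surjective u.left] (i' : T' ⟶ G') (hT' : Red.IsMaximalTorus i') :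
    ∃ (T : Over (Spec (CommRingCat.of K))) (_ : GrpObj T) (i : T ⟶ G) (v : T ⟶ T'), Red.IsMaximalTorus i ∧
      IsMonHom v ∧ Surjective v.left ∧ Flat v.left ∧ v ≫ i' = i ≫ u := by
  obtain ⟨T, _, i, hi⟩ := NAMain.exists_isMaximalTorus G
  have := hi.1
  obtain ⟨Q, _, p, j, hQ, hp, hj, hjm, hps, hpf, hpj⟩ := NAMain.exists_image_torus (i ≫ u) hi.2.2.1
  have hj' : Red.IsMaximalTorus j := MaxImg.isMaximalTorus_image u i hi p j hQ hpj
  obtain ⟨g', φ, hφ⟩ := NAMain.exists_conjBy j i' hj' hT'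
  obtain ⟨g, hg⟩ := LiftTorus.exists_lift_of_surjective u g'
  have hφ' : φ.hom ≫ i' = j ≫ (Conj.conjIso g').hom := by rw [← hφ, Conj.comp_conjIso_hom]
  have := hT'.1
  have := hT'.2.1
  have h2 : (p ≫ φ.hom) ≫ i' = (i ≫ (Conj.conjIso g).hom) ≫ u := by
    rw [Conj.conjIso_hom_comp, hg, Category.assoc, hφ', ← hpj, Category.assoc]
  have : IsMonHom (p ≫ φ.hom) := by
    have : IsMonHom ((p ≫ φ.hom) ≫ i') := by rw [h2]; infer_instance
    exact Sga3C.SubGrp.isMonHom_of_comp_mono _ i'
  refine ⟨T, _, i ≫ (Conj.conjIso g).hom, p ≫ φ.hom, Conj.isMaximalTorus_conj i hi g, this, ?_, ?_, h2⟩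
  · rw [Over.comp_left]; infer_instance
  · rw [Over.comp_left]; infer_instance

omit [IsAlgClosed K] in
/-- The centralizer of a maximal torus is closed. -/
theorem isClosedImmersion_of_isCentralizerOf {G T C : Over (Spec (CommRingCat.of K))} [GrpObj G] [GrpObj T] [GrpObj C]
    [Smooth G.hom] [QuasiCompact G.hom] [IsSeparated G.hom] (i : T ⟶ G) (hT : Red.IsMaximalTorus i) (c : C ⟶ G)
    (hc : Red.IsCentralizerOf i c) : IsClosedImmersion c.left := by
  obtain ⟨Z, _, z, hz, hzc, -⟩ := S4118.result _ G T i hT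
  obtain ⟨d, hd⟩ := (hz.2.2 C c).2 ((hc.2.2 C c).1 ⟨𝟙 C, Category.id_comp c⟩)
  have := Sga3.H799.Cart.isIso_of_isCentralizerOf hc hz d hd
  have : IsIso d.left := inferInstanceAs (IsIso ((Over.forget _).map d))
  rw [← hd, Over.comp_left]
  infer_instance

/-- **The inverse image of a Cartan subgroup is a Cartan subgroup**, the kernel being central. -/
theorem isCartanOver_of_isPullback {G G' H C' : Over (Spec (CommRingCat.of K))} [GrpObj G] [GrpObj G']
    [GrpObj H] [GrpObj C'] [Smooth G.hom] [IsSeparated G.hom] [QuasiCompact G.hom]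
    [Smooth G'.hom] [IsSeparated G'.hom] [QuasiCompact G'.hom]
    (u : G ⟶ G') [IsMonHom u] [Surjective u.left]
    (hq : ∀ (X : Over (Spec (CommRingCat.of K))) (z g : X ⟶ G), z ≫ u = 1 → z * g = g * z)
    (c' : C' ⟶ G') (hc' : SGA3x.IsCartanOver K c') (h : H ⟶ G) [IsMonHom h] (w : H ⟶ C')
    (sq : IsPullback h w u c') : SGA3x.IsCartanOver K h := by
  obtain ⟨h1, h2, T', _, i', hi', hcc⟩ := hc'
  obtain ⟨T, _, i, v, hi, hv, hvs, hvf, hvi⟩ := exists_lift_torus u i' hi'
  have := isClosedImmersion_of_isCentralizerOf i' hi' c' hcc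
  have := hi.1
  have := CentQuot.isCentralizerOf u hq i hi.2.2.1 i' v hvi c' hcc h w sq
  exact ⟨inferInstance, this.2.1, T, _, i, hi, this⟩

end K18.CartanFld
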