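import Groth.Prelude.Def_SGA3x
import Groth.Agent.SGA3x.K18.CentQuot
import Groth.Agent.SGA3x.K18.RC
import Groth.Agent.SGA3x.K18.CartanFld
import Groth.Agent.SGA3x.K18.PbKit
import Groth.Agent.Sga7.H758.FieldHom
import Groth.Agent.Sga3.H799.Cart
import Groth.Agent.Sga3B.CentNorm900
import Groth.Agent.Sga3B.SmoothNear
import Groth.Agent.S4118

/-!
# Cartan subgroups and surjective homomorphisms with central kernel, over any base
-/

set_option autoImplicit false
universe u
open CategoryTheory MonoidalCategory CartesianMonoidalCategory MonObj GrpObj AlgebraicGeometry Limits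

namespace K18.CartanQuot

open Groth.Agent Groth.Agent.Sga3B Groth.Agent.Sga3.H799 K18.PbKit

variable {S : Scheme.{u}}

section

variable {G G' : Over S} [GrpObj G] [GrpObj G'] [Smooth G.hom] [IsSeparated G.hom] [QuasiCompact G.hom]
  [Smooth G'.hom] [IsSeparated G'.hom] [QuasiCompact G'.hom] (u : G ⟶ G') [IsMonHom u]

variable {u}

/-- **The inverse image of a Cartan subgroup is a Cartan subgroup** -/
theorem isCartan_of_isPullback
    (hu : ∀ s : S, Surjective ((Over.pullback (Red.geomPt s)).map u).left)
    (hker : KerCentral u) {C C' : Over S} [GrpObj C] [GrpObj C'] (c' : C' ⟶ G') (hc' : SGA3x.IsCartan c')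
    (c : C ⟶ G) [IsMonHom c] (w : C ⟶ C') (sq : IsPullback c w u c') :
    SGA3x.IsCartan c ∧ Surjective w.left ∧ Flat w.left := by
  have h1 := hc'.1
  have h2 := hc'.2.1
  have h3 := hc'.2.2.1
  have hm : Mono c := MorphismProperty.of_isPullback (P := MorphismProperty.monomorphisms _) sq.flip
    (inferInstanceAs (Mono c'))
  have hus := surjective_of_geomPt u hu
  have huf := flat_of_geomPt u hu
  have hulfp := FibCrit.lfp_left u
  have sql : IsPullback c.left w.left u.left c'.left := sq.map (Over.forget _)
  have hws : Surjective w.left := MorphismProperty.of_isPullback (P := @Surjective) sql inferInstance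
  have hwf : Flat w.left := MorphismProperty.of_isPullback (P := @Flat) sql inferInstance
  have hwl : LocallyOfFinitePresentation w.left :=
    MorphismProperty.of_isPullback (P := @LocallyOfFinitePresentation) sql inferInstance
  have hCf : Flat C.hom := by rw [← Over.w w]; infer_instance
  have hCl : LocallyOfFinitePresentation C.hom := by rw [← Over.w w]; infer_instance
  have hfib : ∀ s : S, SGA3x.IsCartanOver (AlgebraicClosure (S.residueField s))
      ((Over.pullback (Red.geomPt s)).map c) := by
    intro s
    let x := Red.geomPt s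
    have hG1 : Smooth (Red.bc x G).hom := inferInstanceAs (Smooth (pullback.snd _ _))
    have hG2 : IsSeparated (Red.bc x G).hom := inferInstanceAs (IsSeparated (pullback.snd _ _))
    have hG3 : QuasiCompact (Red.bc x G).hom := inferInstanceAs (QuasiCompact (pullback.snd _ _))
    have hG1 : Smooth (Red.bc x G').hom := inferInstanceAs (Smooth (pullback.snd _ _))
    have hG2 : IsSeparated (Red.bc x G').hom := inferInstanceAs (IsSeparated (pullback.snd _ _))
    have hG3 : QuasiCompact (Red.bc x G').hom := inferInstanceAs (QuasiCompact (pullback.snd _ _))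
    have : Surjective ((Over.pullback x).map u).left := hu s
    exact CartanFld.isCartanOver_of_isPullback ((Over.pullback x).map u)
      (fun X z g hz => central_bc' u hker x X z g hz) ((Over.pullback x).map c') (hc'.2.2.2 s)
      ((Over.pullback x).map c) ((Over.pullback x).map w) (sq.map (Over.pullback x))
  have hsm : Smooth C.hom := by
    refine smooth_of_geomFibre fun s => ?_
    obtain ⟨h4, h5, T, _, i, hi, hz⟩ := hfib s
    let x := Red.geomPt s
    have hG1 : Smooth (Red.bc x G).hom := inferInstanceAs (Smooth (pullback.snd _ _))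
    have hG2 : IsSeparated (Red.bc x G).hom := inferInstanceAs (IsSeparated (pullback.snd _ _))
    have hG3 : QuasiCompact (Red.bc x G).hom := inferInstanceAs (QuasiCompact (pullback.snd _ _))
    obtain ⟨Z, _, z, hZ, hzc, hzC, -⟩ := S4118.result _ (Red.bc x G) T i hi
    obtain ⟨d, hd⟩ := (hZ.2.2 _ _).2 ((hz.2.2 _ _).1 ⟨𝟙 _, Category.id_comp _⟩)
    have := Cart.isIso_of_isCentralizerOf hz hZ d hd
    have h6 : Smooth Z.hom := hzC.2.2.1
    have : IsIso d.left := inferInstanceAs (IsIso ((Over.forget _).map d))
    change Smooth (Red.bc x C).hom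
    rw [← Over.w d]
    infer_instance
  exact ⟨⟨inferInstance, hm, hsm, hfib⟩, hws, hwf⟩

/-- Cartan subgroups of the target are images -/
theorem exists_of_target
    (hu : ∀ s : S, Surjective ((Over.pullback (Red.geomPt s)).map u).left)
    (hker : KerCentral u) {C' : Over S} [GrpObj C'] (c' : C' ⟶ G') (hc' : SGA3x.IsCartan c') :
    ∃ (C : Over S) (_ : GrpObj C) (c : C ⟶ G) (v : C ⟶ C'), SGA3x.IsCartan c ∧ IsMonHom v ∧
        Surjective v.left ∧ Flat v.left ∧ IsPullback c v u c' := by
  have h1 := hc'.1
  have h2 := hc'.2.1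
  have sq := IsPullback.of_hasPullback u c'
  obtain ⟨_, h3, h4⟩ := exists_grpObj_pullback u c' sq
  obtain ⟨h5, h6, h7⟩ := isCartan_of_isPullback hu hker c' hc' (pullback.fst u c') (pullback.snd u c') sq
  exact ⟨_, inferInstance, _, _, h5, h4, h6, h7, sq⟩

/-- the centralizer of a maximal torus is the inverse image of the centralizer of its image. -/
theorem isPullback_of_isCentralizerOf
    (hu : ∀ s : S, Surjective ((Over.pullback (Red.geomPt s)).map u).left)
    (hker : KerCentral u) {T T' C C' : Over S} [GrpObj T] [GrpObj T'] [GrpObj C] [GrpObj C'] (i : T ⟶ G)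
    (hi : Red.IsMaximalTorus i) (c : C ⟶ G) (hc : Red.IsCentralizerOf i c) (hC : SGA3x.IsCartan c) (i' : T' ⟶ G')
    (hi' : Red.IsMaximalTorus i') (v : T ⟶ T')
    [IsMonHom v] [Surjective v.left] [Flat v.left] (hv : v ≫ i' = i ≫ u)
    (c' : C' ⟶ G') (hc' : Red.IsCentralizerOf i' c') (hC' : SGA3x.IsCartan c') :
    ∃ w : C ⟶ C', IsMonHom w ∧ Surjective w.left ∧ Flat w.left ∧ IsPullback c w u c' := by
  have := hi.1
  have := hi'.1
  have := hc'.1
  have := hc'.2.1
  have := hc.1
  have := hc.2.1
  obtain ⟨P, _, p, w, hp, hw, hws, hwf, sq⟩ := exists_of_target hu hker c' hC'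
  have := hp.1
  have := hp.2.1
  have := hp.2.2.1
  have := hC.2.2.1
  obtain ⟨y, hy⟩ := (hc'.2.2 C (c ≫ u)).2 (CentQuot.Cent.map u i i' v hv (fun X' x t =>
    (hc.2.2 C c).1 ⟨𝟙 C, Category.id_comp c⟩ X' x t))
  let d : C ⟶ P := sq.lift c y hy.symm
  have hd : d ≫ p = c := sq.lift_fst _ _ _
  have hdm : Mono d := by
    have : Mono (d ≫ p) := by rw [hd]; infer_instance
    exact mono_of_mono d p
  have hdi : IsIso d := FibCrit.isIso_of_points d fun s => by
    refine ⟨_, _, Red.geomPt s, Cart.geomPt_closedPoint s, ?_⟩
    let x := Red.geomPt s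
    have hG1 : Smooth (Red.bc x G).hom := inferInstanceAs (Smooth (pullback.snd _ _))
    have hG2 : IsSeparated (Red.bc x G).hom := inferInstanceAs (IsSeparated (pullback.snd _ _))
    have hG3 : QuasiCompact (Red.bc x G).hom := inferInstanceAs (QuasiCompact (pullback.snd _ _))
    have hG1 : Smooth (Red.bc x G').hom := inferInstanceAs (Smooth (pullback.snd _ _))
    have hG2 : IsSeparated (Red.bc x G').hom := inferInstanceAs (IsSeparated (pullback.snd _ _))
    have hG3 : QuasiCompact (Red.bc x G').hom := inferInstanceAs (QuasiCompact (pullback.snd _ _))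
    have : Surjective ((Over.pullback x).map u).left := hu s
    have hcx := SplitBc264.isCentralizerOf_bc x hc
    have hcx' := SplitBc264.isCentralizerOf_bc x hc'
    have h8 : Surjective ((Over.pullback x).map v).left :=
      MorphismProperty.of_isPullback (Sga3.H798.FpqcIso.isPullback_map_left x v) inferInstance
    have h9 : Flat ((Over.pullback x).map v).left :=
      MorphismProperty.of_isPullback (Sga3.H798.FpqcIso.isPullback_map_left x v) inferInstance
    have h10 : IsClosedImmersion ((Over.pullback x).map c').left :=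
      CartanFld.isClosedImmersion_of_isCentralizerOf _ (Bc.isMaximalTorus_bc x hi') _ hcx'
    have h11 := CentQuot.isCentralizerOf ((Over.pullback x).map u)
      (fun X z g hz => central_bc' u hker x X z g hz) ((Over.pullback x).map i)
      (Bc.isMaximalTorus_bc x hi).2.2.1 ((Over.pullback x).map i') ((Over.pullback x).map v)
      (by rw [← Functor.map_comp, hv, Functor.map_comp]) ((Over.pullback x).map c') hcx'
      ((Over.pullback x).map p) ((Over.pullback x).map w) (sq.map (Over.pullback x))
    exact Cart.isIso_of_isCentralizerOf hcx h11 ((Over.pullback x).map d) (by rw [← Functor.map_comp, hd])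
  have hyw : d ≫ w = y := sq.lift_snd _ _ _
  have hdl : IsIso d.left := inferInstanceAs (IsIso ((Over.forget _).map d))
  have hym : IsMonHom y := by
    have : IsMonHom (y ≫ c') := by rw [hy]; infer_instance
    exact Sga3C.SubGrp.isMonHom_of_comp_mono y c'
  refine ⟨y, hym, ?_, ?_, ?_⟩
  · rw [← hyw, Over.comp_left]; infer_instance
  · rw [← hyw, Over.comp_left]; infer_instance
  · refine sq.of_iso (asIso d).symm (Iso.refl _) (Iso.refl _) (Iso.refl _) ?_ ?_ ?_ ?_
    · simp [← hd]
    · simp [← hyw]
    · simp
    · simp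

end

end K18.CartanQuot
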