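import Groth.Agent.SGA3x.K16.NilRank
import Groth.Agent.SGA3x.K16.NormMain
import Groth.Agent.SGA3x.K20.GeomIrr
import Groth.Agent.Sga3.H832.Asm4144
import Groth.Agent.Sga3.H803.CartBcAny
import Groth.Agent.FlatA.EtaleSections
import Groth.Agent.S4118

/-!
# Maximal tori, étale locally, in a smooth subgroup containing Cartan subgroups

S8443 from S8442.
-/

set_option autoImplicit false
universe u
open CategoryTheory MonoidalCategory CartesianMonoidalCategory MonObj GrpObj AlgebraicGeometry Limits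

namespace K18.MaxTorLoc

open Groth.Agent Groth.Agent.Sga3B Groth.Agent.Sga3B.BcPts Groth.Agent.Sga3B.IsoFam Groth.Agent.Sga3B.BcNat
  Groth.Agent.Sga3B.RedIso Groth.Agent.Sga3B.AlgBc

/-- The first part of the statement of S8442. -/
def Iface : Prop := ∀ (S : Scheme.{u}) (G : Over S) [GrpObj G]
    [Smooth G.hom] [QuasiCompact G.hom] [QuasiSeparated G.hom] (_ : ∀ s : S, _root_.IsConnected (G.hom.base ⁻¹' {s}))
    (H : Over S) [GrpObj H] [Smooth H.hom] (i : H ⟶ G) [IsMonHom i] [Mono i]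
    (_ : ∀ s : S, ConnectedSpace ↥(Red.geomFibre s H).left)
    (_ : ∀ s : S, ∃ (C' : Over (Spec (CommRingCat.of (AlgebraicClosure (S.residueField s))))) (_ : GrpObj C')
      (c' : C' ⟶ Red.geomFibre s H), SGA3x.IsCartanOver _ (c' ≫ (Over.pullback (Red.geomPt s)).map i))
    (C : Over S) [GrpObj C] (c : C ⟶ G) (_ : SGA3x.IsCartan c),
    ∃ (M : Over S) (m : M ⟶ G), IsClosedImmersion m.left ∧ Smooth M.hom ∧ Surjective M.hom ∧
      ∀ (X : Over S) (g : X ⟶ G), (∃ z : X ⟶ M, z ≫ m = g) ↔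
        ∀ (X' : Over S) (x : X' ⟶ X) (y : X' ⟶ C), ∃ h : X' ⟶ H, (x ≫ g) * (y ≫ c) * (x ≫ g)⁻¹ = h ≫ i

variable {S : Scheme.{u}}

/-- Base changes of groups with connected fibres have connected fibres. -/
theorem isConnected_fibre_bc {S' : Scheme.{u}} (f : S' ⟶ S) (G : Over S) [GrpObj G] [LocallyOfFiniteType G.hom]
    (hconn : ∀ s : S, _root_.IsConnected (G.hom.base ⁻¹' {s})) (s' : S') :
    _root_.IsConnected ((Red.bc f G).hom.base ⁻¹' {s'}) := by
  have h0 : GeometricallyIrreducible G.hom :=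
    @Groth.Agent.Sga3C.GrpIrr.geometricallyIrreducible_of_connected_fibres _ _ G.hom _
      (inferInstanceAs (GrpObj G)) hconn
  have h1 : GeometricallyIrreducible (Red.bc f G).hom :=
    MorphismProperty.pullback_snd (P := @GeometricallyIrreducible) _ _ inferInstance
  have h2 : IrreducibleSpace ((Red.bc f G).hom.fiber s') := inferInstance
  have h3 : Set.range ((Red.bc f G).hom.fiberι s') = (Red.bc f G).hom.base ⁻¹' {s'} :=
    (Red.bc f G).hom.range_fiberι s'
  rw [← h3]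
  exact isConnected_range ((Red.bc f G).hom.fiberι s').continuous

theorem connectedSpace_geomFibre_bc {S' : Scheme.{u}} (f : S' ⟶ S) (H : Over S) [Smooth H.hom]
    (h : ∀ s : S, ConnectedSpace ↥(Red.geomFibre s H).left) (s' : S') :
    ConnectedSpace ↥(Red.geomFibre s' (Red.bc f H)).left := by
  have h1 := K20.GeomIrr.geomIrr H h
  have h2 : GeometricallyIrreducible (Red.bc f H).hom :=
    MorphismProperty.pullback_snd (P := @GeometricallyIrreducible) _ _ inferInstance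
  have h3 : IrreducibleSpace ↥(pullback (Red.bc f H).hom (Red.geomPt s')) :=
    GeometricallyIrreducible.irreducibleSpace_of_subsingleton (pullback.snd (Red.bc f H).hom (Red.geomPt s'))
  exact inferInstanceAs (ConnectedSpace ↥(pullback (Red.bc f H).hom (Red.geomPt s')))

/-- Base change of the condition that the geometric fibres contain Cartan subgroups. -/
theorem exists_cartan_bc {S' : Scheme.{u}} (f : S' ⟶ S) {G H : Over S} [GrpObj G] [GrpObj H] [LocallyOfFiniteType G.hom]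
    (i : H ⟶ G) [IsMonHom i]
    (h : ∀ s : S, ∃ (C' : Over (Spec (CommRingCat.of (AlgebraicClosure (S.residueField s))))) (_ : GrpObj C')
      (c' : C' ⟶ Red.geomFibre s H), SGA3x.IsCartanOver _ (c' ≫ (Over.pullback (Red.geomPt s)).map i)) (s' : S') :
    ∃ (C' : Over (Spec (CommRingCat.of (AlgebraicClosure (S'.residueField s'))))) (_ : GrpObj C')
      (c' : C' ⟶ Red.geomFibre s' (Red.bc f H)),
      SGA3x.IsCartanOver _ (c' ≫ (Over.pullback (Red.geomPt s')).map ((Over.pullback f).map i)) := by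
  obtain ⟨θ, hh⟩ := MaxTorBc636.exists_geomPt f s'
  obtain ⟨C', _, c', hc'⟩ := h (f s')
  have hlft : LocallyOfFiniteType (Red.geomFibre (f s') G).hom :=
    inferInstanceAs (LocallyOfFiniteType (pullback.snd G.hom (Red.geomPt (f s'))))
  have h5 := Sga3.H803.CartBcAny.isCartanOver_bc θ hc'
  refine ⟨Red.bc θ C', inferInstance, (Over.pullback θ).map c' ≫ (und (fibIso hh H).symm).hom, ?_⟩
  refine Sga3.H803.CartBc.isCartanOver_of_arrow (Iso.refl (Grp.mk (Red.bc θ C'))) (fibIso hh G).symm ?_ h5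
  rw [Functor.map_comp, Category.assoc, fib_arrow hh i]
  exact (Category.id_comp _).symm

/-- A maximal torus of the ambient group lying in a subgroup is a maximal torus of the subgroup. -/
theorem isMaximalTorus_of_comp {T B G : Over S} [GrpObj T] [GrpObj B] [GrpObj G] (iB : B ⟶ G) [IsMonHom iB] [Mono iB]
    (t : T ⟶ B) (ht : Red.IsMaximalTorus (t ≫ iB)) : Red.IsMaximalTorus t := by
  obtain ⟨h1, h2, h3, h4⟩ := ht
  have h5 : IsMonHom t := MaxTorusCrit.isMonHom_of_comp_mono t iB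
  refine ⟨h5, mono_of_mono t iB, h3, fun s T₁ _ j _ _ f hT₁ hf => ?_⟩
  refine h4 s T₁ (j ≫ (Over.pullback (Red.geomPt s)).map iB) f hT₁ ?_
  rw [← Category.assoc, hf, Functor.map_comp]

/-- Smooth surjective morphisms have sections étale locally. -/
theorem exists_etale_section {X : Scheme.{u}} (p : X ⟶ S) [Smooth p] [Surjective p] :
    ∃ (S' : Scheme.{u}) (f : S' ⟶ S), Etale f ∧ Surjective f ∧ ∃ σ : S' ⟶ X, σ ≫ p = f := by
  choose V v x hv hx σ hσ using fun s : S => Groth.Agent.FlatA.EtaleSections.exists_section p s (p.surjective s)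
  refine ⟨∐ V, Sigma.desc v, ?_, ⟨fun s => ⟨Sigma.ι V s (x s), ?_⟩⟩, Sigma.desc σ, ?_⟩
  · exact IsZariskiLocalAtSource.sigmaDesc (P := @Etale) hv
  · rw [← Scheme.Hom.comp_apply, Sigma.ι_desc, hx]
  · apply Sigma.hom_ext
    intro s
    rw [← Category.assoc, Sigma.ι_desc, Sigma.ι_desc, hσ]

section conj

variable {G : Over S} [GrpObj G] (e : 𝟙_ (Over S) ⟶ G)

/-- conjugation by a section -/
noncomputable def inn : G ⟶ G := (toUnit G ≫ e) * 𝟙 G * (toUnit G ≫ e)⁻¹

lemma comp_inn {X : Over S} (x : X ⟶ G) : x ≫ inn e = (toUnit X ≫ e) * x * (toUnit X ≫ e)⁻¹ := by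
  rw [inn, MonObj.comp_mul, MonObj.comp_mul, GrpObj.comp_inv, Category.comp_id, ← Category.assoc,
    toUnit_unique (x ≫ toUnit G) (toUnit X)]

lemma inn_inn_inv : inn e ≫ inn e⁻¹ = 𝟙 G := by
  rw [comp_inn, inn, GrpObj.comp_inv]
  group

lemma inn_inv_inn : inn e⁻¹ ≫ inn e = 𝟙 G := by
  have := inn_inn_inv e⁻¹
  rwa [_root_.inv_inv] at this

/-- conjugation as an isomorphism -/
@[simps] noncomputable def innIso : G ≅ G := ⟨inn e, inn e⁻¹, inn_inn_inv e, inn_inv_inn e⟩

lemma isMonHom_inn : IsMonHom (inn e) := IsoFam.isMonHom_of_mul _ fun X x y => by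
  rw [comp_inn, comp_inn, comp_inn]
  group

theorem isMaximalTorus_comp_inn {T : Over S} [GrpObj T] (t : T ⟶ G) (h : Red.IsMaximalTorus t) :
    Red.IsMaximalTorus (t ≫ inn e) := by
  have : IsMonHom (innIso e).hom := isMonHom_inn e
  refine AlgBc.isMaximalTorus_of_arrow (Iso.refl _) (Grp.mkIso' (innIso e)) ?_ h
  exact (Category.id_comp _).symm

end conj

theorem key (hI : Iface.{u}) {G : Over S} [GrpObj G]
    [Smooth G.hom] [QuasiCompact G.hom] [QuasiSeparated G.hom] (hconn : ∀ s : S, _root_.IsConnected (G.hom.base ⁻¹' {s}))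
    {H : Over S} [GrpObj H] [Smooth H.hom] (i : H ⟶ G) [IsMonHom i] [Mono i]
    (hHconn : ∀ s : S, ConnectedSpace ↥(Red.geomFibre s H).left)
    (hHC : ∀ s : S, ∃ (C' : Over (Spec (CommRingCat.of (AlgebraicClosure (S.residueField s))))) (_ : GrpObj C')
      (c' : C' ⟶ Red.geomFibre s H), SGA3x.IsCartanOver _ (c' ≫ (Over.pullback (Red.geomPt s)).map i))
    {T : Over S} [GrpObj T] (t : T ⟶ G) (hT : Red.IsMaximalTorus t) :
    ∃ (S' : Scheme.{u}) (f : S' ⟶ S), Etale f ∧ Surjective f ∧ ∃ j : Red.bc f T ⟶ Red.bc f H, Red.IsMaximalTorus j := by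
  have hsep : IsSeparated G.hom := Sga3.H832.Asm4144.isSeparated_of_connected G hconn
  obtain ⟨C, _, c, -, -, hcart, t', ht', -⟩ := S4118.result S G T t hT
  obtain ⟨M, m, hm, hM1, hM2, hMp⟩ := hI S G hconn H i hHconn hHC C c hcart
  obtain ⟨S', f, hf, hf', σ, hσ⟩ := exists_etale_section M.hom
  let z : Over.mk f ⟶ M := Over.homMk σ hσ
  obtain ⟨h, hh⟩ := (hMp (Over.mk f) (z ≫ m)).1 ⟨z, rfl⟩ _ (st (T := Over.mk f) (Red.bc f T))
    ((bcEquiv f _ T).symm (𝟙 (Red.bc f T)) ≫ t')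
  refine ⟨S', f, hf, hf', bcEquiv f _ H h, isMaximalTorus_of_comp ((Over.pullback f).map i) _ ?_⟩
  let e : 𝟙_ (Over S') ⟶ Red.bc f G := bcEquiv f _ G (st (T := Over.mk f) (𝟙_ (Over S')) ≫ z ≫ m)
  have he : toUnit (Red.bc f T) ≫ e = bcEquiv f _ G (st (T := Over.mk f) (Red.bc f T) ≫ z ≫ m) := by
    change _ ≫ bcEquiv f _ G _ = _
    rw [← comp_bcEquiv, ← Category.assoc]
    congr 2
  have e2 : bcMulEquiv f (Red.bc f T) G (((bcEquiv f _ T).symm (𝟙 (Red.bc f T)) ≫ t') ≫ c) = (Over.pullback f).map t := by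
    change bcEquiv f _ G _ = _
    rw [Category.assoc, ht', bcEquiv_comp, Equiv.apply_symm_apply, Category.id_comp]
  have key : bcEquiv f _ H h ≫ (Over.pullback f).map i = (Over.pullback f).map t ≫ inn e := by
    rw [← bcEquiv_comp, ← hh, comp_inn, he, ← e2]
    change bcMulEquiv f _ G _ = bcMulEquiv f _ G _ * bcMulEquiv f _ G _ * (bcMulEquiv f _ G _)⁻¹
    rw [map_mul, map_mul, map_inv]
  rw [key]
  exact isMaximalTorus_comp_inn e _ (AlgBc.isMaximalTorus_bc f hT)

theorem isMaximalTorus_comp_bcCompIso {S₁ S₂ : Scheme.{u}} (g : S₂ ⟶ S₁) (f : S₁ ⟶ S) {H : Over S} [GrpObj H]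
    {T : Over S₂} [GrpObj T] (j : T ⟶ Red.bc g (Red.bc f H)) (h : Red.IsMaximalTorus j) :
    Red.IsMaximalTorus (j ≫ (und (BcIso.bcCompIso g f H).symm).hom) :=
  AlgBc.isMaximalTorus_of_arrow (Iso.refl _) (BcIso.bcCompIso g f H).symm (Category.id_comp _).symm h

section main

variable (hI : Iface.{u}) {G : Over S} [GrpObj G]
    [Smooth G.hom] [QuasiCompact G.hom] [QuasiSeparated G.hom] (hconn : ∀ s : S, _root_.IsConnected (G.hom.base ⁻¹' {s}))
    {H : Over S} [GrpObj H] [Smooth H.hom] (i : H ⟶ G) [IsMonHom i] [Mono i]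
    (hHconn : ∀ s : S, ConnectedSpace ↥(Red.geomFibre s H).left)
    (hHC : ∀ s : S, ∃ (C' : Over (Spec (CommRingCat.of (AlgebraicClosure (S.residueField s))))) (_ : GrpObj C')
      (c' : C' ⟶ Red.geomFibre s H), SGA3x.IsCartanOver _ (c' ≫ (Over.pullback (Red.geomPt s)).map i))

include hI hconn hHconn hHC

theorem exists_etale {S₁ : Scheme.{u}} (f : S₁ ⟶ S) {T : Over S₁} [GrpObj T] (t : T ⟶ Red.bc f G) (hT : Red.IsMaximalTorus t) :
    ∃ (S₂ : Scheme.{u}) (g : S₂ ⟶ S₁), Etale g ∧ Surjective g ∧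
      ∃ (T' : Over S₂) (_ : GrpObj T') (j : T' ⟶ Red.bc (g ≫ f) H), Red.IsMaximalTorus j := by
  have h1 : Smooth (Red.bc f G).hom := inferInstanceAs (Smooth (pullback.snd G.hom f))
  have h2 : QuasiCompact (Red.bc f G).hom := inferInstanceAs (QuasiCompact (pullback.snd G.hom f))
  have h3 : QuasiSeparated (Red.bc f G).hom := inferInstanceAs (QuasiSeparated (pullback.snd G.hom f))
  have h4 : Smooth (Red.bc f H).hom := inferInstanceAs (Smooth (pullback.snd H.hom f))
  obtain ⟨S₂, g, hg, hg', j, hj⟩ := key hI (isConnected_fibre_bc f G hconn) ((Over.pullback f).map i)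
    (connectedSpace_geomFibre_bc f H hHconn) (exists_cartan_bc f i hHC) t hT
  exact ⟨S₂, g, hg, hg', _, inferInstance, _, isMaximalTorus_comp_bcCompIso g f j hj⟩

theorem etale (h : SGA3x.HasMaxTorusEtaleLocally G) : SGA3x.HasMaxTorusEtaleLocally H := by
  obtain ⟨S₁, f, hf, hf', T, _, t, ht⟩ := h
  obtain ⟨S₂, g, hg, hg', T', _, j, hj⟩ := exists_etale hI hconn i hHconn hHC f t ht
  exact ⟨S₂, g ≫ f, inferInstance, inferInstance, T', inferInstance, j, hj⟩

theorem fpqc (h : SGA3x.HasMaxTorusFpqcLocally G) : SGA3x.HasMaxTorusFpqcLocally H := by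
  obtain ⟨S₁, f, hf, hf', hc, T, _, t, ht⟩ := h
  obtain ⟨S₂, g, hg, hg', T', _, j, hj⟩ := exists_etale hI hconn i hHconn hHC f t ht
  refine ⟨S₂, g ≫ f, inferInstance, inferInstance, fun V hV => ?_, T', inferInstance, j, hj⟩
  obtain ⟨W, hW, hWV⟩ := hc V hV
  obtain ⟨W', hW', hWW'⟩ := AlgBc.qc_cover_of_isCompact g (AlgBc.qc_cover_of_isOpenMap g g.isOpenMap) W hW
  refine ⟨W', hW', ?_⟩
  have e : (g ≫ f).base = f.base ∘ g.base := by ext x; simp
  rw [e, Set.image_comp, hWW', hWV]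

end main

end K18.MaxTorLoc
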