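import Mathlib

/-!
# Compatible families of measures closed under Hadamard factorisation

`C` a ring, `J` a nilpotent ideal, `Γ` a set with a separating tower of quotients `π k : Γ ⟶ Q k`.  Let `ρ k c : Q k →₀ C` be
a compatible family of finitely supported functions for each `c : R` such that every `c : R` is a finite sum of Hadamard
products of elements of `R` and is finitely supported modulo `J`.  Then every `c : R` comes from a finitely supported
function on `Γ`.
-/

set_option autoImplicit false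

open Finsupp

namespace K18.Hada

section supp

variable {C Γ Q Q' : Type*} [AddCommMonoid C]

/-- A finitely supported function supported in `f '' F` comes from one supported in `F`. -/
lemma exists_mapDomain_eq (f : Γ → Q) (F : Finset Γ) (c : Q →₀ C) (hc : (c.support : Set Q) ⊆ f '' F) :
    ∃ b : Γ →₀ C, (b.support : Set Γ) ⊆ F ∧ mapDomain f b = c := by
  classical
  have h : ∀ x : c.support, ∃ g ∈ F, f g = x := fun x => by
    obtain ⟨g, hg, hgx⟩ := hc x.2
    exact ⟨g, hg, hgx⟩
  choose s hs hs' using h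
  refine ⟨∑ x : c.support, single (s x) (c x), ?_, ?_⟩
  · intro g hg
    by_contra hgF
    apply (Finsupp.mem_support_iff.mp hg)
    rw [Finsupp.finsetSum_apply]
    refine Finset.sum_eq_zero fun x _ => ?_
    rw [Finsupp.single_apply, if_neg]
    rintro rfl
    exact hgF (hs x)
  · rw [Finsupp.mapDomain_finsetSum]
    simp only [mapDomain_single, hs']
    rw [Finset.sum_coe_sort c.support (fun a => single a (c a))]
    exact c.sum_single

end supp

variable {C : Type*} [CommRing C]

lemma mapDomain_mem {A B : Type*} (I : Ideal C) (f : A → B) (c : A →₀ C) (hc : ∀ a, c a ∈ I) (b : B) :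
    mapDomain f c b ∈ I := by
  classical
  rw [mapDomain, Finsupp.sum, Finsupp.finsetSum_apply]
  refine Ideal.sum_mem _ fun a _ => ?_
  rw [Finsupp.single_apply]
  split_ifs
  · exact hc a
  · exact I.zero_mem

lemma mapDomain_sub_mem {A B : Type*} (I : Ideal C) (f : A → B) (c c' : A →₀ C) (hc : ∀ a, c a - c' a ∈ I) (b : B) :
    mapDomain f c b - mapDomain f c' b ∈ I := by
  have h := mapDomain_mem I f (c - c') (fun a => by rw [Finsupp.sub_apply]; exact hc a) b
  have h1 : mapDomain f (c - c') = mapDomain f c - mapDomain f c' :=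
    map_sub (mapDomain.addMonoidHom f) c c'
  rwa [h1, Finsupp.sub_apply] at h

/-- A function with values in `C` is congruent modulo `I` to its restriction to a set outside of which it lies in `I`. -/
lemma exists_restrict {A B : Type*} (I : Ideal C) (f : A → B) (F : Finset A) (c : B →₀ C)
    (hc : ∀ b, b ∉ f '' F → c b ∈ I) : ∃ a : A →₀ C, (a.support : Set A) ⊆ F ∧ ∀ b, c b - mapDomain f a b ∈ I := by
  classical
  obtain ⟨a, ha, ha'⟩ := exists_mapDomain_eq f F (c.filter (fun b => b ∈ f '' (F : Set A))) (by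
    intro b hb
    by_contra hb'
    exact Finsupp.mem_support_iff.mp hb (Finsupp.filter_apply_neg _ _ hb'))
  refine ⟨a, ha, fun b => ?_⟩
  rw [ha']
  by_cases hb : b ∈ f '' (F : Set A)
  · rw [Finsupp.filter_apply_pos _ _ hb, sub_self]
    exact I.zero_mem
  · rw [Finsupp.filter_apply_neg _ _ hb, sub_zero]
    exact hc b hb

/-- uniqueness of lifts supported in `F`, modulo `I` -/
lemma sub_mem_of_injOn {A B : Type*} (I : Ideal C) (f : A → B) (F : Finset A) (hF : Set.InjOn f F)
    (a a' : A →₀ C) (ha : (a.support : Set A) ⊆ F) (ha' : (a'.support : Set A) ⊆ F)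
    (h : ∀ b, mapDomain f a b - mapDomain f a' b ∈ I) (x : A) : a x - a' x ∈ I := by
  classical
  by_cases hx : x ∈ F
  · have key : ∀ d : A →₀ C, (d.support : Set A) ⊆ F → mapDomain f d (f x) = d x := by
      intro d hd
      exact mapDomain_apply' _ d hd hF hx
    rw [← key a ha, ← key a' ha']
    exact h _
  · have h1 : a x = 0 := by
      by_contra h1
      exact hx (ha (Finsupp.mem_support_iff.mpr h1))
    have h2 : a' x = 0 := by
      by_contra h2
      exact hx (ha' (Finsupp.mem_support_iff.mpr h2))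
    rw [h1, h2, sub_self]
    exact I.zero_mem

lemma mapDomain_eq_zero_of_notMem {A B : Type*} (f : A → B) (F : Finset A) (a : A →₀ C) (ha : (a.support : Set A) ⊆ F)
    (b : B) (hb : b ∉ f '' F) : mapDomain f a b = 0 := by
  classical
  by_contra h
  have h1 := mapDomain_support (Finsupp.mem_support_iff.mpr h)
  obtain ⟨x, hx, rfl⟩ := Finset.mem_image.mp h1
  exact hb ⟨x, ha hx, rfl⟩

section main

variable {Γ : Type*} {Q : ℕ → Type*} (π : ∀ k, Γ → Q k) (tr : ∀ k l : ℕ, k ≤ l → Q l → Q k)
  (htr : ∀ k l h g, tr k l h (π l g) = π k g) (hsep : ∀ F : Finset Γ, ∃ k, ∀ l, k ≤ l → Set.InjOn (π l) F)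
  {R : Type*} (ρ : ∀ k, R → (Q k →₀ C)) (hρ : ∀ k l h c, mapDomain (tr k l h) (ρ l c) = ρ k c)
  (hΔ : ∀ c, ∃ s : Finset (R × R), ∀ k g, ρ k c g = ∑ p ∈ s, ρ k p.1 g * ρ k p.2 g)

include htr hsep hρ hΔ

/-- the inductive step -/
theorem step (I : Ideal C) (h0 : ∀ c, ∃ b : Γ →₀ C, ∀ k g, ρ k c g - mapDomain (π k) b g ∈ I) (c : R) :
    ∃ b : Γ →₀ C, ∀ k g, ρ k c g - mapDomain (π k) b g ∈ I * I := by
  classical
  obtain ⟨s, hs⟩ := hΔ c
  choose b hb using h0
  let F : Finset Γ := s.biUnion fun p => (b p.1).support ∪ (b p.2).support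
  have hbF : ∀ p ∈ s, ((b p.1).support : Set Γ) ⊆ F := by
    intro p hp g hg
    exact Finset.mem_biUnion.mpr ⟨p, hp, Finset.mem_union_left _ hg⟩
  have hdF : ∀ p ∈ s, ((b p.2).support : Set Γ) ⊆ F := by
    intro p hp g hg
    exact Finset.mem_biUnion.mpr ⟨p, hp, Finset.mem_union_right _ hg⟩
  have h1 : ∀ k g, g ∉ π k '' F → ρ k c g ∈ I * I := by
    intro k g hg
    rw [hs]
    refine Ideal.sum_mem _ fun p hp => Ideal.mul_mem_mul ?_ ?_
    · have := hb p.1 k g
      rwa [mapDomain_eq_zero_of_notMem (π k) F (b p.1) (hbF p hp) g hg, sub_zero] at this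
    · have := hb p.2 k g
      rwa [mapDomain_eq_zero_of_notMem (π k) F (b p.2) (hdF p hp) g hg, sub_zero] at this
  choose a ha ha' using fun k => exists_restrict (I * I) (π k) F (ρ k c) (h1 k)
  obtain ⟨k₀, hk₀⟩ := hsep F
  have hcomp : ∀ k l (h : k ≤ l) (z : Γ →₀ C), mapDomain (tr k l h) (mapDomain (π l) z) = mapDomain (π k) z := by
    intro k l h z
    rw [← mapDomain_comp]
    congr 1
    funext g
    exact htr k l h g
  -- the restrictions agree for `l ≥ k₀`
  have h2 : ∀ l (_ : k₀ ≤ l) g, a l g - a k₀ g ∈ I * I := by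
    intro l hl g
    refine sub_mem_of_injOn (I * I) (π k₀) F (hk₀ k₀ le_rfl) _ _ (ha l) (ha k₀) (fun q => ?_) g
    have e1 := mapDomain_sub_mem (I * I) (tr k₀ l hl) _ _ (ha' l) q
    rw [hcomp, hρ] at e1
    have e2 := ha' k₀ q
    have := (I * I).sub_mem e2 e1
    rwa [sub_sub_sub_cancel_left] at this
  refine ⟨a k₀, fun k g => ?_⟩
  let l := max k k₀
  have h3 : ∀ g, ρ l c g - mapDomain (π l) (a k₀) g ∈ I * I := by
    intro g
    have e1 := ha' l g
    have e2 := mapDomain_sub_mem (I * I) (π l) _ _ (h2 l (le_max_right _ _)) g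
    have := (I * I).add_mem e1 e2
    rwa [sub_add_sub_cancel] at this
  have h4 := mapDomain_sub_mem (I * I) (tr k l (le_max_left _ _)) _ _ h3 g
  rwa [hcomp, hρ] at h4

/-- **Main lemma**. -/
theorem exists_finite (J : Ideal C) (hJ : IsNilpotent J)
    (h0 : ∀ c, ∃ b : Γ →₀ C, ∀ k g, ρ k c g - mapDomain (π k) b g ∈ J) (c : R) :
    ∃ b : Γ →₀ C, ∀ k, ρ k c = mapDomain (π k) b := by
  have h : ∀ n : ℕ, ∀ c, ∃ b : Γ →₀ C, ∀ k g, ρ k c g - mapDomain (π k) b g ∈ J ^ (2 ^ n) := by
    intro n
    induction n with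
    | zero => simpa using h0
    | succ n hn =>
      intro c
      have := step π tr htr hsep ρ hρ hΔ _ hn c
      rwa [← pow_add, ← two_mul, ← pow_succ'] at this
  obtain ⟨n, hn⟩ := hJ
  obtain ⟨b, hb⟩ := h n c
  refine ⟨b, fun k => Finsupp.ext fun g => ?_⟩
  have h1 : J ^ (2 ^ n) ≤ ⊥ := by
    rw [← Ideal.zero_eq_bot, ← hn]
    exact Ideal.pow_le_pow_right (Nat.lt_two_pow_self).le
  exact sub_eq_zero.mp (by simpa using h1 (hb k g))

end main

end K18.Hada
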