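import Groth.Agent.Fga.HenselDVR
import Groth.Agent.Sga3.H826.DvrExt
import Groth.Agent.Biell.K440.CompleteDvr
import Groth.Agent.Sga3.H832.ValExt
import Groth.Prelude.Def_Neron

/-!
# Traits through a specialization which split a torus

`S` a locally noetherian scheme, `t ⤳ s` a specialization with `t ≠ s`, `T` a torus over the residue field of `t`. There is a
complete discrete valuation ring `V` with algebraically closed residue field and a morphism `Spec V ⟶ S` with
generic point over `t` and closed point over `s` such that `T` is split over the fraction field of `V`.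
-/

set_option autoImplicit false
universe u
open CategoryTheory MonoidalCategory CartesianMonoidalCategory MonObj GrpObj AlgebraicGeometry Limits IsLocalRing

namespace K18.StrDvr

open Groth.Agent Groth.Agent.Sga3B

lemma exists_factor {S : Scheme.{u}} {L : Type u} [Field L] (f : Spec (CommRingCat.of L) ⟶ S) {s : S}
    (h : f (closedPoint L) = s) : ∃ g : Spec (CommRingCat.of L) ⟶ Spec (S.residueField s),
      g ≫ S.fromSpecResidueField s = f := by
  subst h
  exact ⟨_, Scheme.descResidueField_stalkClosedPointTo_fromSpecResidueField L S f⟩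

/-- A torus over a field is split by a finite extension. -/
theorem exists_finite_split {K : Type u} [Field K] {T : Over (Spec (CommRingCat.of K))} [GrpObj T] (hT : Red.IsTorus T) :
    ∃ (L : Type u) (_ : Field L) (_ : Algebra K L) (_ : FiniteDimensional K L) (r : ℕ),
      Red.IsSplitTorusWith (Fin r → ℤ) (Red.bc (Spec.map (CommRingCat.ofHom (algebraMap K L))) T) := by
  obtain ⟨B, _, v, r, hv, ⟨p, -⟩, ⟨e⟩⟩ := TorusEtLoc920.exists_etale_split T hT (closedPoint K)
  have hne : Nonempty (Spec (CommRingCat.of B)) := ⟨p⟩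
  obtain ⟨L, _, _, _, q, hq⟩ := Fga.HenselDVR.exists_finite_point v
  refine ⟨L, inferInstance, inferInstance, inferInstance, r, ⟨?_⟩⟩
  exact BcIso.bcCongrIso hq.symm T ≪≫ BcIso.bcCompIso q v T ≪≫ BcIso.bcMapIso q e ≪≫ TorusAlgClosed.dsBcIso q _

theorem closedPoint_map {A B : Type u} [CommRing A] [CommRing B] [IsLocalRing A] [IsLocalRing B] (φ : A →+* B)
    [IsLocalHom φ] : Spec.map (CommRingCat.ofHom φ) (closedPoint B) = closedPoint A := by
  apply PrimeSpectrum.ext
  ext x
  change φ x ∈ maximalIdeal B ↔ x ∈ maximalIdeal A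
  rw [mem_maximalIdeal, mem_maximalIdeal, mem_nonunits_iff, mem_nonunits_iff, isUnit_map_iff]

theorem exists_frac_map {A B K L : Type u} [CommRing A] [IsDomain A] [CommRing B] [IsDomain B] [Field K] [Field L]
    [Algebra A K] [Algebra B L] [IsFractionRing A K] [IsFractionRing B L] (f : A →+* B)
    (hf : Function.Injective f) : ∃ χ : K →+* L, χ.comp (algebraMap A K) = (algebraMap B L).comp f := by
  have hinj : Function.Injective ((algebraMap B L).comp f) := (IsFractionRing.injective B L).comp hf
  refine ⟨IsFractionRing.lift (A := A) (K := K) hinj, ?_⟩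
  refine RingHom.ext fun x => ?_
  exact IsFractionRing.lift_algebraMap hinj x

theorem exists_trait {S : Scheme.{u}} [IsLocallyNoetherian S] {t s : S} (hts : t ⤳ s) (hne : s ≠ t)
    (T : Over (Spec (S.residueField t))) [GrpObj T] (hT : Red.IsTorus T) :
    ∃ (V : Type u) (_ : CommRing V) (_ : IsDomain V) (_ : IsDiscreteValuationRing V) (_ : HenselianLocalRing V)
      (_ : IsAlgClosed (ResidueField V)) (g : Spec (CommRingCat.of V) ⟶ S)
      (h : Spec (CommRingCat.of (FractionRing V)) ⟶ Spec (S.residueField t))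
      (c : Spec (CommRingCat.of (ResidueField V)) ⟶ Spec (S.residueField s)) (r : ℕ),
      h ≫ S.fromSpecResidueField t = Neron.genPt V ≫ g ∧
      c ≫ S.fromSpecResidueField s = Spec.map (CommRingCat.ofHom (residue V)) ≫ g ∧
      Red.IsSplitTorusWith (Fin r → ℤ) (Red.bc h T) := by
  obtain ⟨C, _, _, _, _, g₀, hg₀, hgen⟩ := K440.CompleteDvr.exists_dvr hts hne
  let K := FractionRing C
  obtain ⟨h₀, hh₀⟩ := exists_factor (Spec.map (CommRingCat.ofHom (algebraMap C K)) ≫ g₀)
    (hgen K (algebraMap C K) (IsFractionRing.injective C K))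
  obtain ⟨L, _, _, _, r, ⟨e⟩⟩ := exists_finite_split (TorusBc.isTorus_bc h₀ hT)
  obtain ⟨V₁, _, _, _, _, φ, ψ, hφ, hφi, hψ⟩ := Fga.HenselDVR.exists_henselian_dvr_ext C K L
  obtain ⟨V, _, _, _, _, hVc, hVa, hVl, hVf⟩ := Sga3.H826.DvrExt.exists_complete V₁
  have hH : HenselianLocalRing V := Fga.HenselDVR.henselianLocalRing_of_henselianRing V
  have hff : Module.FaithfullyFlat V₁ V := Module.FaithfullyFlat.of_flat_of_isLocalHom
  have hinj : Function.Injective (algebraMap V₁ V) := FaithfulSMul.algebraMap_injective V₁ V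
  obtain ⟨χ, hχ⟩ := exists_frac_map (K := FractionRing V₁) (L := FractionRing V) (algebraMap V₁ V) hinj
  let g : Spec (CommRingCat.of V) ⟶ S := Spec.map (CommRingCat.ofHom ((algebraMap V₁ V).comp φ)) ≫ g₀
  have hg : g (closedPoint V) = s := by
    have : IsLocalHom ((algebraMap V₁ V).comp φ) := inferInstance
    rw [Scheme.Hom.comp_apply, closedPoint_map]
    exact hg₀
  have hgc : (Spec.map (CommRingCat.ofHom (residue V)) ≫ g) (closedPoint (ResidueField V)) = s := by
    rw [Scheme.Hom.comp_apply, closedPoint_map]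
    exact hg
  obtain ⟨c, hc⟩ := exists_factor _ hgc
  let ℓ : Spec (CommRingCat.of (FractionRing V)) ⟶ Spec (CommRingCat.of L) := Spec.map (CommRingCat.ofHom (χ.comp ψ))
  refine ⟨V, inferInstance, inferInstance, inferInstance, hH, hVa, g,
    (ℓ ≫ Spec.map (CommRingCat.ofHom (algebraMap K L))) ≫ h₀, c, r, ?_, hc, ?_⟩
  · rw [Category.assoc, hh₀, ← Category.assoc]
    change ((Spec.map _ ≫ Spec.map _) ≫ Spec.map _) ≫ g₀ = Spec.map _ ≫ Spec.map _ ≫ g₀
    rw [← Category.assoc, ← Spec.map_comp, ← Spec.map_comp, ← Spec.map_comp, ← CommRingCat.ofHom_comp,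
      ← CommRingCat.ofHom_comp, ← CommRingCat.ofHom_comp]
    congr 3
    have h1 : ((χ.comp ψ).comp (algebraMap K L)).comp (algebraMap C K) = χ.comp ((ψ.comp (algebraMap K L)).comp (algebraMap C K)) := rfl
    rw [RingHom.comp_assoc] at h1
    refine h1.trans ?_
    rw [← hψ, ← RingHom.comp_assoc, hχ]
    rfl
  · exact ⟨BcIso.bcCompIso (ℓ ≫ Spec.map (CommRingCat.ofHom (algebraMap K L))) h₀ T ≪≫
      BcIso.bcCompIso ℓ (Spec.map (CommRingCat.ofHom (algebraMap K L))) (Red.bc h₀ T) ≪≫
      BcIso.bcMapIso ℓ e ≪≫ TorusAlgClosed.dsBcIso ℓ _⟩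

end K18.StrDvr
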