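import Groth.Agent.SGA3x.K18.TorHomDesc
import Groth.Agent.Sga3B.BorLoc613

/-!
# Subtori of the fibres over a strictly henselian base

`A` a noetherian strictly henselian local ring, `G` an `A`-group of finite type, `m k : M k ⟶ G` a coherent family of subgroups
of multiplicative type such that in every fibre there is a subtorus `T_s` of `G_s` with `q^k`-torsion `(M k)_s`. Then there
are `r` and a coherent system of isomorphisms `D((ℤ/q^k)^r) ≅ M k` such that all the `T_s` come from compatible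
monomorphisms `D(ℤ^r)_s ⟶ G_s`.
-/

set_option autoImplicit false
universe u
open CategoryTheory MonoidalCategory CartesianMonoidalCategory MonObj GrpObj AlgebraicGeometry Limits IsLocalRing

namespace K18.StrLoc

open Groth.Agent Groth.Agent.Sga3B Groth.Agent.Sga3B.BcPts Groth.Agent.Sga3B.RedIso Groth.Agent.Sga3B.BcNat
  K13.NTorsion K211.TorsQ Groth.Agent.Sga3.H786.TCAff K18.TorTrait K18.StrSplit K18.TorSpec

/-- Tori over a strictly henselian local ring are split. -/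
theorem exists_split_torus {R : Type u} [CommRing R] [HenselianLocalRing R] [IsSepClosed (ResidueField R)]
    {T : Over (Spec (CommRingCat.of R))} [GrpObj T] (hT : Red.IsTorus T) :
    ∃ r : ℕ, Red.IsSplitTorusWith (Fin r → ℤ) T := by
  obtain ⟨B, _, v, r, hv, ⟨p, hp⟩, ⟨e⟩⟩ := TorusEtLoc920.exists_etale_split T hT (closedPoint R)
  obtain ⟨t, ht, -⟩ := Pi1C.StrictHensPoint.exists_lift_of_etale v p R (𝟙 _) (by rw [hp]; rfl)
  exact ⟨r, ⟨(BcIso.bcIdIso T).symm ≪≫ BcIso.bcCongrIso ht.symm T ≪≫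
    BcIso.bcCompIso t v T ≪≫ BcIso.bcMapIso t e ≪≫ TorusAlgClosed.dsBcIso t _⟩⟩

lemma isSepClosed_of_equiv {k K : Type u} [Field k] [Field K] [IsSepClosed k] (e : k ≃+* K) : IsSepClosed K := by
  refine ⟨fun p hp => ?_⟩
  have h1 : (p.map e.symm.toRingHom).Splits := IsSepClosed.splits_of_separable _ hp.map
  have h2 := h1.map e.toRingHom
  rw [Polynomial.map_map] at h2
  have h3 : e.toRingHom.comp e.symm.toRingHom = RingHom.id K := RingHom.ext fun x => e.apply_symm_apply x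
  rwa [h3, Polynomial.map_id] at h2

theorem exists_split_torus_field {K : Type u} [Field K] [IsSepClosed K]
    {T : Over (Spec (CommRingCat.of K))} [GrpObj T] (hT : Red.IsTorus T) :
    ∃ r : ℕ, Red.IsSplitTorusWith (Fin r → ℤ) T := by
  let e : K ≃+* ResidueField K := RingEquiv.ofBijective (residue K) ⟨(residue K).injective, residue_surjective⟩
  have h1 : IsSepClosed (ResidueField K) := isSepClosed_of_equiv e
  exact exists_split_torus hT

section chart

variable {A : Type u} [CommRing A] [HenselianLocalRing A] [IsSepClosed (ResidueField A)] {R' : Type u} [CommRing R']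
  [IsLocalRing R'] (v : Spec (CommRingCat.of R') ⟶ Spec (CommRingCat.of A)) {r q : ℕ}

/-- A parametrization of the torsion after a local base change comes from the base. -/
theorem exists_theta {n : ℕ} {L : Over (Spec (CommRingCat.of A))} [GrpObj L] (hL : SGA3x.IsMultTypeFT L)
    (g : Red.bc v L ⟶ Red.bc v (Red.DS (Spec (CommRingCat.of A)) (Fin r → ℤ)))
    (hg : IsTors n g) : ∃ θ : Red.DS (Spec (CommRingCat.of A)) (Fin r → ZMod n) ≅ L, IsMonHom θ.hom ∧ IsMonHom θ.inv ∧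
      (Over.pullback v).map θ.hom ≫ g = (Over.pullback v).map (Red.DSmap _ (cz r n)) := by
  obtain ⟨N, _, hN, ⟨e⟩⟩ := exists_split hL
  obtain ⟨t, h1, h2, h3, h4⟩ := exists_iso_tors ((isTors_cz (S := Spec (CommRingCat.of A)) r n).bc v) hg
  have e0 : Grp.mk (Red.DS (Spec (CommRingCat.of A)) (Fin r → ZMod n)) ≅ Grp.mk (Red.DS (Spec (CommRingCat.of A)) (Fin r → ZMod n)) :=
    Iso.refl _
  obtain ⟨a, ha, ha'⟩ := exists_lift v e0 e t.hom
  obtain ⟨b, hb, hb'⟩ := exists_lift v e e0 t.inv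
  refine ⟨⟨a, b, ?_, ?_⟩, ha, hb, by rw [ha', h3]⟩
  · refine hom_ext v e0 e0 _ _ ?_
    rw [Functor.map_comp, ha', hb', Iso.hom_inv_id]
    exact (CategoryTheory.Functor.map_id _ _).symm
  · refine hom_ext v e e _ _ ?_
    rw [Functor.map_comp, ha', hb', Iso.inv_hom_id]
    exact (CategoryTheory.Functor.map_id _ _).symm

/-- Coherent parametrizations of the torsion. -/
theorem exists_chart {G : Over (Spec (CommRingCat.of A))} [GrpObj G]
    (M : ℕ → Over (Spec (CommRingCat.of A))) (grp : ∀ k, GrpObj (M k))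
    (m : ∀ k, M k ⟶ G) (hm : ∀ k, IsMonHom (m k) ∧ Mono (m k) ∧ SGA3x.IsMultTypeFT (M k))
    (hcoh : ∀ j k : ℕ, j ≤ k → ∃ f : M j ⟶ M k, f ≫ m k = m j)
    (φ : Red.bc v (Red.DS (Spec (CommRingCat.of A)) (Fin r → ℤ)) ⟶ Red.bc v G)
    (hφm : Mono φ) (hφ : ∀ k, ∃ g : Red.bc v (M k) ⟶ Red.bc v (Red.DS (Spec (CommRingCat.of A)) (Fin r → ℤ)),
      IsTors (q ^ k) g ∧ g ≫ φ = (Over.pullback v).map (m k)) :
    ∃ θ : ∀ k, Red.DS (Spec (CommRingCat.of A)) (Fin r → ZMod (q ^ k)) ≅ M k,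
      (∀ k, IsMonHom (θ k).hom) ∧ (∀ k, IsMonHom (θ k).inv) ∧
      (∀ j k (h : j ≤ k), Red.DSmap (Spec (CommRingCat.of A)) (tz r (pow_dvd_pow q h)) ≫ (θ k).hom ≫ m k =
        (θ j).hom ≫ m j) ∧
      ∀ k, (Over.pullback v).map (Red.DSmap _ (cz r (q ^ k))) ≫ φ = (Over.pullback v).map ((θ k).hom ≫ m k) := by
  have i1 := fun k => (hm k).1
  have i2 := fun k => (hm k).2.1
  choose g hg hgφ using hφ
  choose θ hθ hθ' hθg using fun k => exists_theta v (hm k).2.2 (g k) (hg k)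
  refine ⟨θ, hθ, hθ', fun j k h => ?_, fun k => ?_⟩
  · obtain ⟨f, hf⟩ := hcoh j k h
    have hfm : IsMonHom f := K388.SubDescGrp.isMonHom_of_comp f (m k) (by rw [hf]; exact i1 j)
    have hfg : (Over.pullback v).map f ≫ g k = g j := by
      rw [← cancel_mono φ, Category.assoc, hgφ, hgφ, ← Functor.map_comp, hf]
    obtain ⟨N, _, hN, ⟨e⟩⟩ := exists_split (hm k).2.2
    have e0 : Grp.mk (Red.DS (Spec (CommRingCat.of A)) (Fin r → ZMod (q ^ j))) ≅
        Grp.mk (Red.DS (Spec (CommRingCat.of A)) (Fin r → ZMod (q ^ j))) := Iso.refl _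
    have htz : IsMonHom (Red.DSmap (Spec (CommRingCat.of A)) (tz r (pow_dvd_pow q h))) :=
      K197.TorChart.isMonHom_DSmap _ _
    have key : Red.DSmap (Spec (CommRingCat.of A)) (tz r (pow_dvd_pow q h)) ≫ (θ k).hom = (θ j).hom ≫ f := by
      refine hom_ext v e0 e _ _ ?_
      have i3 := (hg k).mono
      rw [← cancel_mono (g k), Functor.map_comp, Functor.map_comp, Category.assoc, Category.assoc, hθg, hfg, hθg,
        ← Functor.map_comp, K7.DSProp.DSmap_comp, tz_comp_cz]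
    rw [← Category.assoc, key, Category.assoc, hf]
  · rw [Functor.map_comp, ← hgφ k, ← Category.assoc, hθg]

end chart

section hasF

variable {S S' S'' : Scheme.{u}} {q r : ℕ} {G : Over S} [GrpObj G]

/-- A monomorphism `D(ℤ^r)_{S'} ⟶ G_{S'}` with given values on the torsion. -/
def HasF (q r : ℕ) (u : ∀ k : ℕ, Red.DS S (Fin r → ZMod (q ^ k)) ⟶ G) (v : S' ⟶ S) : Prop :=
  ∃ F : Red.bc v (Red.DS S (Fin r → ℤ)) ⟶ Red.bc v G, IsMonHom F ∧ Mono F ∧
    ∀ k, (Over.pullback v).map (Red.DSmap S (cz r (q ^ k))) ≫ F = (Over.pullback v).map (u k)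

variable {u : ∀ k : ℕ, Red.DS S (Fin r → ZMod (q ^ k)) ⟶ G}

lemma ds_nat (v : S' ⟶ S) {M N : Type} [AddCommGroup M] [AddCommGroup N] (φ : N →+ M) :
    (Over.pullback v).map (Red.DSmap S φ) ≫ (und (TorusAlgClosed.dsBcIso v N)).hom =
      (und (TorusAlgClosed.dsBcIso v M)).hom ≫ Red.DSmap S' φ := BorLoc613.dsBcIso_naturality v φ

lemma ds_nat_inv (v : S' ⟶ S) {M N : Type} [AddCommGroup M] [AddCommGroup N] (φ : N →+ M) :
    (und (TorusAlgClosed.dsBcIso v M)).inv ≫ (Over.pullback v).map (Red.DSmap S φ) =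
      Red.DSmap S' φ ≫ (und (TorusAlgClosed.dsBcIso v N)).inv := by
  rw [Iso.inv_comp_eq, ← Category.assoc, ← ds_nat, Category.assoc, Iso.hom_inv_id, Category.comp_id]

theorem HasF.comp {v : S' ⟶ S} (h : HasF q r u v) (w : S'' ⟶ S') : HasF q r u (w ≫ v) := by
  obtain ⟨F, h1, h2, h3⟩ := h
  have i1 := isMonHom_und (BcIso.bcCompIso w v (Red.DS S (Fin r → ℤ)))
  have i2 := isMonHom_und_inv (BcIso.bcCompIso w v G)
  refine ⟨(und (BcIso.bcCompIso w v (Red.DS S (Fin r → ℤ)))).hom ≫ (Over.pullback w).map F ≫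
    (und (BcIso.bcCompIso w v G)).inv, inferInstance, inferInstance, fun k => ?_⟩
  rw [← Category.assoc, ← comp_nat, Category.assoc, ← Category.assoc ((Over.pullback w).map _), ← Functor.map_comp, h3,
    ← Category.assoc, comp_nat, Category.assoc, Iso.hom_inv_id, Category.comp_id]

/-- Descent along an fpqc covering. -/
theorem HasF.descend (hq : 1 < q) {v : S' ⟶ S} {w : S'' ⟶ S'} [Flat w] [Surjective w] [QuasiCompact w]
    (h : HasF q r u (w ≫ v)) : HasF q r u v := by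
  obtain ⟨F, h1, h2, h3⟩ := h
  have i1 := isMonHom_und_inv (BcIso.bcCompIso w v (Red.DS S (Fin r → ℤ)))
  have i2 := isMonHom_und (BcIso.bcCompIso w v G)
  let F' : Red.bc w (Red.bc v (Red.DS S (Fin r → ℤ))) ⟶ Red.bc w (Red.bc v G) :=
    (und (BcIso.bcCompIso w v (Red.DS S (Fin r → ℤ)))).inv ≫ F ≫ (und (BcIso.bcCompIso w v G)).hom
  have i3 : IsMonHom F' := inferInstance
  have i4 : Mono F' := inferInstance
  have hcz : ∀ k, (Over.pullback w).map ((Over.pullback v).map (Red.DSmap S (cz r (q ^ k)))) ≫ F' =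
      (Over.pullback w).map ((Over.pullback v).map (u k)) := by
    intro k
    change (Over.pullback w).map ((Over.pullback v).map (Red.DSmap S (cz r (q ^ k)))) ≫
      (und (BcIso.bcCompIso w v (Red.DS S (Fin r → ℤ)))).inv ≫ F ≫ (und (BcIso.bcCompIso w v G)).hom = _
    rw [← Category.assoc, ← comp_nat_inv, Category.assoc, ← Category.assoc ((Over.pullback (w ≫ v)).map _), h3,
      ← comp_nat, Iso.inv_hom_id_assoc]
  obtain ⟨F₀, hF₀, hF₀'⟩ := TorHomDesc.exists_hom hq w (T := Red.bc v (Red.DS S (Fin r → ℤ))) (G := Red.bc v G)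
    ⟨TorusAlgClosed.dsBcIso v _⟩ F' (fun k => ⟨_, inferInstance, _, _, (isTors_cz r (q ^ k)).bc v, hcz k⟩)
  refine ⟨F₀, hF₀, ⟨fun {X} a b hab => ?_⟩, fun k => ?_⟩
  · refine K9.CentDesc.hom_ext_of_cover w (qc_cover w) ?_
    rw [← cancel_mono F', ← hF₀', ← Functor.map_comp, ← Functor.map_comp, hab]
  · refine K9.CentDesc.hom_ext_of_cover w (qc_cover w) ?_
    rw [Functor.map_comp, hF₀', hcz]

/-- The values on the torsion after base change. -/
noncomputable def bcU (v : S' ⟶ S) (u : ∀ k : ℕ, Red.DS S (Fin r → ZMod (q ^ k)) ⟶ G) (k : ℕ) :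
    Red.DS S' (Fin r → ZMod (q ^ k)) ⟶ Red.bc v G :=
  (und (TorusAlgClosed.dsBcIso v (Fin r → ZMod (q ^ k)))).inv ≫ (Over.pullback v).map (u k)

theorem HasF.change {v : S' ⟶ S} {w : S'' ⟶ S'} (h : HasF q r u (w ≫ v)) : HasF q r (bcU v u) w := by
  obtain ⟨F, h1, h2, h3⟩ := h
  have i0 := isMonHom_und_inv (TorusAlgClosed.dsBcIso v (Fin r → ℤ))
  have i1 := isMonHom_und_inv (BcIso.bcCompIso w v (Red.DS S (Fin r → ℤ)))
  have i2 := isMonHom_und (BcIso.bcCompIso w v G)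
  refine ⟨(Over.pullback w).map (und (TorusAlgClosed.dsBcIso v (Fin r → ℤ))).inv ≫
    (und (BcIso.bcCompIso w v (Red.DS S (Fin r → ℤ)))).inv ≫ F ≫ (und (BcIso.bcCompIso w v G)).hom,
    inferInstance, inferInstance, fun k => ?_⟩
  rw [← Category.assoc, ← Functor.map_comp, ← ds_nat_inv, Functor.map_comp, Category.assoc,
    ← Category.assoc ((Over.pullback w).map ((Over.pullback v).map _)), ← comp_nat_inv, Category.assoc,
    ← Category.assoc ((Over.pullback (w ≫ v)).map _), h3, ← comp_nat, Iso.inv_hom_id_assoc, ← Functor.map_comp]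
  rfl

theorem HasF.unchange {v : S' ⟶ S} {w : S'' ⟶ S'} (h : HasF q r (bcU v u) w) : HasF q r u (w ≫ v) := by
  obtain ⟨F, h1, h2, h3⟩ := h
  have i0 := isMonHom_und (TorusAlgClosed.dsBcIso v (Fin r → ℤ))
  have i1 := isMonHom_und (BcIso.bcCompIso w v (Red.DS S (Fin r → ℤ)))
  have i2 := isMonHom_und_inv (BcIso.bcCompIso w v G)
  refine ⟨(und (BcIso.bcCompIso w v (Red.DS S (Fin r → ℤ)))).hom ≫
    (Over.pullback w).map (und (TorusAlgClosed.dsBcIso v (Fin r → ℤ))).hom ≫ F ≫ (und (BcIso.bcCompIso w v G)).inv,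
    inferInstance, inferInstance, fun k => ?_⟩
  rw [← Category.assoc, ← comp_nat, Category.assoc, ← Category.assoc ((Over.pullback w).map ((Over.pullback v).map _)),
    ← Functor.map_comp, ds_nat, Functor.map_comp, Category.assoc, ← Category.assoc ((Over.pullback w).map (Red.DSmap _ _)),
    h3, bcU, Functor.map_comp, Category.assoc, ← Category.assoc ((Over.pullback w).map (und _).hom),
    ← Functor.map_comp, Iso.hom_inv_id, CategoryTheory.Functor.map_id, Category.id_comp, ← Category.assoc, comp_nat,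
    Category.assoc, Iso.hom_inv_id, Category.comp_id]

end hasF

section trait

variable {V : Type u} [CommRing V] [IsDomain V] [IsDiscreteValuationRing V] [HenselianLocalRing V]
  [IsAlgClosed (ResidueField V)] {q r r' : ℕ}

/-- **Comparison over a trait.** -/
theorem hasF_generic (hq : 1 < q) {G : Over (Spec (CommRingCat.of V))} [GrpObj G] [LocallyOfFiniteType G.hom]
    [QuasiCompact G.hom] {M : ℕ → Over (Spec (CommRingCat.of V))} [grp : ∀ k, GrpObj (M k)] {m : ∀ k, M k ⟶ G}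
    (hm : ∀ k, IsMonHom (m k) ∧ Mono (m k) ∧ SGA3x.IsMultTypeFT (M k))
    {u : ∀ k : ℕ, Red.DS (Spec (CommRingCat.of V)) (Fin r → ZMod (q ^ k)) ⟶ G}
    (hu : ∀ k, ∃ θ : Red.DS (Spec (CommRingCat.of V)) (Fin r → ZMod (q ^ k)) ≅ M k, IsMonHom θ.hom ∧ θ.hom ≫ m k = u k)
    (Φ : Red.DS (Spec (CommRingCat.of V)) (Fin r' → ℤ) ⟶ G) [IsMonHom Φ]
    (hgen : Mono ((Over.pullback (Neron.genPt V)).map Φ))
    (hsp : Mono ((Over.pullback (Spec.map (CommRingCat.ofHom (residue V)))).map Φ))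
    (hz : ∀ k, ∃ z : M k ⟶ Red.DS (Spec (CommRingCat.of V)) (Fin r' → ℤ), IsTors (q ^ k) z ∧ z ≫ Φ = m k)
    (h : HasF q r u (Spec.map (CommRingCat.ofHom (residue V)))) : HasF q r u (Neron.genPt V) := by
  have i1 := fun k => (hm k).1
  have i2 := fun k => (hm k).2.1
  choose z hz hzΦ using hz
  choose θ hθ hθu using hu
  obtain ⟨F, h1, h2, h3⟩ := h
  let i : Spec (CommRingCat.of (ResidueField V)) ⟶ Spec (CommRingCat.of V) := Spec.map (CommRingCat.ofHom (residue V))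
  have c1 : IsSeparated (Red.bc i G).hom := Localalg.GrpSchComp2.isSeparated_hom _
  have c2 : LocallyOfFiniteType (Red.bc i G).hom := inferInstanceAs (LocallyOfFiniteType (pullback.snd G.hom i))
  have c3 : QuasiCompact (Red.bc i G).hom := inferInstanceAs (QuasiCompact (pullback.snd G.hom i))
  have hT1 : Red.IsTorus (Red.bc i (Red.DS (Spec (CommRingCat.of V)) (Fin r → ℤ))) :=
    isTorus_of_isSplitTorusWith (r := r) ⟨TorusAlgClosed.dsBcIso i _⟩
  have hT2 : Red.IsTorus (Red.bc i (Red.DS (Spec (CommRingCat.of V)) (Fin r' → ℤ))) :=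
    isTorus_of_isSplitTorusWith (r := r') ⟨TorusAlgClosed.dsBcIso i _⟩
  have hΦi : Mono ((Over.pullback i).map Φ) := hsp
  have hcl1 : IsClosedImmersion F.left := Groth.Agent.Sga3.H798.TorusClosed.isClosedImmersion_of_torus (G := Red.bc i G) F hT1
  have hcl2 : IsClosedImmersion ((Over.pullback i).map Φ).left :=
    Groth.Agent.Sga3.H798.TorusClosed.isClosedImmersion_of_torus (G := Red.bc i G) _ hT2
  obtain ⟨ε, hε⟩ := TorU.exists_iso hq hT1 hT2 F ((Over.pullback i).map Φ) hcl1 hcl2 (by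
    intro X x k hx
    obtain ⟨y, rfl⟩ := (((isTors_cz r (q ^ k)).bc i).pts X x).2 hx
    refine ⟨y ≫ (Over.pullback i).map ((θ k).hom ≫ z k), ?_⟩
    rw [Category.assoc, ← Functor.map_comp, Category.assoc, hzΦ, hθu, Category.assoc]
    exact congrArg (y ≫ ·) (h3 k).symm) (by
    intro X x k hx
    obtain ⟨y, rfl⟩ := (((hz k).bc i).pts X x).2 hx
    refine ⟨y ≫ (Over.pullback i).map ((θ k).inv ≫ Red.DSmap _ (cz r (q ^ k))), ?_⟩
    rw [Category.assoc, Category.assoc, Functor.map_comp, Category.assoc, ← Functor.map_comp (Over.pullback i) (z k), hzΦ]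
    refine congrArg (y ≫ ·) ?_
    refine (congrArg (_ ≫ ·) (h3 k)).trans ?_
    change (Over.pullback i).map (θ k).inv ≫ (Over.pullback i).map (u k) = _
    rw [← Functor.map_comp, ← hθu, Iso.inv_hom_id_assoc])
  have hεm : IsMonHom ε.hom := K388.SubDescGrp.isMonHom_of_comp ε.hom ((Over.pullback i).map Φ) (by rw [hε]; exact h1)
  have hεm' : IsMonHom ε.inv := K388.SubDescGrp.isMonHom_of_comp ε.inv F (by
    rw [← hε, Iso.inv_hom_id_assoc]; infer_instance)
  obtain ⟨ψ, hψ⟩ := exists_lift_DS i ε.hom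
  obtain ⟨ψ', hψ'⟩ := exists_lift_DS i ε.inv
  have hψm : IsMonHom (Red.DSmap (Spec (CommRingCat.of V)) ψ) := K197.TorChart.isMonHom_DSmap _ _
  have hψm' : IsMonHom (Red.DSmap (Spec (CommRingCat.of V)) ψ') := K197.TorChart.isMonHom_DSmap _ _
  have d1 : Red.DSmap (Spec (CommRingCat.of V)) ψ ≫ Red.DSmap _ ψ' = 𝟙 _ := by
    refine hom_ext i (Iso.refl (Grp.mk (Red.DS (Spec (CommRingCat.of V)) (Fin r → ℤ)))) (Iso.refl _) _ _ ?_
    rw [Functor.map_comp, hψ, hψ', Iso.hom_inv_id]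
    exact (CategoryTheory.Functor.map_id _ _).symm
  have d2 : Red.DSmap (Spec (CommRingCat.of V)) ψ' ≫ Red.DSmap _ ψ = 𝟙 _ := by
    refine hom_ext i (Iso.refl (Grp.mk (Red.DS (Spec (CommRingCat.of V)) (Fin r' → ℤ)))) (Iso.refl _) _ _ ?_
    rw [Functor.map_comp, hψ, hψ', Iso.inv_hom_id]
    exact (CategoryTheory.Functor.map_id _ _).symm
  have d3 : IsIso (Red.DSmap (Spec (CommRingCat.of V)) ψ) := ⟨_, d1, d2⟩
  have hΦ' : ∀ k, Red.DSmap _ (cz r (q ^ k)) ≫ Red.DSmap _ ψ ≫ Φ = u k := by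
    intro k
    have hczm : IsMonHom (Red.DSmap (Spec (CommRingCat.of V)) (cz r (q ^ k))) := K197.TorChart.isMonHom_DSmap _ _
    obtain ⟨y, hy⟩ := ((hz k).pts _ (Red.DSmap _ (cz r (q ^ k)) ≫ Red.DSmap _ ψ)).2 (by
      rw [← TorU.pow_post hψm, DSmap_cz_pow]
      exact MonObj.one_comp _)
    have i3 := (hz k).mono
    have i4 := (hz k).mon
    have hym : IsMonHom y := K388.SubDescGrp.isMonHom_of_comp y (z k) (by rw [hy]; infer_instance)
    have i5 := hθ k
    obtain ⟨N, _, hN, ⟨e⟩⟩ := exists_split (hm k).2.2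
    have key : y = (θ k).hom := by
      refine hom_ext i (Iso.refl (Grp.mk (Red.DS (Spec (CommRingCat.of V)) (Fin r → ZMod (q ^ k))))) e _ _ ?_
      rw [← cancel_mono ((Over.pullback i).map (m k)), ← Functor.map_comp, ← Functor.map_comp, hθu, ← hzΦ k,
        ← Category.assoc y, hy, Category.assoc, Functor.map_comp, Functor.map_comp, hψ, hε]
      exact h3 k
    rw [← Category.assoc, ← hy, Category.assoc, hzΦ, key, hθu]
  refine ⟨(Over.pullback (Neron.genPt V)).map (Red.DSmap _ ψ ≫ Φ), inferInstance, ?_, fun k => ?_⟩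
  · rw [Functor.map_comp]
    infer_instance
  · rw [← Functor.map_comp, hΦ']

end trait

section main

/-- Split the torus and transport. -/
theorem exists_split_data {S S' S'' : Scheme.{u}} {q r : ℕ} {G : Over S} [GrpObj G] {M : ℕ → Over S}
    [∀ k, GrpObj (M k)] {m : ∀ k, M k ⟶ G} {v : S' ⟶ S} {w : S'' ⟶ S'} {f : S'' ⟶ S} (hf : w ≫ v = f)
    {T : Over S'} [GrpObj T] (j : T ⟶ Red.bc v G) [IsMonHom j] [Mono j]
    (hj : ∀ k, ∃ g : Red.bc v (M k) ⟶ T, g ≫ j = (Over.pullback v).map (m k) ∧ IsTors (q ^ k) g)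
    (hT : Red.IsSplitTorusWith (Fin r → ℤ) (Red.bc w T)) :
    ∃ φ : Red.bc f (Red.DS S (Fin r → ℤ)) ⟶ Red.bc f G, IsMonHom φ ∧ Mono φ ∧
      ∀ k, ∃ g : Red.bc f (M k) ⟶ Red.bc f (Red.DS S (Fin r → ℤ)),
        IsTors (q ^ k) g ∧ g ≫ φ = (Over.pullback f).map (m k) := by
  subst hf
  obtain ⟨e⟩ := hT
  obtain ⟨E⟩ : Nonempty (Grp.mk (Red.bc w T) ≅ Grp.mk (Red.bc (w ≫ v) (Red.DS S (Fin r → ℤ)))) :=
    ⟨e ≪≫ (TorusAlgClosed.dsBcIso (w ≫ v) (Fin r → ℤ)).symm⟩
  have i1 := isMonHom_und_inv E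
  have i2 := isMonHom_und_inv (BcIso.bcCompIso w v G)
  refine ⟨(und E).inv ≫ (Over.pullback w).map j ≫ (und (BcIso.bcCompIso w v G)).inv, inferInstance, inferInstance,
    fun k => ?_⟩
  obtain ⟨g, hg, hg'⟩ := hj k
  refine ⟨(und (BcIso.bcCompIso w v (M k))).hom ≫ (Over.pullback w).map g ≫ (und E).hom, ?_, ?_⟩
  · exact isTors_of_iso ((hg'.bc w).comp_iso E) (und (BcIso.bcCompIso w v (M k))) (isMonHom_und _)
  · rw [Category.assoc, Category.assoc, Iso.hom_inv_id_assoc, ← Category.assoc ((Over.pullback w).map g),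
      ← Functor.map_comp, hg, ← Category.assoc, comp_nat, Category.assoc, Iso.hom_inv_id, Category.comp_id]

variable {A : Type u} [CommRing A] [IsNoetherianRing A] [HenselianLocalRing A] [IsSepClosed (ResidueField A)] {q : ℕ}

/-- From the closed point to an arbitrary point. -/
theorem hasF_of_closed (hq : 1 < q) (hqu : IsUnit (q : A)) {G : Over (Spec (CommRingCat.of A))} [GrpObj G]
    [QuasiCompact G.hom] [LocallyOfFiniteType G.hom] (M : ℕ → Over (Spec (CommRingCat.of A)))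
    (grp : ∀ k, GrpObj (M k)) (m : ∀ k, M k ⟶ G) (hm : ∀ k, IsMonHom (m k) ∧ Mono (m k) ∧ SGA3x.IsMultTypeFT (M k))
    (hcoh : ∀ j k : ℕ, j ≤ k → ∃ f : M j ⟶ M k, f ≫ m k = m j) {r : ℕ}
    (u : ∀ k, Red.DS (Spec (CommRingCat.of A)) (Fin r → ZMod (q ^ k)) ⟶ G)
    (hu : ∀ k, ∃ θ : Red.DS (Spec (CommRingCat.of A)) (Fin r → ZMod (q ^ k)) ≅ M k, IsMonHom θ.hom ∧ θ.hom ≫ m k = u k)
    (hcl : HasF q r u ((Spec (CommRingCat.of A)).fromSpecResidueField (closedPoint A)))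
    (s : ↥(Spec (CommRingCat.of A))) (h : Has q m ((Spec (CommRingCat.of A)).fromSpecResidueField s)) :
    HasF q r u ((Spec (CommRingCat.of A)).fromSpecResidueField s) := by
  by_cases hne : closedPoint A = s
  · subst hne
    exact hcl
  have i1 := fun k => (hm k).1
  have i2 := fun k => (hm k).2.1
  obtain ⟨T, _, j, h1, h2, h3, h4⟩ := h
  obtain ⟨V, _, _, _, _, _, g, h', c, r', hgen, hsp, hTs⟩ :=
    StrDvr.exists_trait (specializes_closedPoint s) hne T h3
  have hqV : IsUnit (q : V) := isUnit_of_hom hqu g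
  have c2 : LocallyOfFiniteType (Red.bc g G).hom := inferInstanceAs (LocallyOfFiniteType (pullback.snd G.hom g))
  have c3 : QuasiCompact (Red.bc g G).hom := inferInstanceAs (QuasiCompact (pullback.snd G.hom g))
  have c4 := isMonHom_und (fibIso hgen.symm G)
  have hmV : ∀ k, IsMonHom ((Over.pullback g).map (m k)) ∧ Mono ((Over.pullback g).map (m k)) ∧
      SGA3x.IsMultTypeFT (Red.bc g (M k)) :=
    fun k => ⟨inferInstance, inferInstance, MTDesc.isMultTypeFT_bc g (hm k).2.2⟩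
  obtain ⟨Φ, E, p1, p2, p3, p4⟩ := exists_trait_hom hq hqV (G := Red.bc g G) (M := fun k => Red.bc g (M k))
    (m := fun k => (Over.pullback g).map (m k)) hmV
    (fun a b hab => by
      obtain ⟨f, hf⟩ := hcoh a b hab
      exact ⟨(Over.pullback g).map f, by rw [← Functor.map_comp, hf]⟩) hTs
    ((Over.pullback h').map j ≫ (und (fibIso hgen.symm G)).hom) (fun k => by
      obtain ⟨y, hy, hy'⟩ := h4 k
      refine ⟨(und (fibIso hgen.symm (M k))).inv ≫ (Over.pullback h').map y, ?_, ?_⟩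
      · rw [Category.assoc, ← Category.assoc ((Over.pullback h').map y), ← Functor.map_comp, hy, fib_nat hgen.symm (m k),
          Iso.inv_hom_id_assoc]
      · exact isTors_of_iso (hy'.bc h') (und (fibIso hgen.symm (M k))).symm (isMonHom_und_inv _))
  have p5 : Mono ((Over.pullback (Neron.genPt V)).map Φ) := by
    rw [Iso.eq_inv_comp (und E) |>.2 p2]
    infer_instance
  have c6 := flat_fibre s h'
  have c7 := surjective_fibre s h'
  refine HasF.descend (w := h') hq ?_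
  rw [hgen]
  refine HasF.unchange (hasF_generic hq (r' := r') (M := fun k => Red.bc g (M k)) hmV (fun k => ?_) Φ p5 p3 p4
    (HasF.change ?_))
  · obtain ⟨θ, hθ, hθ'⟩ := hu k
    have i3 := isMonHom_und_inv (TorusAlgClosed.dsBcIso g (Fin r → ZMod (q ^ k)))
    refine ⟨(und (TorusAlgClosed.dsBcIso g (Fin r → ZMod (q ^ k)))).symm ≪≫ (Over.pullback g).mapIso θ, ?_, ?_⟩
    · change IsMonHom ((und (TorusAlgClosed.dsBcIso g (Fin r → ZMod (q ^ k)))).inv ≫ (Over.pullback g).map θ.hom)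
      infer_instance
    · change ((und (TorusAlgClosed.dsBcIso g (Fin r → ZMod (q ^ k)))).inv ≫ (Over.pullback g).map θ.hom) ≫ _ = _
      rw [Category.assoc, ← Functor.map_comp, hθ']
      rfl
  · rw [← hsp]
    exact hcl.comp c

/-- The closed point. -/
theorem exists_closed (hq : 1 < q) {G : Over (Spec (CommRingCat.of A))} [GrpObj G] (M : ℕ → Over (Spec (CommRingCat.of A)))
    (grp : ∀ k, GrpObj (M k)) (m : ∀ k, M k ⟶ G) (hm : ∀ k, IsMonHom (m k) ∧ Mono (m k) ∧ SGA3x.IsMultTypeFT (M k))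
    (hcoh : ∀ j k : ℕ, j ≤ k → ∃ f : M j ⟶ M k, f ≫ m k = m j) {s : ↥(Spec (CommRingCat.of A))}
    (hs : s = closedPoint A) (h : Has q m ((Spec (CommRingCat.of A)).fromSpecResidueField s)) :
    ∃ (r : ℕ) (θ : ∀ k, Red.DS (Spec (CommRingCat.of A)) (Fin r → ZMod (q ^ k)) ≅ M k), (∀ k, IsMonHom (θ k).hom) ∧
      (∀ j k (h : j ≤ k), Red.DSmap _ (tz r (pow_dvd_pow q h)) ≫ (θ k).hom ≫ m k = (θ j).hom ≫ m j) ∧
      HasF q r (fun k => (θ k).hom ≫ m k) ((Spec (CommRingCat.of A)).fromSpecResidueField s) := by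
  let i₀ : Spec (CommRingCat.of (ResidueField A)) ⟶ Spec (CommRingCat.of A) := Spec.map (CommRingCat.ofHom (residue A))
  have hi₀ : i₀ (closedPoint (ResidueField A)) = s := by rw [hs]; exact StrDvr.closedPoint_map _
  obtain ⟨c₀, hc₀⟩ := StrDvr.exists_factor i₀ hi₀
  obtain ⟨T₀, _, j₀, a1, a2, a3, a4⟩ := h
  obtain ⟨r, hr⟩ := exists_split_torus_field (TorusBc.isTorus_bc c₀ a3)
  obtain ⟨φ, b1, b2, b3⟩ := exists_split_data hc₀ j₀ a4 hr
  obtain ⟨θ, d1, d2, d3, d4⟩ := exists_chart i₀ M grp m hm hcoh φ b2 b3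
  have c6 := flat_fibre s c₀
  have c7 := surjective_fibre s c₀
  refine ⟨r, θ, d1, d3, HasF.descend (w := c₀) hq ?_⟩
  rw [hc₀]
  exact ⟨φ, b1, b2, d4⟩

/-- **Subtori of the fibres over a strictly henselian base.** -/
theorem exists_hasF (hq : 1 < q) (hqu : IsUnit (q : A)) {G : Over (Spec (CommRingCat.of A))} [GrpObj G]
    [QuasiCompact G.hom] [LocallyOfFiniteType G.hom] (M : ℕ → Over (Spec (CommRingCat.of A)))
    (grp : ∀ k, GrpObj (M k)) (m : ∀ k, M k ⟶ G) (hm : ∀ k, IsMonHom (m k) ∧ Mono (m k) ∧ SGA3x.IsMultTypeFT (M k))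
    (hcoh : ∀ j k : ℕ, j ≤ k → ∃ f : M j ⟶ M k, f ≫ m k = m j)
    (h : ∀ s : ↥(Spec (CommRingCat.of A)), Has q m ((Spec (CommRingCat.of A)).fromSpecResidueField s)) :
    ∃ (r : ℕ) (u : ∀ k, Red.DS (Spec (CommRingCat.of A)) (Fin r → ZMod (q ^ k)) ⟶ G), (∀ k, IsMonHom (u k)) ∧
      (∀ j k (h : j ≤ k), Red.DSmap _ (tz r (pow_dvd_pow q h)) ≫ u k = u j) ∧
      (∀ k, ∃ e : Red.DS (Spec (CommRingCat.of A)) (Fin r → ZMod (q ^ k)) ≅ M k, IsMonHom e.hom ∧ e.hom ≫ m k = u k) ∧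
      ∀ s, HasF q r u ((Spec (CommRingCat.of A)).fromSpecResidueField s) := by
  have i1 := fun k => (hm k).1
  obtain ⟨r, θ, d1, d3, hF⟩ := exists_closed hq M grp m hm hcoh rfl (h (closedPoint A))
  refine ⟨r, fun k => (θ k).hom ≫ m k, fun k => ?_, d3, fun k => ⟨θ k, d1 k, rfl⟩, fun s =>
    hasF_of_closed hq hqu M grp m hm hcoh _ (fun k => ⟨θ k, d1 k, rfl⟩) hF s (h s)⟩
  have i2 := d1 k
  infer_instance

/-- **Subtori of the fibres over a strictly henselian base**, in the form of S8444. -/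
theorem main (hq : 1 < q) (hqu : IsUnit (q : A)) {G : Over (Spec (CommRingCat.of A))} [GrpObj G]
    [QuasiCompact G.hom] [LocallyOfFiniteType G.hom]
    (Ts : ∀ s : ↥(Spec (CommRingCat.of A)), Over (Spec ((Spec (CommRingCat.of A)).residueField s)))
    (grpT : ∀ s, GrpObj (Ts s))
    (js : ∀ s, Ts s ⟶ Red.bc ((Spec (CommRingCat.of A)).fromSpecResidueField s) G)
    (hjs : ∀ s, IsMonHom (js s) ∧ Mono (js s) ∧ Red.IsTorus (Ts s))
    (M : ℕ → Over (Spec (CommRingCat.of A))) (grp : ∀ k, GrpObj (M k)) (m : ∀ k, M k ⟶ G)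
    (hm : ∀ k, IsMonHom (m k) ∧ Mono (m k) ∧ SGA3x.IsMultTypeFT (M k))
    (hcoh : ∀ j k : ℕ, j ≤ k → ∃ f : M j ⟶ M k, f ≫ m k = m j)
    (hfib : ∀ (s : ↥(Spec (CommRingCat.of A))) (k : ℕ),
      ∃ g : Red.bc ((Spec (CommRingCat.of A)).fromSpecResidueField s) (M k) ⟶ Ts s,
      g ≫ js s = (Over.pullback ((Spec (CommRingCat.of A)).fromSpecResidueField s)).map (m k) ∧
      AlgGrp.IsKernel g ((𝟙 (Ts s) : Ts s ⟶ Ts s) ^ (q ^ k))) :
    ∃ (r : ℕ) (u : ∀ k, Red.DS (Spec (CommRingCat.of A)) (Fin r → ZMod (q ^ k)) ⟶ G), (∀ k, IsMonHom (u k)) ∧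
      (∀ j k (h : j ≤ k), Red.DSmap _ (tz r (pow_dvd_pow q h)) ≫ u k = u j) ∧
      (∀ k, ∃ e : Red.DS (Spec (CommRingCat.of A)) (Fin r → ZMod (q ^ k)) ≅ M k, IsMonHom e.hom ∧ e.hom ≫ m k = u k) ∧
      ∀ s, ∃ F : Red.bc ((Spec (CommRingCat.of A)).fromSpecResidueField s) (Red.DS (Spec (CommRingCat.of A)) (Fin r → ℤ)) ⟶
          Red.bc ((Spec (CommRingCat.of A)).fromSpecResidueField s) G, IsMonHom F ∧ Mono F ∧
        ∀ k, (Over.pullback ((Spec (CommRingCat.of A)).fromSpecResidueField s)).map (Red.DSmap _ (cz r (q ^ k))) ≫ F =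
          (Over.pullback ((Spec (CommRingCat.of A)).fromSpecResidueField s)).map (u k) :=
  exists_hasF hq hqu M grp m hm hcoh fun s => (has_iff (fun k => (hm k).1) _).2
    ⟨Ts s, grpT s, js s, (hjs s).1, (hjs s).2.1, (hjs s).2.2, fun k => hfib s k⟩

end main

end K18.StrLoc
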