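import Groth.Agent.Sga3.H832.ValExt
import Groth.Agent.SGA3x.K10.MTLoc
import Groth.Agent.Sga3B.DSRigid
import Groth.Agent.Sga3B.SplitBc264
import Groth.Agent.RedSub.K197.TorChart

/-!
# Groups of multiplicative type over strictly henselian local rings

* `exists_split`: over a strictly henselian local ring a group of multiplicative type and of finite type is diagonalizable;
* `exists_lift`, `hom_ext`: homomorphisms between diagonalizable groups lift from the base change to a local ring (resp.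
  over a local ring are determined by such a base change).
-/

set_option autoImplicit false
universe u
open CategoryTheory MonoidalCategory CartesianMonoidalCategory MonObj GrpObj AlgebraicGeometry Limits IsLocalRing

namespace K18.StrSplit

open Groth.Agent Groth.Agent.Sga3B

/-- Groups of multiplicative type over strictly henselian local rings are diagonalizable. -/
theorem exists_split {R : Type u} [CommRing R] [HenselianLocalRing R] [IsSepClosed (ResidueField R)]
    {H : Over (Spec (CommRingCat.of R))} [GrpObj H] (hH : SGA3x.IsMultTypeFT H) :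
    ∃ (M : Type) (_ : AddCommGroup M), AddGroup.FG M ∧
      Nonempty (Grp.mk H ≅ Grp.mk (Red.DS (Spec (CommRingCat.of R)) M)) := by
  obtain ⟨B, _, v, M, _, hv, ⟨p, hp⟩, hM, ⟨e⟩⟩ := K10.MTLoc.exists_etale_split hH (closedPoint R)
  obtain ⟨t, ht, -⟩ := Pi1C.StrictHensPoint.exists_lift_of_etale v p R (𝟙 _) (by rw [hp]; rfl)
  exact ⟨M, inferInstance, hM, ⟨(BcIso.bcIdIso H).symm ≪≫ BcIso.bcCongrIso ht.symm H ≪≫
    BcIso.bcCompIso t v H ≪≫ BcIso.bcMapIso t e ≪≫ TorusAlgClosed.dsBcIso t M⟩⟩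

/-- Groups of multiplicative type over algebraically closed fields are diagonalizable. -/
theorem exists_split_field {K : Type u} [Field K] [IsAlgClosed K]
    {H : Over (Spec (CommRingCat.of K))} [GrpObj H] (hH : SGA3x.IsMultTypeFT H) :
    ∃ (M : Type) (_ : AddCommGroup M), AddGroup.FG M ∧
      Nonempty (Grp.mk H ≅ Grp.mk (Red.DS (Spec (CommRingCat.of K)) M)) := by
  let e : K ≃+* ResidueField K := RingEquiv.ofBijective (residue K) ⟨(residue K).injective, residue_surjective⟩
  have h1 : IsAlgClosed (ResidueField K) := IsAlgClosed.of_ringEquiv K (ResidueField K) e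
  exact exists_split hH

variable {S : Scheme.{u}} {R' : Type u} [CommRing R'] (v : Spec (CommRingCat.of R') ⟶ S)

/-- Homomorphisms between diagonalizable groups lift from a local base change. -/
theorem exists_lift_DS [IsLocalRing R'] {N N' : Type} [AddCommGroup N] [AddCommGroup N']
    (f : Red.bc v (Red.DS S N) ⟶ Red.bc v (Red.DS S N')) [IsMonHom f] :
    ∃ ψ : N' →+ N, (Over.pullback v).map (Red.DSmap S ψ) = f := by
  let i : Red.DS (Spec (CommRingCat.of R')) N ⟶ Red.bc v (Red.DS S N) := (TorusAlgClosed.dsBcIso v N).inv.hom.hom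
  let j : Red.bc v (Red.DS S N') ⟶ Red.DS (Spec (CommRingCat.of R')) N' := (TorusAlgClosed.dsBcIso v N').hom.hom.hom
  have hi : IsMonHom i := inferInstance
  have hj : IsMonHom j := inferInstance
  have hi' : IsIso i := inferInstanceAs (IsIso ((Grp.forget _).map (TorusAlgClosed.dsBcIso v N).inv))
  have hj' : IsIso j := inferInstanceAs (IsIso ((Grp.forget _).map (TorusAlgClosed.dsBcIso v N').hom))
  obtain ⟨ψ, hψ⟩ := DSRigid.exists_eq_DSmap (i ≫ f ≫ j)
  refine ⟨ψ, ?_⟩
  have h1 : (Over.pullback v).map (Red.DSmap S ψ) ≫ j =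
      ((TorusAlgClosed.dsBcIso v N).hom.hom.hom : Red.bc v (Red.DS S N) ⟶ _) ≫ Red.DSmap _ ψ :=
    SplitBc264.DSmap_bc v ψ
  have h2 : i ≫ ((TorusAlgClosed.dsBcIso v N).hom.hom.hom : Red.bc v (Red.DS S N) ⟶ _) = 𝟙 _ :=
    congrArg (fun k => k.hom.hom) (TorusAlgClosed.dsBcIso v N).inv_hom_id
  rw [← cancel_mono j, ← cancel_epi i, h1, hψ, ← Category.assoc, h2, Category.id_comp]

variable {H H' : Over S} [GrpObj H] [GrpObj H'] {N N' : Type} [AddCommGroup N] [AddCommGroup N']

lemma isIso_of_grp {X Y : Over S} [GrpObj X] [GrpObj Y] (e : Grp.mk X ≅ Grp.mk Y) :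
    IsIso (e.hom.hom.hom : X ⟶ Y) ∧ IsIso (e.inv.hom.hom : Y ⟶ X) :=
  ⟨inferInstanceAs (IsIso ((Grp.forget _).map e.hom)), inferInstanceAs (IsIso ((Grp.forget _).map e.inv))⟩

lemma grp_hom_inv {X Y : Over S} [GrpObj X] [GrpObj Y] (e : Grp.mk X ≅ Grp.mk Y) :
    (e.hom.hom.hom : X ⟶ Y) ≫ (e.inv.hom.hom : Y ⟶ X) = 𝟙 X := congrArg (fun k => k.hom.hom) e.hom_inv_id

lemma grp_inv_hom {X Y : Over S} [GrpObj X] [GrpObj Y] (e : Grp.mk X ≅ Grp.mk Y) :
    (e.inv.hom.hom : Y ⟶ X) ≫ (e.hom.hom.hom : X ⟶ Y) = 𝟙 Y := congrArg (fun k => k.hom.hom) e.inv_hom_id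

/-- Homomorphisms between diagonalizable groups lift from a local base change. -/
theorem exists_lift [IsLocalRing R'] (e : Grp.mk H ≅ Grp.mk (Red.DS S N)) (e' : Grp.mk H' ≅ Grp.mk (Red.DS S N'))
    (f : Red.bc v H ⟶ Red.bc v H') [IsMonHom f] : ∃ g : H ⟶ H', IsMonHom g ∧ (Over.pullback v).map g = f := by
  let a : H ⟶ Red.DS S N := e.hom.hom.hom
  let a' : Red.DS S N ⟶ H := e.inv.hom.hom
  let b : H' ⟶ Red.DS S N' := e'.hom.hom.hom
  let b' : Red.DS S N' ⟶ H' := e'.inv.hom.hom
  have ha : IsMonHom a := inferInstance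
  have ha' : IsMonHom a' := inferInstance
  have hb : IsMonHom b := inferInstance
  have hb' : IsMonHom b' := inferInstance
  have haa : a ≫ a' = 𝟙 _ := grp_hom_inv e
  have hbb : b ≫ b' = 𝟙 _ := grp_hom_inv e'
  have : IsMonHom ((Over.pullback v).map a' ≫ f ≫ (Over.pullback v).map b) := by
    have h1 : IsMonHom ((Over.pullback v).map a') := inferInstance
    have h2 : IsMonHom ((Over.pullback v).map b) := inferInstance
    infer_instance
  obtain ⟨ψ, hψ⟩ := exists_lift_DS v ((Over.pullback v).map a' ≫ f ≫ (Over.pullback v).map b)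
  have h3 : IsMonHom (Red.DSmap S ψ) := K197.TorChart.isMonHom_DSmap S ψ
  refine ⟨a ≫ Red.DSmap S ψ ≫ b', inferInstance, ?_⟩
  rw [Functor.map_comp, Functor.map_comp, hψ]
  simp only [Category.assoc]
  rw [← Functor.map_comp, hbb, CategoryTheory.Functor.map_id, Category.comp_id, ← Category.assoc, ← Functor.map_comp, haa,
    CategoryTheory.Functor.map_id, Category.id_comp]

omit v in
/-- Over a local ring, homomorphisms between diagonalizable groups are determined by a nonempty base change. -/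
theorem hom_ext {R : Type u} [CommRing R] [IsLocalRing R] [Nontrivial R']
    (v : Spec (CommRingCat.of R') ⟶ Spec (CommRingCat.of R))
    {H H' : Over (Spec (CommRingCat.of R))} [GrpObj H] [GrpObj H']
    (e : Grp.mk H ≅ Grp.mk (Red.DS (Spec (CommRingCat.of R)) N))
    (e' : Grp.mk H' ≅ Grp.mk (Red.DS (Spec (CommRingCat.of R)) N'))
    (f g : H ⟶ H') [IsMonHom f] [IsMonHom g] (h : (Over.pullback v).map f = (Over.pullback v).map g) : f = g := by
  let a : H ⟶ Red.DS (Spec (CommRingCat.of R)) N := e.hom.hom.hom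
  let a' : Red.DS (Spec (CommRingCat.of R)) N ⟶ H := e.inv.hom.hom
  let b : H' ⟶ Red.DS (Spec (CommRingCat.of R)) N' := e'.hom.hom.hom
  let b' : Red.DS (Spec (CommRingCat.of R)) N' ⟶ H' := e'.inv.hom.hom
  have ha' : IsMonHom a' := inferInstance
  have hb : IsMonHom b := inferInstance
  have ha'' : IsIso a' := (isIso_of_grp e).2
  have hb'' : IsIso b := (isIso_of_grp e').1
  obtain ⟨ψ, hψ⟩ := DSRigid.exists_eq_DSmap (a' ≫ f ≫ b)
  obtain ⟨χ, hχ⟩ := DSRigid.exists_eq_DSmap (a' ≫ g ≫ b)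
  have h1 : ψ = χ := by
    refine K197.TorChart.eq_of_map_eq ψ χ v ?_
    rw [← hψ, ← hχ]
    simp only [Functor.map_comp, h]
  rw [← cancel_mono b, ← cancel_epi a', hψ, hχ, h1]

end K18.StrSplit
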