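import Groth.Agent.SGA3x.K18.TorSpec
import Groth.Agent.SGA3x.K9.Rigid

/-!
# fpqc descent of homomorphisms from a split torus which are defined on the torsion

`T` a split torus over `S`, `π : S' ⟶ S` an fpqc covering, `F' : T_{S'} ⟶ G_{S'}` a homomorphism whose restriction to the
`q^k`-torsion descends to `S` for all `k`. Then `F'` descends. No separation hypothesis on `G` is needed.
-/

set_option autoImplicit false
universe u
open CategoryTheory MonoidalCategory CartesianMonoidalCategory MonObj GrpObj AlgebraicGeometry Limits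

namespace K18.TorHomDesc

open Groth.Agent Groth.Agent.Sga3B Groth.Agent.Sga3B.BcPts Groth.Agent.Sga3B.IsoFam K13.NTorsion K211.TorsQ
  Groth.Agent.Sga3.H786.TCAff K9.PtsAux

variable {S S' : Scheme.{u}} {q r : ℕ}

/-- Two families of points of `G` parametrized by a split torus agree if they agree on the torsion. -/
theorem fam_eq (hq : 1 < q) {T G : Over S} [GrpObj T] [GrpObj G] (hT : Red.IsSplitTorusWith (Fin r → ℤ) T)
    {C : Type u} [CommRing C] (x : Spec (CommRingCat.of C) ⟶ S) {Ψ Ψ' : T ⊗ Over.mk x ⟶ G}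
    (h : ∀ (X : Over S) (a : X ⟶ T) (v : X ⟶ Over.mk x) (k : ℕ), a ^ (q ^ k) = 1 → lift a v ≫ Ψ = lift a v ≫ Ψ') :
    Ψ = Ψ' := by
  obtain ⟨e⟩ := TorusAlgClosed.isSplitTorusWith_bc x hT
  apply K9.Rigid.unfam_injective
  have h5 : e.hom.hom.hom ≫ e.inv.hom.hom = 𝟙 _ := congrArg (fun k => k.hom.hom) e.hom_inv_id
  have h6 : IsMonHom e.inv.hom.hom := e.inv.hom.isMonHom_hom
  have key : e.inv.hom.hom ≫ unfam (T := Over.mk x) Ψ = e.inv.hom.hom ≫ unfam (T := Over.mk x) Ψ' := by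
    refine eq_of_qt (G := Red.bc x G) hq fun X y k hy => ?_
    have e1 := comp_unfam (T := Over.mk x) Ψ (y ≫ e.inv.hom.hom)
    have e2 := comp_unfam (T := Over.mk x) Ψ' (y ≫ e.inv.hom.hom)
    rw [← Category.assoc, ← Category.assoc]
    refine e1.trans (Eq.trans ?_ e2.symm)
    refine congrArg _ (h _ _ _ k ?_)
    change ((bcMulEquiv x _ T).symm (y ≫ e.inv.hom.hom)) ^ (q ^ k) = 1
    rw [← map_pow]
    have h7 : (y ≫ e.inv.hom.hom) ^ (q ^ k) = 1 := by
      rw [← TorU.pow_post h6, hy]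
      exact MonObj.one_comp _
    rw [h7, map_one]
  have h8 := congrArg (fun y => e.hom.hom.hom ≫ y) key
  simp only [← Category.assoc] at h8
  rw [h5, Category.id_comp, Category.id_comp] at h8
  exact h8

lemma ev_comp {X L Y : Over S} {π : S' ⟶ S} (F' : Red.bc π X ⟶ Red.bc π Y) (l : L ⟶ X) {T : Over S} (b : T ⟶ L)
    (t : T ⟶ Over.mk π) : ev F' (b ≫ l) t = ev ((Over.pullback π).map l ≫ F') b t := by
  rw [ev, ev, ← Category.assoc, bcEquiv_comp, Category.assoc]

/-- **Descent of homomorphisms which are defined on the torsion.** -/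
theorem exists_hom (hq : 1 < q) (π : S' ⟶ S) [Flat π] [Surjective π] [QuasiCompact π] {T G : Over S} [GrpObj T]
    [GrpObj G] (hT : Red.IsSplitTorusWith (Fin r → ℤ) T) (F' : Red.bc π T ⟶ Red.bc π G) [IsMonHom F']
    (h : ∀ k, ∃ (L : Over S) (_ : GrpObj L) (l : L ⟶ T) (u : L ⟶ G), IsTors (q ^ k) l ∧
      (Over.pullback π).map l ≫ F' = (Over.pullback π).map u) :
    ∃ F : T ⟶ G, IsMonHom F ∧ (Over.pullback π).map F = F' := by
  have hpt : ∀ (X : Over S) (a : X ⟶ T) (k : ℕ), a ^ (q ^ k) = 1 → ∃ c : X ⟶ G, ∀ t : X ⟶ Over.mk π,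
      lift a t ≫ fam F' = c := by
    intro X a k ha
    obtain ⟨L, _, l, u, hl, hlu⟩ := h k
    obtain ⟨b, rfl⟩ := (hl.pts X a).2 ha
    refine ⟨b ≫ u, fun t => ?_⟩
    rw [lift_fam, ev_comp, hlu, ev_map]
  have hconst : ∀ (X : Over S) (h : X ⟶ T) (t₁ t₂ : X ⟶ Over.mk π), lift h t₁ ≫ fam F' = lift h t₂ ≫ fam F' := by
    intro X h t₁ t₂
    have hz' : ∀ (D : CommRingCat.{u}) (y : Spec D ⟶ S) (g : Over.mk y ⟶ X),
        g ≫ lift h t₁ ≫ fam F' = g ≫ lift h t₂ ≫ fam F' := by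
      intro D y g
      have h2 : (T ◁ (g ≫ t₁)) ≫ fam F' = (T ◁ (g ≫ t₂)) ≫ fam F' := by
        refine fam_eq (C := D) hq hT y ?_
        intro X a w k ha
        rw [lift_whiskerLeft_assoc, lift_whiskerLeft_assoc]
        obtain ⟨c, hc⟩ := hpt X a k ha
        rw [hc, hc]
      have h3 : lift (g ≫ h) (𝟙 _) ≫ (T ◁ (g ≫ t₁)) ≫ fam F' =
          lift (g ≫ h) (𝟙 _) ≫ (T ◁ (g ≫ t₂)) ≫ fam F' := by rw [h2]
      rw [lift_whiskerLeft_assoc, lift_whiskerLeft_assoc, Category.id_comp, Category.id_comp, ← comp_lift,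
        ← comp_lift, Category.assoc, Category.assoc] at h3
      exact h3
    ext1
    refine Scheme.Cover.hom_ext (X.left.affineCover) _ _ fun i => ?_
    exact congrArg (fun m => m.left) (hz' _ (X.left.affineCover.f i ≫ X.hom) (Over.homMk (X.left.affineCover.f i)))
  obtain ⟨F, hF, hF'⟩ := K9.CentDesc.exists_hom_of_const π (qc_cover π) (isHomFamily_fam F') hconst
  refine ⟨F, hF, fam_injective ?_⟩
  have h1 := hF' _ (fst T (Over.mk π)) (snd _ _)
  have h2 := lift_fam_map (f := π) F (fst T (Over.mk π)) (snd _ _)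
  rw [lift_fst_snd, Category.id_comp] at h1 h2
  rw [h2, h1]

end K18.TorHomDesc
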