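import Groth.Agent.SGA3x.K10.MTLoc
import Groth.Agent.SGA3x.K13.NTorsion
import Groth.Agent.SGA3x.K18.MTDesc
import Groth.Agent.Sga3B.Parab.TorRank156
import Groth.Agent.Sga3B.PinTransport
import Mathlib.Data.ZMod.QuotientRing

/-!
# The rank of a torus over a connected base; torsion of tori
-/

set_option autoImplicit false
universe u
open CategoryTheory MonoidalCategory CartesianMonoidalCategory MonObj GrpObj AlgebraicGeometry Limits

namespace K18.TorRank

open Groth.Agent Groth.Agent.Sga3B K13.NTorsion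

variable {S : Scheme.{u}}

/-- A geometric point in the image of a morphism locally of finite type lifts. -/
theorem exists_lift_geomPt {S X : Scheme.{u}} (h : X ⟶ S) [LocallyOfFiniteType h] (s : S) (hs : s ∈ Set.range h) :
    ∃ p : Spec (CommRingCat.of (AlgebraicClosure (S.residueField s))) ⟶ X, p ≫ h = Red.geomPt s := by
  obtain ⟨y, hy⟩ := hs
  obtain ⟨x⟩ : Nonempty (Spec (CommRingCat.of (AlgebraicClosure (S.residueField s)))) := inferInstance
  have hx : Red.geomPt s x = s := by
    show (Spec.map _ ≫ S.fromSpecResidueField s) x = s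
    rw [Scheme.Hom.comp_apply]
    exact Scheme.fromSpecResidueField_apply _ _
  obtain ⟨z, -, -⟩ := Scheme.Pullback.exists_preimage_pullback y x (hy.trans hx.symm)
  have : Nonempty ↥(pullback h (Red.geomPt s)) := ⟨z⟩
  have hlft : LocallyOfFiniteType (pullback.snd h (Red.geomPt s)) := inferInstance
  have : JacobsonSpace ↥(pullback h (Red.geomPt s)) :=
    LocallyOfFiniteType.jacobsonSpace (pullback.snd h (Red.geomPt s))
  obtain ⟨w, -, hw⟩ : (Set.univ ∩ closedPoints ↥(pullback h (Red.geomPt s))).Nonempty :=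
    nonempty_inter_closedPoints Set.univ_nonempty isOpen_univ.isLocallyClosed
  refine ⟨pointOfClosedPoint (pullback.snd h (Red.geomPt s)) w hw ≫ pullback.fst h (Red.geomPt s), ?_⟩
  rw [Category.assoc, pullback.condition, pointOfClosedPoint_comp_assoc]

/-- The geometric fibres of rank `r`. -/
def P (T : Over S) [GrpObj T] (r : ℕ) : Set S := {s | Red.IsSplitTorusWith (Fin r → ℤ) (Red.geomFibre s T)}

lemma rank_unique {R : Type u} [CommRing R] [IsLocalRing R] {T : Over (Spec (CommRingCat.of R))} [GrpObj T] {a b : ℕ}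
    (h : Red.IsSplitTorusWith (Fin a → ℤ) T) (h' : Red.IsSplitTorusWith (Fin b → ℤ) T) : a = b := by
  obtain ⟨e⟩ := Parab.TorRank156.nonempty_addEquiv h h'
  have h1 := e.toIntLinearEquiv.finrank_eq
  simpa using h1

theorem isOpen_P {T : Over S} [GrpObj T] (hT : Red.IsTorus T) (r : ℕ) : IsOpen (P T r) := by
  rw [isOpen_iff_forall_mem_open]
  intro s hs
  obtain ⟨B, _, v, M, _, hv, hsv, hM, ⟨e⟩⟩ := K10.MTLoc.exists_etale_split (K18.MTDesc.isMultTypeFT_of_isTorus hT) s
  have key : ∀ t ∈ Set.range v, Red.IsSplitTorusWith M (Red.geomFibre t T) := by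
    intro t ht
    obtain ⟨p, hp⟩ := exists_lift_geomPt v t ht
    obtain ⟨E⟩ := TorusAlgClosed.isSplitTorusWith_bc p (M := M) ⟨e⟩
    exact ⟨(BcIso.bcCongrIso hp.symm T) ≪≫ BcIso.bcCompIso p v T ≪≫ E⟩
  obtain ⟨ε⟩ := Parab.TorRank156.nonempty_addEquiv (key s hsv) hs
  refine ⟨Set.range v, fun t ht => ?_, v.isOpenMap.isOpen_range, hsv⟩
  obtain ⟨E⟩ := key t ht
  exact ⟨E ≪≫ PinTransport.dsIso ε.symm⟩

/-- **The rank of a torus over a connected base.** -/
theorem exists_rank [ConnectedSpace S] {T : Over S} [GrpObj T] (hT : Red.IsTorus T) :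
    ∃ r : ℕ, ∀ s : S, Red.IsSplitTorusWith (Fin r → ℤ) (Red.geomFibre s T) := by
  obtain ⟨s₀⟩ : Nonempty S := inferInstance
  obtain ⟨r, hr⟩ := TorusAlgClosed.exists_isSplitTorusWith (TorusBc.isTorus_bc (Red.geomPt s₀) hT)
  refine ⟨r, fun s => ?_⟩
  have hcl : IsClosed (P T r) := by
    rw [← isOpen_compl_iff]
    have : (P T r)ᶜ = ⋃ n ∈ {n : ℕ | n ≠ r}, P T n := by
      ext t
      simp only [Set.mem_compl_iff, Set.mem_iUnion, Set.mem_ofPred_eq, exists_prop]
      constructor
      · intro ht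
        obtain ⟨n, hn⟩ := TorusAlgClosed.exists_isSplitTorusWith (TorusBc.isTorus_bc (Red.geomPt t) hT)
        refine ⟨n, ?_, hn⟩
        rintro rfl
        exact ht hn
      · rintro ⟨n, hn, ht⟩ ht'
        exact hn (rank_unique ht ht')
    rw [this]
    exact isOpen_biUnion fun n _ => isOpen_P hT n
  have h1 : P T r = Set.univ := IsClopen.eq_univ ⟨hcl, isOpen_P hT r⟩ ⟨s₀, hr⟩
  have : s ∈ P T r := h1 ▸ Set.mem_univ s
  exact this

/-- `ℤ^r / n ≃ (ℤ/n)^r`. -/
theorem exists_quot (n r : ℕ) : Nonempty (((Fin r → ℤ) ⧸ nM n (Fin r → ℤ)) ≃+ (Fin r → ZMod n)) := by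
  let f : (Fin r → ℤ) →+ (Fin r → ZMod n) :=
    { toFun := fun x i => (x i : ZMod n), map_zero' := by ext; simp, map_add' := fun x y => by ext; simp }
  have hf : Function.Surjective f := fun y => by
    choose x hx using fun i => ZMod.intCast_surjective (y i)
    exact ⟨x, funext hx⟩
  have hk : nM n (Fin r → ℤ) = f.ker := by
    ext x
    rw [AddMonoidHom.mem_ker]
    constructor
    · rintro ⟨y, rfl⟩
      ext i
      simp [f]
    · intro hx
      have h1 : ∀ i, (n : ℤ) ∣ x i := fun i => by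
        have := congrFun hx i
        exact (ZMod.intCast_zmod_eq_zero_iff_dvd _ _).1 (by simpa [f] using this)
      choose y hy using h1
      refine ⟨y, ?_⟩
      ext i
      simp [hy i]
  exact ⟨(QuotientAddGroup.quotientAddEquivOfEq hk).trans (QuotientAddGroup.quotientKerEquivOfSurjective f hf)⟩

end K18.TorRank
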