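import Groth.Agent.SGA3x.K18.StrLoc
import Groth.Agent.S5286
import Groth.Agent.Sga3C.LocConn

/-!
# Uniqueness of subtori with given torsion, `G` not necessarily separated

`G` of finite type over a locally noetherian scheme, `T₁`, `T₂` subtori of `G` with the same `q`-power torsion. Then
`T₁ = T₂`.
-/

set_option autoImplicit false
universe u
open CategoryTheory MonoidalCategory CartesianMonoidalCategory MonObj GrpObj AlgebraicGeometry Limits IsLocalRing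

namespace K18.TorUniq

open Groth.Agent Groth.Agent.Sga3B Groth.Agent.Sga3B.BcPts Groth.Agent.Sga3B.RedIso Groth.Agent.Sga3B.BcNat
  K13.NTorsion K211.TorsQ Groth.Agent.Sga3.H786.TCAff K18.TorTrait K18.StrSplit K18.TorSpec

variable {S S' : Scheme.{u}} {q : ℕ}

/-- The `q`-power torsion of `a` is contained in the image of `b`. -/
def TorsLe (q : ℕ) {G T₁ T₂ : Over S} [GrpObj T₁] (a : T₁ ⟶ G) (b : T₂ ⟶ G) : Prop :=
  ∀ (X : Over S) (x : X ⟶ T₁) (k : ℕ), x ^ (q ^ k) = 1 → ∃ y : X ⟶ T₂, y ≫ b = x ≫ a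

theorem TorsLe.bc {G T₁ T₂ : Over S} [GrpObj T₁] {a : T₁ ⟶ G} {b : T₂ ⟶ G} (h : TorsLe q a b) (v : S' ⟶ S) :
    TorsLe q ((Over.pullback v).map a) ((Over.pullback v).map b) := by
  intro X x k hx
  obtain ⟨y, hy⟩ := h _ ((bcEquiv v X T₁).symm x) k (by
    change ((bcMulEquiv v X T₁).symm x) ^ (q ^ k) = 1
    rw [← map_pow]
    exact (congrArg _ hx).trans (map_one _))
  refine ⟨bcEquiv v X T₂ y, ?_⟩
  rw [← bcEquiv_comp, hy, bcEquiv_comp, Equiv.apply_symm_apply]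

/-- Triviality of countably many homomorphisms near a point. -/
theorem exists_nhd {B : Type u} [CommRing B] [IsNoetherianRing B] (s : ↥(Spec (CommRingCat.of B)))
    {H : ℕ → Over (Spec (CommRingCat.of B))} [∀ k, GrpObj (H k)] (hH : ∀ k, SGA3x.IsMultTypeFT (H k))
    {T : Over (Spec (CommRingCat.of B))} [GrpObj T] [IsSeparated T.hom] (u : ∀ k, H k ⟶ T) (hu : ∀ k, IsMonHom (u k))
    (h : ∀ k, (Over.pullback ((Spec (CommRingCat.of B)).fromSpecResidueField s)).map (u k) = 1) :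
    ∃ f : B, f ∉ s.asIdeal ∧ ∀ k,
      (Over.pullback (Spec.map (CommRingCat.ofHom (algebraMap B (Localization.Away f))))).map (u k) = 1 := by
  have hnoe : IsLocallyNoetherian (Spec (CommRingCat.of B)) := inferInstance
  have hlc := Groth.Agent.Sga3C.LocConn.locallyConnectedSpace_of_isLocallyNoetherian (Spec (CommRingCat.of B))
  choose U hUc hU hU1 using fun k => Groth.Agent.S5286.result (H k) T (hH k) (Or.inl hnoe) (u k)
  have hC : ∀ k, connectedComponent s ⊆ (U k : Set _) := fun k =>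
    IsClopen.connectedComponent_subset ⟨hUc k, (U k).2⟩ ((hU k s).2 (h k))
  obtain ⟨_, ⟨f, rfl⟩, hf, hfC⟩ := PrimeSpectrum.isTopologicalBasis_basic_opens.exists_subset_of_mem_open
    (mem_connectedComponent (x := s)) (isOpen_connectedComponent (x := s))
  refine ⟨f, hf, fun k => ?_⟩
  let v : Spec (CommRingCat.of (Localization.Away f)) ⟶ Spec (CommRingCat.of B) :=
    Spec.map (CommRingCat.ofHom (algebraMap B (Localization.Away f)))
  have hr : Set.range v ⊆ Set.range (U k).ι := by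
    rw [Scheme.Opens.range_ι]
    rintro _ ⟨x, rfl⟩
    refine hC k (hfC ?_)
    have h1 := PrimeSpectrum.localization_away_comap_range (Localization.Away f) f
    change v x ∈ ((PrimeSpectrum.basicOpen f : TopologicalSpace.Opens (PrimeSpectrum B)) : Set (PrimeSpectrum B))
    rw [← h1]
    exact ⟨x, rfl⟩
  have hv : IsOpenImmersion.lift (U k).ι v hr ≫ (U k).ι = v := IsOpenImmersion.lift_fac _ _ _
  have h2 := (K9.PtsAux.map_eq_one_iff (f := (U k).ι) (u k)).1 (hU1 k)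
  refine (K9.PtsAux.map_eq_one_iff (f := v) (u k)).2 fun Y t x => h2 Y (Over.homMk (t.left ≫ IsOpenImmersion.lift (U k).ι v hr) ?_) x
  change (t.left ≫ IsOpenImmersion.lift (U k).ι v hr) ≫ (U k).ι = Y.hom
  rw [Category.assoc, hv]
  exact Over.w t

/-- The fibres. -/
theorem exists_fibre (hq : 1 < q) {G T₁ T₂ : Over S} [GrpObj G] [GrpObj T₁] [GrpObj T₂] [QuasiCompact G.hom]
    [LocallyOfFiniteType G.hom] (h₁ : Red.IsTorus T₁) (h₂ : Red.IsTorus T₂) (a : T₁ ⟶ G) (b : T₂ ⟶ G) [IsMonHom a]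
    [Mono a] [IsMonHom b] [Mono b] (hab : TorsLe q a b) (hba : TorsLe q b a) (s : S) :
    ∃ e : Red.bc (S.fromSpecResidueField s) T₁ ≅ Red.bc (S.fromSpecResidueField s) T₂,
      e.hom ≫ (Over.pullback (S.fromSpecResidueField s)).map b = (Over.pullback (S.fromSpecResidueField s)).map a := by
  have c1 := isSeparated_fibre s G
  have c2 : LocallyOfFiniteType (Red.bc (S.fromSpecResidueField s) G).hom :=
    inferInstanceAs (LocallyOfFiniteType (pullback.snd G.hom _))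
  have c3 : QuasiCompact (Red.bc (S.fromSpecResidueField s) G).hom :=
    inferInstanceAs (QuasiCompact (pullback.snd G.hom _))
  have hT₁ := TorusBc.isTorus_bc (S.fromSpecResidueField s) h₁
  have hT₂ := TorusBc.isTorus_bc (S.fromSpecResidueField s) h₂
  exact TorU.exists_iso hq hT₁ hT₂ _ _
    (Groth.Agent.Sga3.H798.TorusClosed.isClosedImmersion_of_torus (G := Red.bc (S.fromSpecResidueField s) G) _ hT₁)
    (Groth.Agent.Sga3.H798.TorusClosed.isClosedImmersion_of_torus (G := Red.bc (S.fromSpecResidueField s) G) _ hT₂)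
    (hab.bc _) (hba.bc _)

lemma hom_ext_ds {C : Type u} [CommRing C] {r : ℕ} (hq : 1 < q) (v : Spec (CommRingCat.of C) ⟶ S) {G T : Over S}
    [GrpObj G] [GrpObj T] (e : Grp.mk T ≅ Grp.mk (Red.DS S (Fin r → ℤ))) {a b : T ⟶ G}
    (h : ∀ k, (Over.pullback v).map (Red.DSmap S (cz r (q ^ k)) ≫ (und e).inv ≫ a) =
      (Over.pullback v).map (Red.DSmap S (cz r (q ^ k)) ≫ (und e).inv ≫ b)) :
    (Over.pullback v).map a = (Over.pullback v).map b := by
  have h1 : (und (TorusAlgClosed.dsBcIso v (Fin r → ℤ))).inv ≫ (Over.pullback v).map ((und e).inv ≫ a) =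
      (und (TorusAlgClosed.dsBcIso v (Fin r → ℤ))).inv ≫ (Over.pullback v).map ((und e).inv ≫ b) := by
    refine eq_of_cz (G := Red.bc v G) hq fun k => ?_
    have h2 := congrArg (fun z => (und (TorusAlgClosed.dsBcIso v (Fin r → ZMod (q ^ k)))).inv ≫ z) (h k)
    rw [← Category.assoc, ← Category.assoc, ← StrLoc.ds_nat_inv, Category.assoc, Category.assoc, ← Functor.map_comp,
      ← Functor.map_comp]
    exact h2
  rw [cancel_epi, Functor.map_comp, Functor.map_comp, cancel_epi] at h1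
  exact h1

lemma lift_aux {K : Type u} [Field K] (w : Spec (CommRingCat.of K) ⟶ S) {r₁ r₂ : ℕ} {G T₁ T₂ : Over S} [GrpObj G]
    [GrpObj T₁] [GrpObj T₂] (e₁ : Grp.mk T₁ ≅ Grp.mk (Red.DS S (Fin r₁ → ℤ)))
    (e₂ : Grp.mk T₂ ≅ Grp.mk (Red.DS S (Fin r₂ → ℤ))) (a : T₁ ⟶ G) (b : T₂ ⟶ G) [IsMonHom a] [IsMonHom b] [Mono b]
    (ε : Red.bc w T₁ ≅ Red.bc w T₂) (hε : ε.hom ≫ (Over.pullback w).map b = (Over.pullback w).map a) :
    ∃ ψ : T₁ ⟶ T₂, IsMonHom ψ ∧ (Over.pullback w).map ψ = ε.hom := by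
  have hεm : IsMonHom ε.hom := K388.SubDescGrp.isMonHom_of_comp ε.hom ((Over.pullback w).map b) (by
    rw [hε]; infer_instance)
  exact exists_lift w e₁ e₂ ε.hom

lemma map_eq_iff (v : S' ⟶ S) {X Z : Over S} (a b : X ⟶ Z) : (Over.pullback v).map a = (Over.pullback v).map b ↔
    ∀ (T : Over S) (_ : T ⟶ Over.mk v) (x : T ⟶ X), x ≫ a = x ≫ b := by
  constructor
  · intro h T t x
    rw [← K9.PtsAux.ev_map (f := v) a x t, h, K9.PtsAux.ev_map]
  · intro h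
    apply K9.PtsAux.fam_injective
    rw [BcPts.fam, K9.PtsAux.ev_map, BcPts.fam, K9.PtsAux.ev_map]
    exact h (X ⊗ Over.mk v) (snd _ _) (fst _ _)

lemma isMonHom_div {T H : Over S} [GrpObj T] [GrpObj H] (hcomm : ∀ (X : Over S) (x y : X ⟶ T), x * y = y * x)
    (x y : H ⟶ T) [IsMonHom x] [IsMonHom y] : IsMonHom (x * y⁻¹) := by
  refine IsoFam.isMonHom_of_mul _ fun X p r => ?_
  rw [MonObj.comp_mul, MonObj.comp_mul, MonObj.comp_mul, GrpObj.comp_inv, GrpObj.comp_inv, GrpObj.comp_inv,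
    MonObj.mul_comp p r x, MonObj.mul_comp p r y, _root_.mul_inv_rev, hcomm _ ((r ≫ y)⁻¹), _root_.mul_assoc,
    _root_.mul_assoc, ← _root_.mul_assoc (r ≫ x), hcomm _ (r ≫ x), _root_.mul_assoc]

lemma div_iff {T H : Over S} [GrpObj T] (v : S' ⟶ S) (x y : H ⟶ T) :
    (Over.pullback v).map (x * y⁻¹) = 1 ↔ (Over.pullback v).map x = (Over.pullback v).map y := by
  rw [K9.PtsAux.map_eq_one_iff, map_eq_iff]
  refine forall_congr' fun X => forall_congr' fun t => forall_congr' fun p => ?_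
  rw [MonObj.comp_mul, GrpObj.comp_inv, mul_inv_eq_one]

/-- The local case. -/
theorem exists_local (hq : 1 < q) {B : Type u} [CommRing B] [IsNoetherianRing B] {r₁ r₂ : ℕ}
    {G T₁ T₂ : Over (Spec (CommRingCat.of B))} [GrpObj G] [GrpObj T₁] [GrpObj T₂] [QuasiCompact G.hom]
    [LocallyOfFiniteType G.hom] (h₁ : Red.IsSplitTorusWith (Fin r₁ → ℤ) T₁) (h₂ : Red.IsSplitTorusWith (Fin r₂ → ℤ) T₂)
    (a : T₁ ⟶ G) (b : T₂ ⟶ G) [IsMonHom a] [Mono a] [IsMonHom b] [Mono b] (hab : TorsLe q a b) (hba : TorsLe q b a)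
    (s : ↥(Spec (CommRingCat.of B))) : ∃ f : B, f ∉ s.asIdeal ∧ ∃ (v : Spec (CommRingCat.of (Localization.Away f)) ⟶
      Spec (CommRingCat.of B)), v = Spec.map (CommRingCat.ofHom (algebraMap B (Localization.Away f))) ∧
      ∃ y : Red.bc v T₁ ⟶ Red.bc v T₂, y ≫ (Over.pullback v).map b = (Over.pullback v).map a := by
  have ht₁ := isTorus_of_isSplitTorusWith h₁
  have ht₂ := isTorus_of_isSplitTorusWith h₂
  obtain ⟨ε, hε⟩ := exists_fibre hq ht₁ ht₂ a b hab hba s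
  obtain ⟨e₁⟩ := h₁
  obtain ⟨e₂⟩ := h₂
  have i1 := isMonHom_und_inv e₁
  have i2 := isMonHom_und_inv e₂
  have i1' := isMonHom_und e₁
  have i2' := isMonHom_und e₂
  obtain ⟨ψ, hψm, hψ⟩ := lift_aux (K := (Spec (CommRingCat.of B)).residueField s)
    ((Spec (CommRingCat.of B)).fromSpecResidueField s) e₁ e₂ a b ε hε
  have hcz : ∀ k, IsMonHom (Red.DSmap (Spec (CommRingCat.of B)) (cz r₁ (q ^ k))) := fun k =>
    K197.TorChart.isMonHom_DSmap _ _
  obtain ⟨c, hc⟩ : ∃ c : ∀ k, Red.DS (Spec (CommRingCat.of B)) (Fin r₁ → ZMod (q ^ k)) ⟶ T₁,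
    ∀ k, c k = Red.DSmap _ (cz r₁ (q ^ k)) ≫ (und e₁).inv := ⟨_, fun k => rfl⟩
  have hcm : ∀ k, IsMonHom (c k) := fun k => by rw [hc]; infer_instance
  have hc1 : ∀ k, (c k) ^ (q ^ k) = 1 := by
    intro k
    rw [hc, ← TorU.pow_post i1, DSmap_cz_pow]
    exact MonObj.one_comp _
  choose t ht using fun k => hab _ (c k) k (hc1 k)
  have htm : ∀ k, IsMonHom (t k) := fun k =>
    K388.SubDescGrp.isMonHom_of_comp (t k) b (by rw [ht]; infer_instance)
  have hts : ∀ k, (Over.pullback ((Spec (CommRingCat.of B)).fromSpecResidueField s)).map (t k) =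
      (Over.pullback ((Spec (CommRingCat.of B)).fromSpecResidueField s)).map (c k ≫ ψ) := by
    intro k
    rw [← cancel_mono ((Over.pullback ((Spec (CommRingCat.of B)).fromSpecResidueField s)).map b), ← Functor.map_comp,
      ht, Functor.map_comp, Functor.map_comp, Category.assoc, hψ, hε]
  have hsep : IsSeparated (Red.DS (Spec (CommRingCat.of B)) (Fin r₂ → ℤ)).hom := by
    have := (Groth.Agent.Sga3.H798.TorusClosed.torus_props (isTorus_of_isSplitTorusWith (r := r₂)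
      (T := Red.DS (Spec (CommRingCat.of B)) (Fin r₂ → ℤ)) ⟨Iso.refl _⟩)).1
    infer_instance
  obtain ⟨f, hf, hfu⟩ := exists_nhd s (H := fun k => Red.DS (Spec (CommRingCat.of B)) (Fin r₁ → ZMod (q ^ k)))
    (fun k => by
      have : NeZero (q ^ k) := ⟨pow_ne_zero _ (by omega)⟩
      exact K10.MTLoc.of_split (M := Fin r₁ → ZMod (q ^ k)) inferInstance ⟨Iso.refl _⟩)
    (fun k => (t k ≫ (und e₂).hom) * ((c k ≫ ψ) ≫ (und e₂).hom)⁻¹) (fun k => isMonHom_div (fun _ _ _ => Par.CanRig.ds_mul_comm _ _) _ _)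
    (fun k => (div_iff _ _ _).2 (by rw [Functor.map_comp, hts k, ← Functor.map_comp]))
  refine ⟨f, hf, _, rfl, (Over.pullback _).map ψ, ?_⟩
  rw [← Functor.map_comp]
  refine hom_ext_ds hq _ e₁ fun k => ?_
  have hL : Red.DSmap _ (cz r₁ (q ^ k)) ≫ (und e₁).inv ≫ ψ ≫ b = (c k ≫ ψ) ≫ b := by
    rw [hc, Category.assoc, Category.assoc]
  have hR : Red.DSmap _ (cz r₁ (q ^ k)) ≫ (und e₁).inv ≫ a = t k ≫ b := by
    rw [ht, hc, Category.assoc]
  rw [hL, hR, Functor.map_comp _ (c k ≫ ψ), Functor.map_comp _ (t k)]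
  refine congrArg (fun z => z ≫ (Over.pullback _).map b) ?_
  have h5 := (div_iff _ _ _).1 (hfu k)
  rw [Functor.map_comp, Functor.map_comp, cancel_mono] at h5
  exact h5.symm

lemma fac_comp {S'' : Scheme.{u}} {w : S'' ⟶ S'} {v : S' ⟶ S} {G T₁ T₂ : Over S} [GrpObj G] [GrpObj T₁] [GrpObj T₂]
    (a : T₁ ⟶ G) (b : T₂ ⟶ G) (y : Red.bc w (Red.bc v T₁) ⟶ Red.bc w (Red.bc v T₂))
    (hy : y ≫ (Over.pullback w).map ((Over.pullback v).map b) = (Over.pullback w).map ((Over.pullback v).map a)) :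
    ∃ y', y' ≫ (Over.pullback (w ≫ v)).map b = (Over.pullback (w ≫ v)).map a := by
  refine ⟨(und (BcIso.bcCompIso w v T₁)).hom ≫ y ≫ (und (BcIso.bcCompIso w v T₂)).inv, ?_⟩
  rw [Category.assoc, Category.assoc, comp_nat_inv, ← Category.assoc y, hy, ← Category.assoc, comp_nat, Category.assoc,
    Iso.hom_inv_id, Category.comp_id]

/-- Factorization. -/
theorem exists_factor (hq : 1 < q) [IsLocallyNoetherian S] {G T₁ T₂ : Over S} [GrpObj G] [GrpObj T₁] [GrpObj T₂]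
    [QuasiCompact G.hom] [LocallyOfFiniteType G.hom] (h₁ : Red.IsTorus T₁) (h₂ : Red.IsTorus T₂) (a : T₁ ⟶ G)
    (b : T₂ ⟶ G) [IsMonHom a] [Mono a] [IsMonHom b] [Mono b] (hab : TorsLe q a b) (hba : TorsLe q b a) :
    ∃ φ : T₁ ⟶ T₂, φ ≫ b = a := by
  refine K197.LocP.exists_fac b a fun s => ?_
  obtain ⟨B, _, v, r₁, hv, ⟨p, hp⟩, e₁⟩ := TorusEtLoc920.exists_etale_split T₁ h₁ s
  obtain ⟨B', _, v', r₂, hv', ⟨p', hp'⟩, e₂⟩ := TorusEtLoc920.exists_etale_split (Red.bc v T₂) (TorusBc.isTorus_bc v h₂) p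
  have hlft : LocallyOfFiniteType (v' ≫ v) := inferInstance
  have hnoe : IsLocallyNoetherian (Spec (CommRingCat.of B')) := LocallyOfFiniteType.isLocallyNoetherian (v' ≫ v)
  have hnoe' : IsNoetherianRing B' := isLocallyNoetherian_Spec.1 hnoe
  obtain ⟨e₁'⟩ := TorusAlgClosed.isSplitTorusWith_bc v' e₁
  obtain ⟨e₂'⟩ := e₂
  have c2 : LocallyOfFiniteType (Red.bc (v' ≫ v) G).hom := inferInstanceAs (LocallyOfFiniteType (pullback.snd G.hom (v' ≫ v)))
  have c3 : QuasiCompact (Red.bc (v' ≫ v) G).hom := inferInstanceAs (QuasiCompact (pullback.snd G.hom (v' ≫ v)))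
  obtain ⟨f, hf, w, hw, y, hy⟩ := exists_local hq (T₁ := Red.bc (v' ≫ v) T₁) (T₂ := Red.bc (v' ≫ v) T₂)
    (G := Red.bc (v' ≫ v) G) (r₁ := r₁) (r₂ := r₂) ⟨BcIso.bcCompIso v' v T₁ ≪≫ e₁'⟩ ⟨BcIso.bcCompIso v' v T₂ ≪≫ e₂'⟩
    _ _ (hab.bc (v' ≫ v)) (hba.bc (v' ≫ v)) p'
  have hwo : IsOpenImmersion w := by
    rw [hw]
    exact inferInstance
  have hws : p' ∈ Set.range w := by
    rw [hw]
    have h1 := PrimeSpectrum.localization_away_comap_range (Localization.Away f) f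
    have h2 : p' ∈ ((PrimeSpectrum.basicOpen f : TopologicalSpace.Opens (PrimeSpectrum B')) : Set (PrimeSpectrum B')) := hf
    rw [← h1] at h2
    exact h2
  obtain ⟨p'', hp''⟩ := hws
  refine ⟨_, w ≫ (v' ≫ v), inferInstance, inferInstance, ⟨p'', ?_⟩, ?_⟩
  · rw [Scheme.Hom.comp_apply, hp'', Scheme.Hom.comp_apply, hp', hp]
  · exact fac_comp a b y hy

/-- **Uniqueness of subtori with given torsion.** -/
theorem exists_iso (hq : 1 < q) [IsLocallyNoetherian S] {G T₁ T₂ : Over S} [GrpObj G] [GrpObj T₁] [GrpObj T₂]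
    [QuasiCompact G.hom] [LocallyOfFiniteType G.hom] (h₁ : Red.IsTorus T₁) (h₂ : Red.IsTorus T₂) (a : T₁ ⟶ G)
    (b : T₂ ⟶ G) [IsMonHom a] [Mono a] [IsMonHom b] [Mono b] (hab : TorsLe q a b) (hba : TorsLe q b a) :
    ∃ φ : T₁ ≅ T₂, φ.hom ≫ b = a := by
  obtain ⟨φ, hφ⟩ := exists_factor hq h₁ h₂ a b hab hba
  obtain ⟨ψ, hψ⟩ := exists_factor hq h₂ h₁ b a hba hab
  refine ⟨⟨φ, ψ, ?_, ?_⟩, hφ⟩
  · rw [← cancel_mono a, Category.assoc, hψ, hφ, Category.id_comp]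
  · rw [← cancel_mono b, Category.assoc, hφ, hψ, Category.id_comp]

lemma torsLe_of_isKernel {G T₁ T₂ : Over S} [GrpObj G] [GrpObj T₁] [GrpObj T₂] {M : ℕ → Over S} {m : ∀ k, M k ⟶ G}
    {a : T₁ ⟶ G} {b : T₂ ⟶ G} (h₁ : ∀ k, ∃ g : M k ⟶ T₁, g ≫ a = m k ∧ AlgGrp.IsKernel g ((𝟙 T₁ : T₁ ⟶ T₁) ^ (q ^ k)))
    (h₂ : ∀ k, ∃ g : M k ⟶ T₂, g ≫ b = m k ∧ AlgGrp.IsKernel g ((𝟙 T₂ : T₂ ⟶ T₂) ^ (q ^ k))) : TorsLe q a b := by
  intro X x k hx
  obtain ⟨g, hg, hg'⟩ := h₁ k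
  obtain ⟨g₂, hg₂, -⟩ := h₂ k
  obtain ⟨y, rfl⟩ := ((TorsFam.isTor_of_isKernel g hg').pts X x).2 hx
  exact ⟨y ≫ g₂, by rw [Category.assoc, hg₂, Category.assoc, hg]⟩

/-- **Uniqueness**, in the form of S8438. -/
theorem main {A : Type u} [CommRing A] [IsNoetherianRing A] {G : Over (Spec (CommRingCat.of A))} [GrpObj G]
    [QuasiCompact G.hom] [LocallyOfFiniteType G.hom] (hq : 1 < q) {M : ℕ → Over (Spec (CommRingCat.of A))}
    {m : ∀ k, M k ⟶ G} (T₁ T₂ : Over (Spec (CommRingCat.of A))) [GrpObj T₁] [GrpObj T₂] (j₁ : T₁ ⟶ G) (j₂ : T₂ ⟶ G)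
    [IsMonHom j₁] [Mono j₁] [IsMonHom j₂] [Mono j₂] (hT₁ : Red.IsTorus T₁) (hT₂ : Red.IsTorus T₂)
    (h₁ : ∀ k, ∃ g : M k ⟶ T₁, g ≫ j₁ = m k ∧ AlgGrp.IsKernel g ((𝟙 T₁ : T₁ ⟶ T₁) ^ (q ^ k)))
    (h₂ : ∀ k, ∃ g : M k ⟶ T₂, g ≫ j₂ = m k ∧ AlgGrp.IsKernel g ((𝟙 T₂ : T₂ ⟶ T₂) ^ (q ^ k))) :
    ∃ φ : T₁ ≅ T₂, φ.hom ≫ j₂ = j₁ :=
  exists_iso hq hT₁ hT₂ j₁ j₂ (torsLe_of_isKernel h₁ h₂) (torsLe_of_isKernel h₂ h₁)

end K18.TorUniq
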