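import Groth.Agent.SGA3x.K18.Hada

/-!
# The group algebra `C[M]` and its quotients `C[M / q ^ k M]`

Main result: `bijective_of_hada`.
-/

set_option autoImplicit false
universe u

namespace K18.TorsAlg

open scoped TensorProduct

variable (q : ℕ) (M : Type) [AddCommGroup M]

/-- `⋂ q ^ k M = 0` -/
def Sep : Prop := ∀ m : M, (∀ k : ℕ, ∃ n : M, (q ^ k) • n = m) → m = 0

/-- `q ^ k M` -/
abbrev N (k : ℕ) : AddSubgroup M := (nsmulAddMonoidHom (α := M) (q ^ k)).range

/-- `M / q ^ k M` -/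
abbrev Qt (k : ℕ) : Type := M ⧸ N q M k

/-- `M ⟶ M / q ^ k M` -/
def pr (k : ℕ) : Multiplicative M →* Multiplicative (Qt q M k) :=
  AddMonoidHom.toMultiplicative (QuotientAddGroup.mk' (N q M k))

lemma N_anti {k l : ℕ} (h : k ≤ l) : N q M l ≤ N q M k := by
  rintro _ ⟨n, rfl⟩
  refine ⟨(q ^ (l - k)) • n, ?_⟩
  change (q ^ k) • (q ^ (l - k)) • n = (q ^ l) • n
  rw [← mul_nsmul', ← pow_add, Nat.add_sub_cancel' h]

/-- transition maps -/
def tr (k l : ℕ) (h : k ≤ l) : Multiplicative (Qt q M l) →* Multiplicative (Qt q M k) :=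
  AddMonoidHom.toMultiplicative (QuotientAddGroup.map _ _ (AddMonoidHom.id M) (N_anti q M h))

lemma tr_pr (k l : ℕ) (h : k ≤ l) (m : Multiplicative M) : tr q M k l h (pr q M l m) = pr q M k m := rfl

lemma pr_pow (k : ℕ) (m : Multiplicative M) : pr q M k m ^ (q ^ k) = 1 := by
  rw [← map_pow]
  change Multiplicative.ofAdd (QuotientAddGroup.mk (s := N q M k) ((q ^ k) • m.toAdd)) = 1
  have h : (QuotientAddGroup.mk (s := N q M k) ((q ^ k) • m.toAdd)) = 0 :=
    (QuotientAddGroup.eq_zero_iff _).mpr ⟨m.toAdd, rfl⟩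
  rw [h]
  rfl

variable {q M}

lemma exists_injOn (hM : Sep q M) (F : Finset (Multiplicative M)) : ∃ k, ∀ l, k ≤ l → Set.InjOn (pr q M l) F := by
  classical
  have h1 : ∀ m : M, ∃ k, m ≠ 0 → m ∉ N q M k := by
    intro m
    by_cases hm : m = 0
    · exact ⟨0, fun h => absurd hm h⟩
    · by_contra hc
      push Not at hc
      exact hm (hM m fun k => by
        obtain ⟨n, hn⟩ := (hc k).2
        exact ⟨n, hn⟩)
  choose κ hκ using h1
  refine ⟨(F ×ˢ F).sup fun x => κ (x.1.toAdd - x.2.toAdd), fun l hl x hx y hy hxy => ?_⟩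
  by_contra hne
  have h2 : x.toAdd - y.toAdd ≠ 0 := fun h => hne (Multiplicative.toAdd.injective (sub_eq_zero.mp h))
  have h3 : κ (x.toAdd - y.toAdd) ≤ l := le_trans (Finset.le_sup (f := fun x : Multiplicative M × Multiplicative M =>
    κ (x.1.toAdd - x.2.toAdd)) (b := (x, y)) (Finset.mem_product.mpr ⟨hx, hy⟩)) hl
  refine hκ _ h2 (N_anti q M h3 ?_)
  have h4 : (QuotientAddGroup.mk (s := N q M l) y.toAdd) = QuotientAddGroup.mk x.toAdd :=
    Multiplicative.ofAdd.injective hxy.symm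
  have h5 := QuotientAddGroup.eq.mp h4
  rwa [neg_add_eq_sub] at h5

lemma Sep.prod {M' : Type} [AddCommGroup M'] (h : Sep q M) (h' : Sep q M') : Sep q (M × M') := by
  intro m hm
  ext
  · exact h _ fun k => by
      obtain ⟨n, hn⟩ := hm k
      exact ⟨n.1, congrArg Prod.fst hn⟩
  · exact h' _ fun k => by
      obtain ⟨n, hn⟩ := hm k
      exact ⟨n.2, congrArg Prod.snd hn⟩

lemma Sep.pi {ι : Type} {F : ι → Type} [∀ i, AddCommGroup (F i)] (h : ∀ i, Sep q (F i)) : Sep q (∀ i, F i) := by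
  intro m hm
  funext i
  exact h i _ fun k => by
    obtain ⟨n, hn⟩ := hm k
    exact ⟨n i, congrFun hn i⟩

lemma sep_int (hq : 1 < q) : Sep q ℤ := by
  intro m hm
  by_contra hne
  obtain ⟨n, hn⟩ := hm m.natAbs
  have h1 : q ^ m.natAbs ∣ m.natAbs := by
    rw [← Int.natCast_dvd]
    exact Dvd.intro n (by simpa using hn)
  have h2 := Nat.le_of_dvd (Int.natAbs_pos.mpr hne) h1
  exact absurd h2 (not_le.mpr (Nat.lt_pow_self hq))

variable (q M)
variable (C : Type u) [CommRing C]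

/-- `C[M] ⟶ C[M / q ^ k M]` -/
noncomputable abbrev red (k : ℕ) :
    MonoidAlgebra C (Multiplicative M) →ₐ[C] MonoidAlgebra C (Multiplicative (Qt q M k)) :=
  MonoidAlgebra.mapDomainAlgHom C C (pr q M k)

/-- `C[M / q ^ l M] ⟶ C[M / q ^ k M]` -/
noncomputable abbrev trA (k l : ℕ) (h : k ≤ l) :
    MonoidAlgebra C (Multiplicative (Qt q M l)) →ₐ[C] MonoidAlgebra C (Multiplicative (Qt q M k)) :=
  MonoidAlgebra.mapDomainAlgHom C C (tr q M k l h)

variable {q M C}

lemma coeff_mapDomainAlgHom {A Γ Γ' : Type*} [CommRing A] [Monoid Γ] [Monoid Γ'] (f : Γ →* Γ')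
    (x : MonoidAlgebra A Γ) : (MonoidAlgebra.mapDomainAlgHom A A f x).coeff = Finsupp.mapDomain f x.coeff := rfl

lemma eq_zero_of_red (hM : Sep q M) (b : MonoidAlgebra C (Multiplicative M)) (h : ∀ k, red q M C k b = 0) : b = 0 := by
  obtain ⟨k, hk⟩ := exists_injOn hM b.coeff.support
  have h1 := congrArg (fun x => x.coeff) (h k)
  rw [coeff_mapDomainAlgHom] at h1
  have h2 : b.coeff = 0 := by
    refine Finsupp.mapDomain_injOn (b.coeff.support : Set (Multiplicative M)) (hk k le_rfl) (Set.mem_ofPred.mpr subset_rfl)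
      (by simp) ?_
    rw [h1]
    simp
  exact MonoidAlgebra.coeff_injective (by rw [h2]; rfl)

/-- the coefficient at `g` -/
def cf {A Γ : Type*} [CommRing A] (g : Γ) : MonoidAlgebra A Γ →ₗ[A] A where
  toFun x := x.coeff g
  map_add' x y := by simp
  map_smul' a x := by simp

/-- the first tautological character of `A[Γ] ⊗ A[Γ]` -/
noncomputable def ch₁ (A : Type*) {A' : Type*} [CommRing A] [CommRing A'] [Algebra A A'] (Γ : Type*) [CommMonoid Γ] :
    Γ →* MonoidAlgebra A' Γ ⊗[A] MonoidAlgebra A' Γ :=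
  ((Algebra.TensorProduct.includeLeft : _ →ₐ[A] MonoidAlgebra A' Γ ⊗[A] MonoidAlgebra A' Γ) : _ →* _).comp
    (MonoidAlgebra.of A' Γ)

/-- the second tautological character of `A[Γ] ⊗ A[Γ]` -/
noncomputable def ch₂ (A : Type*) {A' : Type*} [CommRing A] [CommRing A'] [Algebra A A'] (Γ : Type*) [CommMonoid Γ] :
    Γ →* MonoidAlgebra A' Γ ⊗[A] MonoidAlgebra A' Γ :=
  ((Algebra.TensorProduct.includeRight : _ →ₐ[A] MonoidAlgebra A' Γ ⊗[A] MonoidAlgebra A' Γ) : _ →* _).comp
    (MonoidAlgebra.of A' Γ)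

/-- the comultiplication -/
noncomputable def dl (A : Type*) {A' : Type*} [CommRing A] [CommRing A'] [Algebra A A'] (Γ : Type*) [CommMonoid Γ] :
    MonoidAlgebra A' Γ →ₐ[A] MonoidAlgebra A' Γ ⊗[A] MonoidAlgebra A' Γ :=
  (MonoidAlgebra.lift A' (MonoidAlgebra A' Γ ⊗[A] MonoidAlgebra A' Γ) Γ (ch₁ A Γ * ch₂ A Γ)).restrictScalars A

lemma dl_of {A A' : Type*} [CommRing A] [CommRing A'] [Algebra A A'] (Γ : Type*) [CommMonoid Γ] (g : Γ) :
    dl A (A' := A') Γ (MonoidAlgebra.of A' Γ g) = ch₁ A (A' := A') Γ g * ch₂ A (A' := A') Γ g := by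
  simp [dl]

/-- the diagonal coefficient at `g` -/
noncomputable def dcf {A Γ : Type*} [CommRing A] [CommMonoid Γ] (g : Γ) :
    MonoidAlgebra A Γ ⊗[A] MonoidAlgebra A Γ →ₗ[A] A :=
  (LinearMap.mul' A A).comp (TensorProduct.map (cf g) (cf g))

lemma dcf_tmul {A Γ : Type*} [CommRing A] [CommMonoid Γ] (g : Γ) (x y : MonoidAlgebra A Γ) :
    dcf g (x ⊗ₜ[A] y) = x.coeff g * y.coeff g := rfl

lemma dcf_dl {A Γ : Type*} [CommRing A] [CommMonoid Γ] (g : Γ) (x : MonoidAlgebra A Γ) :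
    dcf g (dl A Γ x) = x.coeff g := by
  classical
  induction x using MonoidAlgebra.induction_linear with
  | zero => simp
  | add x y hx hy => simp only [map_add, hx, hy, MonoidAlgebra.coeff_add, Finsupp.add_apply]
  | single m r =>
    have h1 : MonoidAlgebra.single m r = r • MonoidAlgebra.of A Γ m := by simp [MonoidAlgebra.of]
    have h2 : ch₁ A (A' := A) Γ m * ch₂ A (A' := A) Γ m = MonoidAlgebra.of A Γ m ⊗ₜ MonoidAlgebra.of A Γ m := by
      simp [ch₁, ch₂]
    rw [h1, map_smul, map_smul, dl_of, h2, dcf_tmul]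
    by_cases h : m = g
    · subst h
      simp [MonoidAlgebra.of]
    · simp [MonoidAlgebra.of, h]

/-- **The algebraic heart of the extension theorem.** -/
theorem bijective_of_hada (hM : Sep q M) (J : Ideal C) (hJ : IsNilpotent J) {R : Type u} [CommRing R] [Algebra C R]
    (β : MonoidAlgebra C (Multiplicative M) →ₐ[C] R)
    (ρ : ∀ k, R →ₐ[C] MonoidAlgebra C (Multiplicative (Qt q M k)))
    (hβ : ∀ k b, ρ k (β b) = red q M C k b)
    (htr : ∀ k l h r, trA q M C k l h (ρ l r) = ρ k r) (hinj : ∀ r, (∀ k, ρ k r = 0) → r = 0)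
    (ρ₀ : R →ₐ[C] MonoidAlgebra (C ⧸ J) (Multiplicative M))
    (h₀ : ∀ k r, MonoidAlgebra.mapDomainAlgHom (C ⧸ J) (C ⧸ J) (pr q M k) (ρ₀ r) =
      MonoidAlgebra.mapRingHom _ (Ideal.Quotient.mk J) (ρ k r))
    (hΔ : ∀ r, ∃ z : R ⊗[C] R, ∀ k, Algebra.TensorProduct.map (ρ k) (ρ k) z = dl C _ (ρ k r)) :
    Function.Bijective β := by
  constructor
  · rw [injective_iff_map_eq_zero]
    intro b hb
    exact eq_zero_of_red hM b fun k => by rw [← hβ, hb, map_zero]
  · intro r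
    obtain ⟨b, hb⟩ := Hada.exists_finite (fun k => pr q M k) (fun k l h => tr q M k l h) (fun k l h g => tr_pr q M k l h g)
      (exists_injOn hM) (fun k (r : R) => (ρ k r).coeff) (fun k l h r => by rw [← htr k l h r]; rfl) (fun r => by
        obtain ⟨z, hz⟩ := hΔ r
        obtain ⟨s, hs⟩ := TensorProduct.exists_finset z
        refine ⟨s, fun k g => ?_⟩
        rw [← dcf_dl g (ρ k r), ← hz k, hs, map_sum, map_sum]
        rfl) J hJ (fun r => by
        obtain ⟨b, hb⟩ := MonoidAlgebra.map_surjective (M := Multiplicative M) (Ideal.Quotient.mk J).toAddMonoidHom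
          Ideal.Quotient.mk_surjective (ρ₀ r)
        refine ⟨b.coeff, fun k g => ?_⟩
        rw [← Ideal.Quotient.eq_zero_iff_mem, map_sub, sub_eq_zero]
        have h1 := congrArg (fun x => x.coeff g) (h₀ k r)
        have h2 : Ideal.Quotient.mk J ((ρ k r).coeff g) = (MonoidAlgebra.mapRingHom _ (Ideal.Quotient.mk J) (ρ k r)).coeff g := by
          rw [MonoidAlgebra.coeff_mapRingHom]
        have h3 : Ideal.Quotient.mk J (Finsupp.mapDomain (pr q M k) b.coeff g) =
            (MonoidAlgebra.mapDomainAlgHom (C ⧸ J) (C ⧸ J) (pr q M k) (ρ₀ r)).coeff g := by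
          rw [coeff_mapDomainAlgHom, ← hb]
          have h4 := Finsupp.mapDomain_mapRange (pr q M k) b.coeff (Ideal.Quotient.mk J) (map_zero _) (fun x y => map_add _ x y)
          exact (congrArg (fun f => f g) h4).symm
        rw [h2, h3, ← h1]) r
    refine ⟨MonoidAlgebra.ofCoeff b, ?_⟩
    rw [← sub_eq_zero]
    refine hinj _ fun k => ?_
    rw [map_sub, hβ, sub_eq_zero]
    apply MonoidAlgebra.coeff_injective
    exact (hb k).symm

end K18.TorsAlg
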