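import Groth.Agent.SGA3x.K18.TorsMain
import Groth.Agent.SGA3x.K9.RigidIso

/-!
# Homomorphisms out of a torus over a nilpotent thickening

`i₀ : S₀ ⟶ S` a closed immersion with nilpotent ideal, `T` an `S`-torus, `G` any `S`-group scheme, `q ≥ 2`.

* `hom_ext`: morphisms `T ⟶ Y` are determined by their values on the points of order a power of `q` and on the points with
  values over `S₀`;
* `exists_hom`: a homomorphism given on these points extends to a homomorphism `T ⟶ G`.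
-/

set_option autoImplicit false
universe u
open CategoryTheory MonoidalCategory CartesianMonoidalCategory MonObj GrpObj AlgebraicGeometry Limits

namespace K18.TorsGlob

open Groth.Agent.Sga3B Groth.Agent.Sga3B.InfConj Groth.Agent.Sga3B.BcPts Groth.Agent.Sga3B.IsoFam
open K9.Glue K18.TorsExt K18.TorsAlg

variable {S S₀ : Scheme.{u}} (i₀ : S₀ ⟶ S) [IsClosedImmersion i₀]

/-- The part over `S₀` of `Spec C` is `Spec (C ⧸ J)` with `J` a nilpotent ideal. -/
lemma exists_nilp (hn : IsNilpotent i₀.ker) {C : Type u} [CommRing C] (x : Spec (CommRingCat.of C) ⟶ S) :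
    ∃ (J : Ideal C) (_ : IsNilpotent J), Nonempty ((Over.map x).obj (pt C (C ⧸ J)) ⟶ Over.mk i₀) ∧
      ∀ X : Over (Spec (CommRingCat.of C)), ((Over.map x).obj X ⟶ Over.mk i₀) → Nonempty (X ⟶ pt C (C ⧸ J)) := by
  obtain ⟨J, e, he⟩ := IsClosedImmersion.Spec_iff.mp (inferInstance : IsClosedImmersion (pullback.snd i₀ x))
  have hJ : IsNilpotent J := by
    obtain ⟨n, hn⟩ := hn
    have h1 : (pullback.snd i₀ x).ker = i₀.ker.comap x := by
      have h2 : pullback.snd i₀ x = (pullbackSymmetry i₀ x).hom ≫ pullback.fst x i₀ := by simp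
      rw [h2, Scheme.Hom.ker_comp_of_isIso, Scheme.IdealSheafData.ker_fst_of_isClosedImmersion]
    have h3 : (Spec.map (CommRingCat.ofHom (Ideal.Quotient.mk J))).ker ^ n = ⊥ := by
      rw [← Scheme.Hom.ker_comp_of_isIso e.hom (Spec.map (CommRingCat.ofHom (Ideal.Quotient.mk J))), ← he, h1,
        ← Groth.Agent.Divis.IdealComap.comap_pow, hn, Scheme.IdealSheafData.zero_eq_bot, Scheme.IdealSheafData.comap_bot]
    refine ⟨n, ?_⟩
    let f := CommRingCat.ofHom (Ideal.Quotient.mk J)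
    have h4 := congrArg (fun I => I.ideal ⟨⊤, isAffineOpen_top _⟩) h3
    simp only [Scheme.IdealSheafData.ideal_pow, Scheme.IdealSheafData.ideal_bot, Pi.pow_apply, Pi.bot_apply,
      Scheme.Hom.ker_apply] at h4
    let ee := Scheme.ΓSpecIso (CommRingCat.of C)
    have hinj : Function.Injective ee.inv.hom := (ConcreteCategory.bijective_of_isIso ee.inv).1
    have h5 : J.map ee.inv.hom ≤ RingHom.ker ((Spec.map f).app ⊤).hom := by
      rw [Ideal.map_le_iff_le_comap]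
      intro c hc
      rw [Ideal.mem_comap, RingHom.mem_ker]
      have h6 := congr($(Scheme.ΓSpecIso_inv_naturality f) c)
      change (Scheme.ΓSpecIso (CommRingCat.of (C ⧸ J))).inv (f c) = ((Spec.map f).app ⊤) (ee.inv c) at h6
      refine h6.symm.trans ?_
      have h7 : f c = 0 := Ideal.Quotient.eq_zero_iff_mem.mpr hc
      rw [h7, map_zero]
      rfl
    have h8 : (J ^ n).map ee.inv.hom ≤ ⊥ := by
      rw [Ideal.map_pow, ← h4]
      exact Ideal.pow_right_mono h5 n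
    rw [Ideal.zero_eq_bot, eq_bot_iff]
    intro c hc
    have h9 : ee.inv.hom c = 0 := by simpa using h8 (Ideal.mem_map_of_mem _ hc)
    rw [Ideal.mem_bot]
    exact hinj (h9.trans (map_zero _).symm)
  refine ⟨J, hJ, ⟨Over.homMk (e.inv ≫ pullback.fst i₀ x) ?_⟩, ?_⟩
  · change (e.inv ≫ pullback.fst i₀ x) ≫ i₀ = Spec.map (CommRingCat.ofHom (Ideal.Quotient.mk J)) ≫ x
    rw [Category.assoc, pullback.condition, he, ← Category.assoc, ← Category.assoc, Category.assoc e.inv,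
      ← Category.assoc e.inv, e.inv_hom_id, Category.id_comp]
  · intro X t
    have h3 : t.left ≫ i₀ = X.hom ≫ x := Over.w t
    refine ⟨Over.homMk (pullback.lift t.left X.hom h3 ≫ e.hom) ?_⟩
    change (pullback.lift t.left X.hom h3 ≫ e.hom) ≫ Spec.map (CommRingCat.ofHom (Ideal.Quotient.mk J)) = X.hom
    rw [Category.assoc, ← he, pullback.lift_snd]

/-- `T` is diagonalisable over `S'`, with character group separated for the `q`-adic topology. -/
def SplitS (q : ℕ) (T : Over S) [GrpObj T] (S' : Scheme.{u}) (f : S' ⟶ S) : Prop :=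
  ∃ (M : Type) (_ : AddCommGroup M), Sep q M ∧ Nonempty (Grp.mk (Red.bc f T) ≅ Grp.mk (Red.DS S' M))

omit [IsClosedImmersion i₀] in
lemma SplitS.comp {q : ℕ} {T : Over S} [GrpObj T] {S₁ S₂ : Scheme.{u}} (g : S₂ ⟶ S₁) (f : S₁ ⟶ S)
    (h : SplitS q T S₁ f) : SplitS q T S₂ (g ≫ f) := by
  obtain ⟨M, _, hM, ⟨e⟩⟩ := h
  exact ⟨M, inferInstance, hM, ⟨BcIso.bcCompIso g f T ≪≫ BcIso.bcMapIso g e ≪≫ TorusAlgClosed.dsBcIso g M⟩⟩

theorem covers_torus {q : ℕ} (hq : 1 < q) {T : Over S} [GrpObj T] (hT : Red.IsTorus T) : Covers (AffP (SplitS q T)) := by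
  refine covers_of_fpqc SplitS.comp ?_
  obtain ⟨S', f, h1, h2, h3, h4⟩ := hT
  refine ⟨S', f, h1, h2, h3, fun s' => ?_⟩
  obtain ⟨U, hU, r, hr⟩ := h4 s'
  exact ⟨U, hU, Fin r → ℤ, inferInstance, Sep.pi fun _ => sep_int hq, hr⟩

lemma pow_comp {X G H : Over S} [GrpObj G] [GrpObj H] (x : X ⟶ G) (f : G ⟶ H) [IsMonHom f] (n : ℕ) :
    (x ^ n) ≫ f = (x ≫ f) ^ n := by
  induction n with
  | zero => rw [pow_zero, pow_zero, MonObj.one_comp]
  | succ n hn => rw [pow_succ, pow_succ, MonObj.mul_comp, hn]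

section loc

variable {q : ℕ} {T G : Over S} [GrpObj T] [GrpObj G] {C : Type u} [CommRing C] (x : Spec (CommRingCat.of C) ⟶ S)
  {J : Ideal C} (s : (Over.map x).obj (pt C (C ⧸ J)) ⟶ Over.mk i₀) {M : Type} [AddCommGroup M]
  (e : Grp.mk (Red.bc x T) ≅ Grp.mk (Red.DS (Spec (CommRingCat.of C)) M))

include s in
omit [IsClosedImmersion i₀] in
lemma dom_symm {X : Over (Spec (CommRingCat.of C))} {y : X ⟶ Red.DS (Spec (CommRingCat.of C)) M}
    (hy : Dom q (pt C (C ⧸ J)) _ X y) :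
    Dom q (Over.mk i₀) T _ ((bcEquiv x X T).symm (y ≫ e.inv.hom.hom)) := by
  rcases hy with ⟨k, hk⟩ | ⟨⟨t⟩⟩
  · refine Or.inl ⟨k, ?_⟩
    change ((bcMulEquiv x X T).symm (y ≫ e.inv.hom.hom)) ^ (q ^ k) = 1
    rw [← map_pow, ← pow_comp y (e.inv.hom.hom), hk]
    have h1 : (1 : X ⟶ Red.DS (Spec (CommRingCat.of C)) M) ≫ e.inv.hom.hom = 1 := MonObj.one_comp _
    rw [h1, map_one]
  · exact Or.inr ⟨(Over.map x).map t ≫ s⟩

/-- the partial homomorphism over an affine scheme -/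
noncomputable def locPHom (u : PHom T G (Dom q (Over.mk i₀) T)) :
    PHom (Red.DS (Spec (CommRingCat.of C)) M) (Red.bc x G) (Dom q (pt C (C ⧸ J)) _) where
  u {X} y hy := bcEquiv x X G (u.u _ (dom_symm i₀ x s e hy))
  nat {X X'} f y hy hy' := by
    rw [← comp_bcEquiv, u.nat _ _ _ ((dom_symm i₀ x s e hy).comp _)]
    refine congrArg (bcEquiv x X' G) (u.congr ?_ _ _)
    rw [← comp_bcEquiv_symm, Category.assoc]
  mul {X} y z hy hz hyz := by
    rw [← bcEquiv_mul]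
    have h1 : (bcEquiv x X T).symm ((y * z) ≫ e.inv.hom.hom) =
        (bcEquiv x X T).symm (y ≫ e.inv.hom.hom) * (bcEquiv x X T).symm (z ≫ e.inv.hom.hom) := by
      rw [MonObj.mul_comp]
      exact (bcMulEquiv x X T).symm.map_mul _ _
    congr 1
    rw [← u.mul _ _ _ _ (by rw [← h1]; exact dom_symm i₀ x s e hyz)]
    exact u.congr h1 _ _

end loc

section glob

variable {q : ℕ} {T G : Over S} [GrpObj T] [GrpObj G]

/-- **Local existence**. -/
theorem exists_fam (hn : IsNilpotent i₀.ker) (u : PHom T G (Dom q (Over.mk i₀) T)) {C : Type u} [CommRing C]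
    (x : Spec (CommRingCat.of C) ⟶ S) (hx : SplitS q T _ x) :
    ∃ Ψ : T ⊗ Over.mk x ⟶ G, AutFam.IsHomFamily T G Ψ ∧
      ∀ {X : Over S} (a : X ⟶ T) (v : X ⟶ Over.mk x) (ha : Dom q (Over.mk i₀) T X a), lift a v ≫ Ψ = u.u a ha := by
  obtain ⟨M, _, hM, ⟨e⟩⟩ := hx
  obtain ⟨J, hJ, ⟨s⟩, hs⟩ := exists_nilp i₀ hn x
  let u' := locPHom i₀ x s e u
  obtain ⟨h', hh'⟩ := TorsMain.exists_hom u' hM hJ
  have i1 : IsMonHom h' := isMonHom_of_mul _ fun X a b =>
    mul_of_phom hM (K9.RigidIso.nil_of_isNilpotent hJ) u' h' hh' a b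
  let ψ : Red.bc x T ⟶ Red.bc x G := e.hom.hom.hom ≫ h'
  have i2 : IsMonHom ψ := inferInstanceAs (IsMonHom (e.hom.hom.hom ≫ h'))
  refine ⟨fam ψ, isHomFamily_fam ψ, ?_⟩
  intro X a v ha
  rw [lift_fam, ev]
  let p := bcEquiv x (Over.mk v.left) T ((overIso v).hom ≫ a)
  have h6 : e.hom.hom.hom ≫ e.inv.hom.hom = 𝟙 _ := congrArg (fun k => k.hom.hom) e.hom_inv_id
  have hdom : Dom q (pt C (C ⧸ J)) _ _ (p ≫ e.hom.hom.hom) := by
    rcases ha with ⟨k, hk⟩ | ⟨⟨t⟩⟩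
    · refine Or.inl ⟨k, ?_⟩
      rw [← pow_comp p (e.hom.hom.hom)]
      have h1 : p ^ (q ^ k) = 1 := by
        change ((bcMulEquiv x (Over.mk v.left) T) ((overIso v).hom ≫ a)) ^ (q ^ k) = 1
        rw [← map_pow, ← TorsExt.comp_pow, hk, MonObj.comp_one, map_one]
      rw [h1]
      exact MonObj.one_comp _
    · exact Or.inr (hs (Over.mk v.left) ((overIso v).hom ≫ t))
  have h2 : p ≫ ψ = u'.u (p ≫ e.hom.hom.hom) hdom := by
    rw [← hh' _ hdom, Category.assoc]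
  change (overIso v).inv ≫ (bcEquiv x (Over.mk v.left) G).symm (p ≫ ψ) = _
  rw [h2]
  change (overIso v).inv ≫ (bcEquiv x (Over.mk v.left) G).symm (bcEquiv x (Over.mk v.left) G (u.u _ _)) = _
  rw [Equiv.symm_apply_apply, u.nat _ _ _ ((dom_symm i₀ x s e hdom).comp _)]
  apply u.congr
  rw [Category.assoc, h6, Category.comp_id]
  change (overIso v).inv ≫ (bcEquiv x (Over.mk v.left) T).symm (bcEquiv x (Over.mk v.left) T ((overIso v).hom ≫ a)) = _
  rw [Equiv.symm_apply_apply, Iso.inv_hom_id_assoc]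

/-- **Local uniqueness**. -/
theorem fam_eq (hn : IsNilpotent i₀.ker) {C : Type u} [CommRing C]
    (x : Spec (CommRingCat.of C) ⟶ S) (hx : SplitS q T _ x) {Y : Over S} {Ψ Ψ' : T ⊗ Over.mk x ⟶ Y}
    (h : ∀ (X : Over S) (a : X ⟶ T) (v : X ⟶ Over.mk x), Dom q (Over.mk i₀) T X a → lift a v ≫ Ψ = lift a v ≫ Ψ') :
    Ψ = Ψ' := by
  obtain ⟨M, _, hM, ⟨e⟩⟩ := hx
  obtain ⟨J, hJ, ⟨s⟩, hs⟩ := exists_nilp i₀ hn x
  apply K9.Rigid.unfam_injective
  have h5 : e.hom.hom.hom ≫ e.inv.hom.hom = 𝟙 _ := congrArg (fun k => k.hom.hom) e.hom_inv_id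
  have key : e.inv.hom.hom ≫ unfam (T := Over.mk x) Ψ = e.inv.hom.hom ≫ unfam (T := Over.mk x) Ψ' := by
    refine TorsExt.hom_eq hM (K9.RigidIso.nil_of_isNilpotent hJ) fun X y hy => ?_
    have e1 := comp_unfam (T := Over.mk x) Ψ (y ≫ e.inv.hom.hom)
    have e2 := comp_unfam (T := Over.mk x) Ψ' (y ≫ e.inv.hom.hom)
    rw [← Category.assoc, ← Category.assoc]
    refine e1.trans (Eq.trans ?_ e2.symm)
    exact congrArg _ (h _ _ _ (dom_symm i₀ x s e hy))
  have h6 := congrArg (fun y => e.hom.hom.hom ≫ y) key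
  simp only [← Category.assoc] at h6
  rw [h5, Category.id_comp, Category.id_comp] at h6
  exact h6

variable (hc : Covers (AffP (SplitS q T))) (hn : IsNilpotent i₀.ker)

include hc hn

/-- **Uniqueness of extensions**. -/
theorem hom_ext {Y : Over S} {a b : T ⟶ Y}
    (h : ∀ (X : Over S) (x : X ⟶ T), Dom q (Over.mk i₀) T X x → x ≫ a = x ≫ b) : a = b := by
  refine hc.hom_ext fun T' t hT => ?_
  obtain ⟨C, _, x, hx, ⟨v⟩⟩ := hT
  have h1 : fst T (Over.mk x) ≫ a = fst T (Over.mk x) ≫ b :=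
    fam_eq i₀ hn x hx fun X g w hg => by
      rw [lift_fst_assoc, lift_fst_assoc]
      exact h _ _ hg
  have h2 := congrArg (fun y => lift t v ≫ y) h1
  simpa only [lift_fst_assoc] using h2

/-- **Existence of extensions**. -/
theorem exists_hom (u : PHom T G (Dom q (Over.mk i₀) T)) :
    ∃ ψ : T ⟶ G, IsMonHom ψ ∧ ∀ {X : Over S} (x : X ⟶ T) (hx : Dom q (Over.mk i₀) T X x), x ≫ ψ = u.u x hx := by
  choose Ψ hΨ hΨ' using fun (C : Type u) (hC : CommRing C) (x : Spec (CommRingCat.of C) ⟶ S) (hx : SplitS q T _ x) =>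
    exists_fam i₀ hn u x hx
  -- independence of the choice
  have ind : ∀ (C : Type u) (hC : CommRing C) (x : Spec (CommRingCat.of C) ⟶ S) (hx : SplitS q T _ x)
      (C' : Type u) (hC' : CommRing C') (x' : Spec (CommRingCat.of C') ⟶ S) (hx' : SplitS q T _ x')
      {X : Over S} (h : X ⟶ T) (v : X ⟶ Over.mk x) (v' : X ⟶ Over.mk x'),
      lift h v ≫ Ψ C hC x hx = lift h v' ≫ Ψ C' hC' x' hx' := by
    intro C hC x hx C' hC' x' hx' X h v v'
    have hz' : ∀ (D : CommRingCat.{u}) (y : Spec D ⟶ S) (g : Over.mk y ⟶ X),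
        g ≫ lift h v ≫ Ψ C hC x hx = g ≫ lift h v' ≫ Ψ C' hC' x' hx' := by
      intro D y g
      have hy : SplitS q T (Spec (CommRingCat.of D)) y := by
        have := SplitS.comp (g ≫ v).left x hx
        have h1 : (g ≫ v).left ≫ x = y := Over.w (g ≫ v)
        rwa [h1] at this
      have h2 : (T ◁ (g ≫ v)) ≫ Ψ C hC x hx = (T ◁ (g ≫ v')) ≫ Ψ C' hC' x' hx' := by
        refine fam_eq (C := D) i₀ hn y hy ?_
        intro X a w ha
        rw [lift_whiskerLeft_assoc, lift_whiskerLeft_assoc, hΨ' C hC x hx _ _ ha, hΨ' C' hC' x' hx' _ _ ha]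
      have h3 : lift (g ≫ h) (𝟙 _) ≫ (T ◁ (g ≫ v)) ≫ Ψ C hC x hx =
          lift (g ≫ h) (𝟙 _) ≫ (T ◁ (g ≫ v')) ≫ Ψ C' hC' x' hx' := by rw [h2]
      rw [lift_whiskerLeft_assoc, lift_whiskerLeft_assoc, Category.id_comp, Category.id_comp, ← comp_lift,
        ← comp_lift, Category.assoc, Category.assoc] at h3
      exact h3
    ext1
    refine Scheme.Cover.hom_ext (X.left.affineCover) _ _ fun i => ?_
    exact congrArg (fun m => m.left) (hz' _ (X.left.affineCover.f i ≫ X.hom) (Over.homMk (X.left.affineCover.f i)))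
  have val : ∀ (X : Over S) (_ : X ⟶ T) (_ : AffP (SplitS q T) X), ∃ a : X ⟶ G, ∀ (C : Type u) (hC : CommRing C)
      (x : Spec (CommRingCat.of C) ⟶ S) (hx : SplitS q T _ x) (v : X ⟶ Over.mk x),
      a = lift ‹X ⟶ T› v ≫ Ψ C hC x hx := by
    intro X h hT
    obtain ⟨C, hC, x, hx, ⟨v⟩⟩ := hT
    exact ⟨lift h v ≫ Ψ C hC x hx, fun C' hC' x' hx' v' => ind _ _ _ _ _ _ _ _ _ _ _⟩
  choose a ha using val
  obtain ⟨ψ, hψ, -⟩ := hc.existsUnique_glue (T := T) (Y := G) a (by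
    intro T' T'' r t hT' hT''
    obtain ⟨C, hC, x, hx, ⟨v⟩⟩ := hT'
    rw [ha T' t ⟨C, hC, x, hx, ⟨v⟩⟩ C hC x hx v, ha T'' (r ≫ t) hT'' C hC x hx (r ≫ v), ← Category.assoc, comp_lift])
  have hpt : ∀ {X : Over S} (h : X ⟶ T) (C : Type u) (hC : CommRing C) (x : Spec (CommRingCat.of C) ⟶ S)
      (hx : SplitS q T _ x) (v : X ⟶ Over.mk x), h ≫ ψ = lift h v ≫ Ψ C hC x hx := by
    intro X h C hC x hx v
    rw [hψ X h ⟨C, hC, x, hx, ⟨v⟩⟩]
    exact ha _ _ _ C hC x hx v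
  refine ⟨ψ, isMonHom_of_mul _ ?_, ?_⟩
  · intro X x y
    refine hc.hom_ext fun T' t hT' => ?_
    obtain ⟨C, hC, z, hz, ⟨v⟩⟩ := hT'
    rw [← Category.assoc, MonObj.comp_mul, MonObj.comp_mul, hpt _ C hC z hz v, ← Category.assoc, ← Category.assoc,
      hpt _ C hC z hz v, hpt _ C hC z hz v]
    exact hΨ C hC z hz _ _ _ _
  · intro X x hx
    refine hc.hom_ext fun T' t' hT' => ?_
    obtain ⟨C, hC, z, hz, ⟨v⟩⟩ := hT'
    rw [← Category.assoc, hpt _ C hC z hz v, hΨ' C hC z hz _ _ (hx.comp t'), u.nat]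

end glob

end K18.TorsGlob
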