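import Groth.Agent.SGA3x.K18.TorsExt

/-!
# Existence of extensions of partial homomorphisms on a split torus
-/

set_option autoImplicit false
universe u
open CategoryTheory MonoidalCategory CartesianMonoidalCategory MonObj GrpObj AlgebraicGeometry Limits
open scoped TensorProduct

namespace K18.TorsMain

open Groth.Agent.Sga3B Groth.Agent.Sga3B.DSPts Groth.Agent.Sga3B.InfConj Groth.Agent.Sga3B.TorTransp K9.NilDS
open K18.TorsAlg K18.TorsExt

variable {C : Type u} [CommRing C] {M : Type} [AddCommGroup M] {q : ℕ} {J : Ideal C}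
  {G : Over (Spec (CommRingCat.of C))} [GrpObj G]
  (u : PHom (Red.DS (Spec (CommRingCat.of C)) M) G (Dom q (pt C (C ⧸ J)) _))

/-- the graph of a partial homomorphism -/
noncomputable def jj {X : Over (Spec (CommRingCat.of C))} (x : X ⟶ Red.DS (Spec (CommRingCat.of C)) M)
    (hx : Dom q (pt C (C ⧸ J)) _ X x) : X ⟶ G ⊗ Red.DS (Spec (CommRingCat.of C)) M := lift (u.u x hx) x

lemma comp_jj {X X' : Over (Spec (CommRingCat.of C))} (f : X' ⟶ X) (x : X ⟶ Red.DS (Spec (CommRingCat.of C)) M)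
    (hx : Dom q (pt C (C ⧸ J)) _ X x) : f ≫ jj u x hx = jj u (f ≫ x) (hx.comp f) := by
  rw [jj, jj, comp_lift, u.nat f x hx]

lemma jj_congr {X : Over (Spec (CommRingCat.of C))} {x y : X ⟶ Red.DS (Spec (CommRingCat.of C)) M} (h : x = y)
    (hx : Dom q (pt C (C ⧸ J)) _ X x) (hy : Dom q (pt C (C ⧸ J)) _ X y) : jj u x hx = jj u y hy := by
  subst h
  rfl

/-- the product of points of `G ⊗ D(M)` -/
noncomputable def mulY {X : Over (Spec (CommRingCat.of C))} (y y' : X ⟶ G ⊗ Red.DS (Spec (CommRingCat.of C)) M) :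
    X ⟶ G ⊗ Red.DS (Spec (CommRingCat.of C)) M :=
  lift ((y ≫ fst _ _) * (y' ≫ fst _ _)) ((y ≫ snd _ _) * (y' ≫ snd _ _))

lemma comp_mulY {X X' : Over (Spec (CommRingCat.of C))} (f : X' ⟶ X)
    (y y' : X ⟶ G ⊗ Red.DS (Spec (CommRingCat.of C)) M) : f ≫ mulY y y' = mulY (f ≫ y) (f ≫ y') := by
  rw [mulY, mulY, comp_lift, MonObj.comp_mul, MonObj.comp_mul]
  simp only [Category.assoc]

lemma mulY_jj {X : Over (Spec (CommRingCat.of C))} (x y : X ⟶ Red.DS (Spec (CommRingCat.of C)) M)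
    (hx : Dom q (pt C (C ⧸ J)) _ X x) (hy : Dom q (pt C (C ⧸ J)) _ X y) :
    mulY (jj u x hx) (jj u y hy) = jj u (x * y) (hx.mul (mul_comm_pt _ _) hy) := by
  rw [mulY, jj, jj, jj, lift_fst, lift_fst, lift_snd, lift_snd, u.mul x y hx hy]

section key

variable {R : Type u} [CommRing R] [Algebra C R] (jR : pt C R ⟶ G ⊗ Red.DS (Spec (CommRingCat.of C)) M)

/-- the product of the two tautological points -/
noncomputable def kap : pt C (R ⊗[C] R) ⟶ G ⊗ Red.DS (Spec (CommRingCat.of C)) M :=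
  mulY (ptMap Algebra.TensorProduct.includeLeft ≫ jR) (ptMap Algebra.TensorProduct.includeRight ≫ jR)

lemma comp_kap {E : Type u} [CommRing E] [Algebra C E] (χ : Multiplicative M →* E)
    (hχ : Dom q (pt C (C ⧸ J)) _ _ (charPt (C := C) χ)) (ρ : R →ₐ[C] E) (hρ : ptMap ρ ≫ jR = jj u (charPt χ) hχ)
    (δ : E →ₐ[C] E ⊗[C] E) (hδ : ∀ m, δ (χ m) = χ m ⊗ₜ χ m) :
    ptMap (Algebra.TensorProduct.map ρ ρ) ≫ kap jR = ptMap (δ.comp ρ) ≫ jR := by
  have e1 : ptMap (Algebra.TensorProduct.map ρ ρ) ≫ ptMap Algebra.TensorProduct.includeLeft ≫ jR =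
      ptMap (Algebra.TensorProduct.includeLeft : E →ₐ[C] E ⊗[C] E) ≫ jj u (charPt χ) hχ := by
    rw [← hρ, ← Category.assoc, ← Category.assoc, ptMap_comp, ptMap_comp]
    congr 2
    ext r
    simp
  have e2 : ptMap (Algebra.TensorProduct.map ρ ρ) ≫ ptMap Algebra.TensorProduct.includeRight ≫ jR =
      ptMap (Algebra.TensorProduct.includeRight : E →ₐ[C] E ⊗[C] E) ≫ jj u (charPt χ) hχ := by
    rw [← hρ, ← Category.assoc, ← Category.assoc, ptMap_comp, ptMap_comp]
    congr 2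
    ext r
    simp
  rw [kap, comp_mulY, e1, e2, comp_jj, comp_jj, mulY_jj, ← ptMap_comp, Category.assoc, hρ, comp_jj]
  apply jj_congr
  rw [ptMap_charPt, ptMap_charPt, ptMap_charPt, ← charPt_mul]
  congr 1
  refine MonoidHom.ext fun m => ?_
  change (χ m ⊗ₜ[C] (1 : E)) * ((1 : E) ⊗ₜ[C] χ m) = δ (χ m)
  rw [hδ, Algebra.TensorProduct.tmul_mul_tmul, _root_.mul_one, _root_.one_mul]

end key

lemma ker_pow_eq_bot {Γ : Type} [CommMonoid Γ] {N : ℕ} (hN : J ^ N = ⊥) :
    RingHom.ker (MonoidAlgebra.mapRingHom Γ (Ideal.Quotient.mk J)) ^ N = ⊥ := by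
  have h1 : RingHom.ker (MonoidAlgebra.mapRingHom Γ (Ideal.Quotient.mk J)) ≤
      J.map (algebraMap C (MonoidAlgebra C Γ)) := by
    intro x hx
    have h2 : x = x.coeff.sum (fun m r => algebraMap C (MonoidAlgebra C Γ) r * MonoidAlgebra.of C Γ m) := by
      conv_lhs => rw [← MonoidAlgebra.sum_coeff_single x]
      refine Finsupp.sum_congr fun m _ => ?_
      simp [MonoidAlgebra.of]
    rw [h2]
    refine Ideal.sum_mem _ fun m _ => Ideal.mul_mem_right _ _ (Ideal.mem_map_of_mem _ ?_)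
    rw [← Ideal.Quotient.eq_zero_iff_mem]
    exact congrArg (fun y => y.coeff m) hx
  rw [eq_bot_iff]
  refine (Ideal.pow_right_mono h1 N).trans ?_
  rw [← Ideal.map_pow, hN, Ideal.map_bot]

lemma isImmersion_jj : IsImmersion (jj u (t0 M J) (dom_t0 M q J)).left := by
  have h1 : (jj u (t0 M J) (dom_t0 M q J)).left ≫ (snd G (Red.DS (Spec (CommRingCat.of C)) M)).left =
      (ptMap (redJ M J)).left ≫ (univPt C M).left := by
    rw [← Over.comp_left, ← Over.comp_left, jj, lift_snd, t0_eq]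
  have h2 : IsClosedImmersion (ptMap (redJ M J)).left :=
    IsClosedImmersion.spec_of_surjective _ (MonoidAlgebra.map_surjective _ Ideal.Quotient.mk_surjective)
  have h3 : IsImmersion ((jj u (t0 M J) (dom_t0 M q J)).left ≫ (snd G (Red.DS (Spec (CommRingCat.of C)) M)).left) := by
    rw [h1]
    have : IsIso (univPt C M).left := ((Over.forget _).mapIso (asIso (univPt C M))).isIso_hom
    exact IsImmersion.comp _ _
  exact IsImmersion.of_comp _ (snd G (Red.DS (Spec (CommRingCat.of C)) M)).left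

/-- the closure of the graph -/
theorem exists_closure (hM : Sep q M) (hJ : IsNilpotent J) :
    ∃ (R : Type u) (_ : CommRing R) (_ : Algebra C R) (jR : pt C R ⟶ G ⊗ Red.DS (Spec (CommRingCat.of C)) M)
      (ρ₀ : R →ₐ[C] MonoidAlgebra (C ⧸ J) (Multiplicative M))
      (ρ : ∀ k, R →ₐ[C] MonoidAlgebra C (Multiplicative (Qt q M k))), IsImmersion jR.left ∧
      ptMap ρ₀ ≫ jR = jj u (t0 M J) (dom_t0 M q J) ∧ (∀ k, ptMap (ρ k) ≫ jR = jj u (tk M q C k) (dom_tk M q _ k)) ∧
      Function.Surjective ρ₀ ∧ (∀ r, ρ₀ r = 0 → IsNilpotent r) ∧ (∀ r, (∀ k, ρ k r = 0) → r = 0) := by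
  obtain ⟨N, hN⟩ := hJ
  have := isImmersion_jj u
  have w : ∀ k, Spec.map (CommRingCat.ofHom (redJ (Qt q M k) J).toRingHom) ≫
      (jj u (tk M q C k) (dom_tk M q _ k)).left =
      Spec.map (CommRingCat.ofHom (red q M (C ⧸ J) k).toRingHom) ≫ (jj u (t0 M J) (dom_t0 M q J)).left := by
    intro k
    have e1 : ptMap (redJ (Qt q M k) J) ≫ tk M q C k =
        ptMap ((red q M (C ⧸ J) k).restrictScalars C) ≫ t0 M J := by
      rw [tk, t0, ptMap_charPt, ptMap_charPt]
      congr 1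
      ext m
      simp [ofk, MonoidAlgebra.of]
    have e2 : ptMap (redJ (Qt q M k) J) ≫ jj u (tk M q C k) (dom_tk M q _ k) =
        ptMap ((red q M (C ⧸ J) k).restrictScalars C) ≫ jj u (t0 M J) (dom_t0 M q J) := by
      rw [comp_jj, comp_jj]
      exact jj_congr u e1 _ _
    exact congrArg (fun f => f.left) e2
  obtain ⟨R, ι', ρ₀, ρ, h1, h2, h3, h4, h5, h6⟩ := NilHull.exists_close
    (B₀ := CommRingCat.of (MonoidAlgebra (C ⧸ J) (Multiplicative M)))
    (jj u (t0 M J) (dom_t0 M q J)).left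
    (fun k => CommRingCat.of (MonoidAlgebra C (Multiplicative (Qt q M k))))
    (fun k => CommRingCat.of (MonoidAlgebra (C ⧸ J) (Multiplicative (Qt q M k))))
    (fun k => (jj u (tk M q C k) (dom_tk M q _ k)).left)
    (fun k => CommRingCat.ofHom (redJ (Qt q M k) J).toRingHom)
    (fun k => CommRingCat.ofHom (red q M (C ⧸ J) k).toRingHom)
    (fun k => MonoidAlgebra.map_surjective _ Ideal.Quotient.mk_surjective) N
    (fun k => ker_pow_eq_bot hN) w (fun b hb => eq_zero_of_red hM b hb)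
  · let a : C →+* R := (Spec.preimage (ι' ≫ (G ⊗ Red.DS (Spec (CommRingCat.of C)) M).hom)).hom
    let _ : Algebra C R := a.toAlgebra
    have ha : Spec.map (CommRingCat.ofHom (algebraMap C R)) = ι' ≫ (G ⊗ Red.DS (Spec (CommRingCat.of C)) M).hom :=
      Spec.map_preimage _
    let jR : pt C R ⟶ G ⊗ Red.DS (Spec (CommRingCat.of C)) M := Over.homMk ι' ha.symm
    have key : ∀ (E : Type u) [CommRing E] [Algebra C E] (f : R ⟶ CommRingCat.of E)
        (j : pt C E ⟶ G ⊗ Red.DS (Spec (CommRingCat.of C)) M), Spec.map f ≫ ι' = j.left →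
        ∃ φ : R →ₐ[C] E, (∀ r, φ r = f r) ∧ ptMap φ ≫ jR = j := by
      intro E _ _ f j hj
      obtain ⟨φ, hφ, hφ'⟩ := exists_algHom (C := C) (E := E) (R := R) f (by
        have h7 := Over.w j
        rw [← hj, Category.assoc, ← ha] at h7
        exact h7)
      refine ⟨φ, hφ, ?_⟩
      apply Over.OverMorphism.ext
      rw [← hj, Over.comp_left, hφ']
      rfl
    obtain ⟨φ₀, hφ₀, hφ₀'⟩ := key _ ρ₀ (jj u (t0 M J) (dom_t0 M q J)) h2
    choose φ hφ hφ' using fun k => key _ (ρ k) (jj u (tk M q C k) (dom_tk M q _ k)) (h3 k)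
    refine ⟨R, inferInstance, inferInstance, jR, φ₀, φ, h1, hφ₀', hφ', ?_, ?_, ?_⟩
    · intro b
      obtain ⟨r, hr⟩ := h4 b
      exact ⟨r, (hφ₀ r).trans hr⟩
    · intro r hr
      exact h5 r ((hφ₀ r).symm.trans hr)
    · intro r hr
      exact h6 r fun k => (hφ k r).symm.trans (hr k)

section final

variable {R : Type u} [CommRing R] [Algebra C R] (jR : pt C R ⟶ G ⊗ Red.DS (Spec (CommRingCat.of C)) M)

omit [GrpObj G] in
lemma ptMap_comp_congr [Mono jR] {E : Type u} [CommRing E] [Algebra C E] {φ ψ : R →ₐ[C] E}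
    (h : ptMap φ ≫ jR = ptMap ψ ≫ jR) : φ = ψ := TorsExt.ptMap_injective ((cancel_mono jR).mp h)

/-- the homomorphism `C[M] ⟶ R` -/
noncomputable def bet : MonoidAlgebra C (Multiplicative M) →ₐ[C] R :=
  MonoidAlgebra.lift C R (Multiplicative M) (ptCh (jR ≫ snd _ _))

omit [GrpObj G] in
lemma ptMap_bet : ptMap (bet jR) ≫ univPt C M = jR ≫ snd _ _ := by
  rw [bet, ← charPt_eq, charPt_ptCh]

lemma comp_bet {E : Type u} [CommRing E] [Algebra C E] (χ : Multiplicative M →* E)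
    (hχ : Dom q (pt C (C ⧸ J)) _ _ (charPt (C := C) χ)) (ρ : R →ₐ[C] E) (hρ : ptMap ρ ≫ jR = jj u (charPt χ) hχ) :
    ρ.comp (bet jR) = MonoidAlgebra.lift C E (Multiplicative M) χ := by
  apply TorsExt.ptMap_injective
  rw [← cancel_mono (univPt C M), ← ptMap_comp, Category.assoc, ptMap_bet, ← Category.assoc, hρ, jj, lift_snd, charPt_eq]

end final

/-- surjectivity of `Spec (B ⊗ B) ⟶ Spec (R ⊗ R)` -/
lemma surjective_map {R B : Type u} [CommRing R] [Algebra C R] [CommRing B] [Algebra C B] (ρ : R →ₐ[C] B)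
    (hs : Function.Surjective ρ) (hn : ∀ r, ρ r = 0 → IsNilpotent r) :
    Surjective (ptMap (Algebra.TensorProduct.map ρ ρ)).left := by
  refine NilHull.surjective_specMap _ (TensorProduct.map_surjective hs hs) fun x hx => ?_
  have h1 : x ∈ RingHom.ker (Algebra.TensorProduct.map ρ ρ) := hx
  rw [Algebra.TensorProduct.map_ker ρ ρ hs hs] at h1
  rw [← mem_nilradical]
  have h2 : (RingHom.ker ρ).map (Algebra.TensorProduct.includeLeft : R →ₐ[C] R ⊗[C] R) ≤ nilradical (R ⊗[C] R) :=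
    Ideal.map_le_iff_le_comap.mpr fun r hr => mem_nilradical.mpr ((hn r hr).map _)
  have h3 : (RingHom.ker ρ).map (Algebra.TensorProduct.includeRight : R →ₐ[C] R ⊗[C] R) ≤ nilradical (R ⊗[C] R) :=
    Ideal.map_le_iff_le_comap.mpr fun r hr => mem_nilradical.mpr ((hn r hr).map _)
  exact (sup_le h2 h3) h1

/-- **Existence of the extension.** -/
theorem exists_hom (hM : Sep q M) (hJ : IsNilpotent J) :
    ∃ h : Red.DS (Spec (CommRingCat.of C)) M ⟶ G, ∀ {X : Over (Spec (CommRingCat.of C))}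
      (x : X ⟶ Red.DS (Spec (CommRingCat.of C)) M) (hx : Dom q (pt C (C ⧸ J)) _ X x), x ≫ h = u.u x hx := by
  obtain ⟨R, _, _, jR, ρ₀, ρ, h1, h2, h3, h4, h5, h6⟩ := exists_closure u hM hJ
  have hm : Mono jR := Over.mono_of_mono_left _
  have hβ : ∀ k b, ρ k (bet jR b) = red q M C k b := by
    intro k b
    have := comp_bet u jR (ofk M q C k) (dom_tk M q _ k) (ρ k) (h3 k)
    have h7 := DFunLike.congr_fun this b
    rw [AlgHom.comp_apply] at h7
    rw [h7]
    congr 1
    refine (MonoidAlgebra.lift C _ (Multiplicative M)).symm.injective ?_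
    rw [Equiv.symm_apply_apply]
    refine MonoidHom.ext fun m => ?_
    simp [ofk, MonoidAlgebra.of]
  have hβ₀ : ρ₀.comp (bet jR) = redJ M J := by
    rw [comp_bet u jR (MonoidAlgebra.of (C ⧸ J) (Multiplicative M)) (dom_t0 M q J) ρ₀ h2]
    refine (MonoidAlgebra.lift C _ (Multiplicative M)).symm.injective ?_
    rw [Equiv.symm_apply_apply]
    refine MonoidHom.ext fun m => ?_
    simp [MonoidAlgebra.of]
  have hδk : ∀ k m, dl C _ (ofk M q C k m) = ofk M q C k m ⊗ₜ ofk M q C k m := by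
    intro k m
    rw [ofk, MonoidHom.comp_apply, dl_of]
    simp [ch₁, ch₂]
  have hδ₀ : ∀ m, dl C _ (MonoidAlgebra.of (C ⧸ J) (Multiplicative M) m) =
      MonoidAlgebra.of (C ⧸ J) (Multiplicative M) m ⊗ₜ MonoidAlgebra.of (C ⧸ J) (Multiplicative M) m := by
    intro m
    rw [dl_of]
    simp [ch₁, ch₂]
  have hbij : Function.Bijective (bet jR) := by
    refine bijective_of_hada hM J hJ (bet jR) ρ hβ (fun k l h r => ?_) h6 ρ₀ (fun k r => ?_) (fun r => ?_)
    · have : (trA q M C k l h).comp (ρ l) = ρ k := by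
        apply ptMap_comp_congr jR
        rw [← ptMap_comp, Category.assoc, h3, h3, comp_jj]
        apply jj_congr
        rw [tk, tk, ptMap_charPt]
        congr 1
        ext m
        simp [ofk, MonoidAlgebra.of, tr_pr]
      exact DFunLike.congr_fun this r
    · have : ((red q M (C ⧸ J) k).restrictScalars C).comp ρ₀ = (redJ (Qt q M k) J).comp (ρ k) := by
        apply ptMap_comp_congr jR
        rw [← ptMap_comp, ← ptMap_comp, Category.assoc, Category.assoc, h3, h2, comp_jj, comp_jj]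
        apply jj_congr
        rw [tk, t0, ptMap_charPt, ptMap_charPt]
        congr 1
        ext m
        simp [ofk, MonoidAlgebra.of]
      exact DFunLike.congr_fun this r
    · have hs := surjective_map ρ₀ h4 h5
      have e1 := comp_kap u jR (MonoidAlgebra.of (C ⧸ J) (Multiplicative M)) (dom_t0 M q J) ρ₀ h2 (dl C _) hδ₀
      obtain ⟨z, hz⟩ := NilHull.exists_close_map (R := CommRingCat.of R) (P := CommRingCat.of (R ⊗[C] R)) jR.left
        (kap jR).left (ptMap (Algebra.TensorProduct.map ρ₀ ρ₀)).left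
        (ptMap ((dl C (Multiplicative M)).comp ρ₀)).left (congrArg (fun f => f.left) e1) r
      refine ⟨z, fun k => ?_⟩
      have e2 := comp_kap u jR (ofk M q C k) (dom_tk M q _ k) (ρ k) (h3 k) (dl C _) (hδk k)
      exact hz (CommRingCat.of (MonoidAlgebra C (Multiplicative (Qt q M k)) ⊗[C] MonoidAlgebra C (Multiplicative (Qt q M k))))
        (CommRingCat.ofHom (Algebra.TensorProduct.map (ρ k) (ρ k)).toRingHom)
        (CommRingCat.ofHom ((dl C _).comp (ρ k)).toRingHom) (congrArg (fun f => f.left) e2)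
  let e : MonoidAlgebra C (Multiplicative M) ≃ₐ[C] R := AlgEquiv.ofBijective (bet jR) hbij
  obtain ⟨v, hv⟩ := exists_inv_univPt (C := C) (M := M)
  have hv' : univPt C M ≫ v = 𝟙 _ := by
    rw [← cancel_mono (univPt C M), Category.assoc, hv, Category.comp_id, Category.id_comp]
  have hval : ∀ {E : Type u} [CommRing E] [Algebra C E] (φ : MonoidAlgebra C (Multiplicative M) →ₐ[C] E)
      (ψ : R →ₐ[C] E) (_ : ψ.comp (bet jR) = φ),
      (ptMap φ ≫ univPt C M) ≫ (v ≫ ptMap (e.symm : R →ₐ[C] _) ≫ jR ≫ fst _ _) = ptMap ψ ≫ jR ≫ fst _ _ := by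
    intro E _ _ φ ψ hψ
    have h8 : φ.comp (e.symm : R →ₐ[C] _) = ψ := by
      rw [← hψ]
      ext r
      change ψ (e (e.symm r)) = ψ r
      rw [AlgEquiv.apply_symm_apply]
    rw [Category.assoc, ← Category.assoc (univPt C M), hv', Category.id_comp, ← Category.assoc, ptMap_comp, h8]
  refine ⟨v ≫ ptMap (e.symm : R →ₐ[C] _) ≫ jR ≫ fst _ _, fun {X} x hx => ?_⟩
  rcases exists_factor hx with ⟨k, y, rfl⟩ | ⟨y, rfl⟩
  · have h9 := hval (red q M C k) (ρ k) (AlgHom.ext (hβ k))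
    rw [← tk_eq, ← Category.assoc (ptMap (ρ k)), h3, jj, lift_fst] at h9
    rw [Category.assoc, h9, u.nat y (tk M q C k) (dom_tk M q _ k) hx]
  · have h9 := hval (redJ M J) ρ₀ hβ₀
    rw [← t0_eq, ← Category.assoc (ptMap ρ₀), h2, jj, lift_fst] at h9
    rw [Category.assoc, h9, u.nat y (t0 M J) (dom_t0 M q J) hx]

end K18.TorsMain
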